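import Mathlib
import Cfsg.Prelude.Def_Solvable
import Cfsg.Agent.Lib.Transfer.Basic

set_option autoImplicit false

/-!
Failure of local balance for an automorphism of prime order, in terms of its fixed points.
-/

namespace CfsgLib.ClassicalAut.Balance

open Cfsg

variable {X : Type*} [Group X] [Finite X]

/-- The fixed points of an automorphism. -/
abbrev Fix (x : MulAut X) : Subgroup X := MonoidHom.eqLocus x.toMonoidHom (MonoidHom.id X)

omit [Finite X] in
theorem mem_Fix {x : MulAut X} {k : X} : k ∈ Fix x ↔ x k = k := Iff.rfl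

omit [Finite X] in
theorem mul_conj (g : MulAut X) (k : X) : g * MulAut.conj k = MulAut.conj (g k) * g :=
  MulEquiv.ext fun y => by simp [MulAut.mul_apply]

/-- The criterion. -/
theorem pPrimeCore_ne_bot_iff (A : Subgroup (MulAut X)) (hinn : ∀ k, MulAut.conj k ∈ A)
    (hker : ∀ k : X, MulAut.conj k = 1 → k = 1) {p : ℕ} [Fact p.Prime] {x : MulAut X}
    (hxA : x ∈ A) (hord : orderOf x = p) (hfix : ∃ k : X, k ≠ 1 ∧ x k = k)
    (hM : p ∣ Nat.card (Fix x) → ∀ M : Subgroup (Fix x), M.Normal → M ≠ ⊥ → p ∣ Nat.card M)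
    (hcent : ∀ g : MulAut X, (∀ k, x k = k → g k = k) → g ∈ Subgroup.zpowers x) :
    Cfsg.pPrimeCore p ↥(A ⊓ Subgroup.centralizer {x}) ≠ ⊥ ↔ Nat.Coprime p (Nat.card (Fix x)) := by
  set C := A ⊓ Subgroup.centralizer {x}
  have hmem : ∀ k : Fix x, MulAut.conj (k : X) ∈ C := fun k => ⟨hinn _, by
    show _ ∈ Subgroup.centralizer _
    rw [Subgroup.mem_centralizer_singleton_iff, mul_conj x, show x (k : X) = k from k.2]⟩
  let ι : Fix x →* C := (MulAut.conj.comp (Fix x).subtype).codRestrict C hmem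
  have hιinj : Function.Injective ι := (injective_iff_map_eq_one _).2 fun k hk =>
    Subtype.ext (hker k (congrArg Subtype.val hk))
  have hconj : ∀ (g : C) (k : Fix x), ∃ k' : Fix x, g * ι k * g⁻¹ = ι k' ∧ (k' : X) = (g : MulAut X) k := by
    intro g k
    have hgx : (g : MulAut X) * x = x * g := Subgroup.mem_centralizer_singleton_iff.1 g.2.2
    refine ⟨⟨(g : MulAut X) k, ?_⟩, Subtype.ext ?_, rfl⟩
    · show x ((g : MulAut X) k) = (g : MulAut X) k
      rw [← MulAut.mul_apply, ← hgx, MulAut.mul_apply, show x (k : X) = k from k.2]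
    · show (g : MulAut X) * MulAut.conj (k : X) * (g : MulAut X)⁻¹ = MulAut.conj ((g : MulAut X) k)
      rw [mul_conj, mul_inv_cancel_right]
  have hn : ι.range.Normal := ⟨by
    rintro _ ⟨k, rfl⟩ g
    obtain ⟨k', hk', -⟩ := hconj g k
    exact ⟨k', hk'.symm⟩⟩
  have hcard : Nat.card ι.range = Nat.card (Fix x) :=
    (Nat.card_congr (MonoidHom.ofInjective hιinj).toEquiv).symm
  constructor
  · intro hne
    by_contra hp
    rw [(Fact.out : p.Prime).coprime_iff_not_dvd, not_not] at hp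
    apply hne
    set N := Cfsg.pPrimeCore p ↥C
    have hN : N.Normal := CfsgLib.Transfer.pPrimeCore_normal p _
    have hcop : (Nat.card N).Coprime p := CfsgLib.Transfer.pPrimeCore_coprime p
    have hbot : N.comap ι = ⊥ := by
      by_contra hb
      have h1 := hM hp (N.comap ι) (hN.comap ι) hb
      have h2 : Nat.card (N.comap ι) ∣ Nat.card N :=
        Subgroup.card_dvd_of_injective ((ι.comp (N.comap ι).subtype).codRestrict N fun y => y.2)
          fun a b e => Subtype.ext (hιinj (congrArg (fun y : N => (y : C)) e))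
      exact (Fact.out : p.Prime).coprime_iff_not_dvd.1 hcop.symm (h1.trans h2)
    refine (Subgroup.eq_bot_iff_forall _).2 fun n hnN => ?_
    have hfixn : ∀ k, x k = k → (n : MulAut X) k = k := by
      intro k hk
      obtain ⟨k', hk', hk''⟩ := hconj n ⟨k, hk⟩
      have hin : n * ι ⟨k, hk⟩ * n⁻¹ * (ι ⟨k, hk⟩)⁻¹ ∈ N := by
        have := mul_mem hnN (hN.conj_mem n⁻¹ (inv_mem hnN) (ι ⟨k, hk⟩))
        simpa [mul_assoc] using this
      rw [hk', ← map_inv, ← map_mul] at hin
      have h3 : k' * (⟨k, hk⟩ : Fix x)⁻¹ = 1 := by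
        rw [← Subgroup.mem_bot, ← hbot]
        exact hin
      rw [mul_inv_eq_one] at h3
      rw [← hk'', h3]
    obtain ⟨i, hi⟩ := Subgroup.mem_zpowers_iff.1 (hcent _ hfixn)
    have hd : orderOf n ∣ p := by
      refine orderOf_dvd_of_pow_eq_one (Subtype.ext ?_)
      show (n : MulAut X) ^ p = 1
      rw [← hi, ← zpow_natCast, ← zpow_mul, mul_comm, zpow_mul, zpow_natCast, ← hord,
        pow_orderOf_eq_one, one_zpow]
    have hd' : orderOf (⟨n, hnN⟩ : N) ∣ p := by rwa [Subgroup.orderOf_mk]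
    have h1 := Nat.dvd_gcd (orderOf_dvd_natCard (⟨n, hnN⟩ : N)) hd'
    rw [hcop, Nat.dvd_one, orderOf_eq_one_iff] at h1
    exact congrArg Subtype.val h1
  · intro hcop hbot
    obtain ⟨k, hk1, hk⟩ := hfix
    have hle : ι.range ≤ Cfsg.pPrimeCore p ↥C :=
      CfsgLib.Transfer.le_pPrimeCore hn (by rw [hcard]; exact hcop.symm)
    have h0 : ι ⟨k, hk⟩ = 1 := by
      rw [← Subgroup.mem_bot, ← hbot]
      exact hle ⟨_, rfl⟩
    exact hk1 (congrArg Subtype.val (hιinj (h0.trans (map_one ι).symm)))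

omit [Finite X] in
/-- Conjugating `x` moves its fixed points. -/
theorem fix_conj (a x : MulAut X) : Fix (a * x * a⁻¹) = (Fix x).map a.toMonoidHom := by
  ext k
  rw [Subgroup.mem_map_equiv, mem_Fix, mem_Fix, MulAut.mul_apply, MulAut.mul_apply]
  exact ⟨fun h => a.injective (h.trans (a.apply_symm_apply k).symm), fun h => by
    show a (x (a.symm k)) = k
    rw [h, a.apply_symm_apply]⟩

omit [Finite X] in
theorem hM_conj {a x : MulAut X} {p : ℕ}
    (hM : p ∣ Nat.card (Fix x) → ∀ M : Subgroup (Fix x), M.Normal → M ≠ ⊥ → p ∣ Nat.card M)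
    (hp : p ∣ Nat.card (Fix (a * x * a⁻¹))) (M : Subgroup (Fix (a * x * a⁻¹))) (hn : M.Normal)
    (hne : M ≠ ⊥) : p ∣ Nat.card M := by
  let e : Fix x ≃* Fix (a * x * a⁻¹) :=
    (a.subgroupMap (Fix x)).trans (MulEquiv.subgroupCongr (fix_conj a x).symm)
  have hne' : M.comap e.toMonoidHom ≠ ⊥ := by
    intro h
    refine hne ((Subgroup.eq_bot_iff_forall _).2 fun y hy => ?_)
    have h1 : e.symm y ∈ M.comap e.toMonoidHom := by simpa using hy
    rw [h, Subgroup.mem_bot] at h1
    simpa using congrArg e h1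
  have h2 := hM (by rwa [Nat.card_congr e.toEquiv]) _ (hn.comap _) hne'
  rwa [Nat.card_congr (e.toEquiv.subtypeEquiv (p := (· ∈ M.comap e.toMonoidHom)) (q := (· ∈ M))
    fun y => Iff.rfl)] at h2

end CfsgLib.ClassicalAut.Balance
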