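import Cfsg.Agent.Lib.ClassicalAut.Carrier
import Cfsg.Agent.Lib.FormRep.Symplectic
import Cfsg.Prelude.Def_LieTypeDatum

set_option autoImplicit false

/-!
The symplectic space and group; automorphisms of `PSp_{2m}(q)` for odd `q`.
-/

namespace CfsgLib.ClassicalAut.Symp

open Matrix Cfsg

variable {F : Type*} [Field F] {m : ℕ}

theorem sympForm_apply (u v : Fin m ⊕ Fin m → F) :
    sympForm m F u v = ∑ i, (u (.inr i) * v (.inl i) - u (.inl i) * v (.inr i)) := by
  rw [sympForm, dotProduct, Fintype.sum_sum_type, Finset.sum_sub_distrib]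
  simp only [mulVec, dotProduct, J, fromBlocks, Fintype.sum_sum_type]
  simp [Matrix.one_apply, Finset.mul_sum, neg_add_eq_sub]

theorem sympForm_add_left (u v w : Fin m ⊕ Fin m → F) :
    sympForm m F (u + v) w = sympForm m F u w + sympForm m F v w := add_dotProduct _ _ _

theorem sympForm_smul_left (a : F) (u v : Fin m ⊕ Fin m → F) :
    sympForm m F (a • u) v = a * sympForm m F u v := smul_dotProduct _ _ _

theorem sympForm_self (u : Fin m ⊕ Fin m → F) : sympForm m F u u = 0 := by
  rw [sympForm_apply]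
  exact Finset.sum_eq_zero fun i _ => by ring

theorem sympForm_swap (u v : Fin m ⊕ Fin m → F) : sympForm m F v u = -sympForm m F u v := by
  rw [sympForm_apply, sympForm_apply, ← Finset.sum_neg_distrib]
  exact Finset.sum_congr rfl fun i _ => by ring

theorem sympForm_single_inl (u : Fin m ⊕ Fin m → F) (i : Fin m) :
    sympForm m F u (Pi.single (.inl i) 1) = u (.inr i) := by
  classical
  rw [sympForm_apply, Finset.sum_eq_single i (fun j _ hj => by simp [hj]) (by simp)]
  simp

theorem sympForm_single_inr (u : Fin m ⊕ Fin m → F) (i : Fin m) :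
    sympForm m F u (Pi.single (.inr i) 1) = -u (.inl i) := by
  classical
  rw [sympForm_apply, Finset.sum_eq_single i (fun j _ hj => by simp [hj]) (by simp)]
  simp

theorem sympForm_nondeg (v : Fin m ⊕ Fin m → F) (h : ∀ u, sympForm m F u v = 0) : v = 0 := by
  funext j
  rcases j with i | i
  · have h' := h (Pi.single (.inr i) 1)
    rw [sympForm_swap, sympForm_single_inr, neg_neg] at h'
    exact h'
  · have h' := h (Pi.single (.inl i) 1)
    rw [sympForm_swap, sympForm_single_inl, neg_eq_zero] at h'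
    exact h'

/-- The symplectic space. -/
def space : Space F (Fin m ⊕ Fin m → F) where
  bar := RingEquiv.refl F
  bar_bar _ := rfl
  ε := -1
  ε_sq := by ring
  h := sympForm m F
  add_left := sympForm_add_left
  smul_left := sympForm_smul_left
  swap u v := by rw [sympForm_swap, neg_one_mul]; rfl
  nondeg := sympForm_nondeg
  tr v := ⟨0, by simp [sympForm_self]⟩
  skew_ne := ⟨1, one_ne_zero, by simp⟩

theorem skewSurj (h2 : (2 : F) ≠ 0) : (space (m := m)).SkewSurj (F := F) := fun t _ =>
  ⟨t / 2, by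
    show t / 2 - (-1) * (t / 2) = t
    rw [neg_one_mul, sub_neg_eq_add, ← add_div, ← two_mul, mul_div_cancel_left₀ t h2]⟩

theorem mem_symplecticGroup_iff_form {A : Matrix (Fin m ⊕ Fin m) (Fin m ⊕ Fin m) F} :
    A ∈ symplecticGroup (Fin m) F ↔ ∀ u v, sympForm m F (A *ᵥ u) (A *ᵥ v) = sympForm m F u v := by
  classical
  rw [SymplecticGroup.mem_iff']
  have h : ∀ u v, sympForm m F (A *ᵥ u) (A *ᵥ v) = u ⬝ᵥ ((Aᵀ * J (Fin m) F * A) *ᵥ v) := fun u v => by
    rw [sympForm, ← mulVec_mulVec, ← mulVec_mulVec, Matrix.dotProduct_mulVec u Aᵀ, vecMul_transpose]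
  constructor
  · intro hA u v
    rw [h, hA, sympForm]
  · intro hA
    ext i j
    have h' := hA (Pi.single i 1) (Pi.single j 1)
    rw [h, sympForm] at h'
    simpa using h'

variable (F m) in
/-- The coercion of the symplectic group into matrices. -/
def toMat : symplecticGroup (Fin m) F →* Matrix (Fin m ⊕ Fin m) (Fin m ⊕ Fin m) F where
  toFun g := g
  map_one' := rfl
  map_mul' _ _ := rfl

/-- The symplectic group as a representation. -/
def rep (p : ℕ) [Fact p.Prime] [CharP F p] :
    Rep (space (F := F) (m := m)) (symplecticGroup (Fin m) F) :=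
  repOfMatrix space (toMat F m) (fun _ _ h => Subtype.ext h)
    (fun _ => ⟨fun ⟨g, hg⟩ => hg ▸ ⟨mem_symplecticGroup_iff_form.1 g.2, SymplecticGroup.det_eq_one g.2⟩,
      fun h => ⟨⟨_, mem_symplecticGroup_iff_form.2 h.1⟩, rfl⟩⟩)
    FormRep.Symplectic.center_iff p

/-- The standard hyperbolic pair. -/
def frame (hm : 2 ≤ m) : Frame (space (F := F) (m := m)) where
  e := Pi.single (.inr ⟨0, by omega⟩) 1
  f := Pi.single (.inl ⟨0, by omega⟩) 1
  he := sympForm_self _
  hf := sympForm_self _
  hef := by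
    show sympForm m F _ _ = 1
    rw [sympForm_single_inl]; simp
  nontriv := ⟨Pi.single (.inl ⟨1, by omega⟩) 1, by simp, by
    show sympForm m F _ _ = 0
    rw [sympForm_single_inr]; simp, by
    show sympForm m F _ _ = 0
    rw [sympForm_single_inl]; simp⟩

variable [Finite F]

theorem dense_and_kill (hm : 2 ≤ m) (p : ℕ) [Fact p.Prime] [CharP F p] :
    (rep (F := F) (m := m) p).Dense (frame hm) ∧ (rep (F := F) (m := m) p).Kill (frame hm) := by
  obtain ⟨w, hw, h1, h3⟩ := (frame (F := F) (m := m) hm).nontriv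
  refine (rep (F := F) (m := m) p).dense_and_kill (frame hm) (w₀ := ⟨w, h1, h3⟩)
    (fun h => hw (congrArg Subtype.val h)) (sympForm_self _) fun v _ _ => ?_
  refine (AddSubgroup.eq_top_iff' _).2 fun a => AddSubgroup.subset_closure
    ⟨1, 1, 1, 1, a, ⟨1, ?_, ?_, fun u => ?_⟩, (one_smul F v).symm, ?_, (one_mul a).symm⟩
  · rw [map_one, Module.End.one_apply, one_smul]
  · rw [map_one, Module.End.one_apply, one_smul]
  · rw [map_one, map_one, one_smul, Module.End.one_apply, Module.End.one_apply]
  · rw [Space.valid_zero_iff]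
    show (-1) * a + a = 0
    ring

/-- Every automorphism of `PSp_{2m}(q)`, `q` odd, is induced by a semisimilarity. -/
theorem exists_semilinear_odd (h2 : (2 : F) ≠ 0) (hm : 2 ≤ m) (β : MulAut (PSp m F)) :
    ∃ (g : GL (Fin m ⊕ Fin m) F) (σ : F ≃+* F),
      g ∈ GSp m F ∧ IsInducedBySemilinearPSp g σ β := by
  classical
  cases nonempty_fintype F
  have := Fact.mk (CharP.char_is_prime F (ringChar F))
  obtain ⟨hd, hk⟩ := dense_and_kill (F := F) (m := m) hm (ringChar F)
  obtain ⟨s, hs⟩ := (rep (F := F) (m := m) (ringChar F)).exists_semi (ringChar F) (skewSurj h2) hd hk β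
  obtain ⟨A, κ, k, hk0, -, hform, hind⟩ :=
    exists_matrix_form _ (rep (F := F) (m := m) (ringChar F)) (toMat := toMat F m) (fun _ _ => rfl) hs
  refine ⟨A, κ, ⟨Units.mk0 k hk0, fun u v => ?_⟩, hind⟩
  have h := hform (fun i => κ.symm (u i)) (fun i => κ.symm (v i))
  simp only [κ.apply_symm_apply] at h
  refine h.trans ?_
  congr 1
  show κ (sympForm m F _ _) = sympForm m F u v
  rw [sympForm_apply, sympForm_apply, map_sum]
  exact Finset.sum_congr rfl fun i _ => by simp

end CfsgLib.ClassicalAut.Symp
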