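import Cfsg.Agent.Lib.ClassicalAut.Sylow

set_option autoImplicit false

/-!
Criteria for the density of the operators on `W`, and products of elations acting diagonally.
-/

namespace CfsgLib.ClassicalAut

variable {F : Type*} [Field F] {V : Type*} [AddCommGroup V] [Module F V]

namespace Space

variable (S : Space F V)

/-- A non-zero isotropic vector makes the isotropic vectors span. -/
theorem mem_span_isotropic {w₀ : V} (hw : S.h w₀ w₀ = 0) (hw0 : w₀ ≠ 0) (v : V) :
    v ∈ Submodule.span F {r : V | S.h r r = 0} := by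
  obtain ⟨z, hz, hwz⟩ := S.exists_partner hw hw0
  set v' := S.proj w₀ z v
  have h1 : S.h (v' + z) w₀ = S.ε := by
    rw [S.add_left, S.proj_left hw hwz, zero_add, S.swap w₀ z, hwz, map_one, mul_one]
  obtain ⟨a, ha⟩ := S.exists_isotropic_add hw h1
  have hv : v = S.h v z • w₀ + (S.ε * S.h v w₀) • z + ((v' + z + a • w₀) - z - a • w₀) := by
    rw [add_sub_right_comm, add_sub_cancel_right, add_sub_cancel_right]
    exact S.decomp w₀ z v
  have hsub : ∀ r, S.h r r = 0 → r ∈ Submodule.span F {r : V | S.h r r = 0} := fun r hr =>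
    Submodule.subset_span hr
  rw [hv]
  exact add_mem (add_mem (Submodule.smul_mem _ _ (hsub _ hw)) (Submodule.smul_mem _ _ (hsub _ hz)))
    (sub_mem (sub_mem (hsub _ ha) (hsub _ hz)) (Submodule.smul_mem _ _ (hsub _ hw)))

end Space

namespace Frame

variable {S : Space F V} (Φ : Frame S)

/-- The form restricted to `W`. -/
def sub : Space F Φ.W where
  bar := S.bar
  bar_bar := S.bar_bar
  ε := S.ε
  ε_sq := S.ε_sq
  h u v := S.h (u : V) v
  add_left u v w := S.add_left _ _ _
  smul_left a u v := S.smul_left _ _ _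
  swap u v := S.swap _ _
  nondeg v h := by
    by_contra hv
    obtain ⟨x, hx⟩ := S.exists_ne (v : V) (fun h0 => hv (Subtype.ext h0))
    have h' := h (Φ.π x)
    rw [Φ.π_coe, S.h_proj v.2.1 v.2.2, hx] at h'
    exact one_ne_zero h'
  tr v := S.tr _
  skew_ne := S.skew_ne

/-- The map `u ↦ a h(u,z) w`. -/
def rk (a : F) (w z : Φ.W) : Module.End F Φ.W where
  toFun u := (a * S.h (u : V) z) • w
  map_add' u v := by rw [Submodule.coe_add, S.add_left, mul_add, add_smul]
  map_smul' c u := by
    rw [Submodule.coe_smul, S.smul_left, RingHom.id_apply, smul_smul, mul_left_comm]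

theorem rk_apply (a : F) (w z u : Φ.W) : Φ.rk a w z u = (a * S.h (u : V) z) • w := rfl

theorem rk_mul (a b : F) (w x y z : Φ.W) :
    Φ.rk a w x * Φ.rk b y z = Φ.rk (a * b * S.h (y : V) x) w z := by
  refine LinearMap.ext fun u => ?_
  rw [Module.End.mul_apply, rk_apply, rk_apply, rk_apply, Submodule.coe_smul, S.smul_left]
  congr 1
  ring

theorem rk_add (a b : F) (w z : Φ.W) : Φ.rk (a + b) w z = Φ.rk a w z + Φ.rk b w z := by
  refine LinearMap.ext fun u => ?_
  rw [LinearMap.add_apply, rk_apply, rk_apply, rk_apply, add_mul, add_smul]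

/-- A multiplicatively closed additive group containing the symmetric rank one maps of all
isotropic vectors is everything. -/
theorem eq_top_of_isotropic [Finite F] [Finite V] (M : AddSubgroup (Module.End F Φ.W))
    (hmul : ∀ X ∈ M, ∀ Y ∈ M, X * Y ∈ M) {w₀ : Φ.W} (hw₀ : w₀ ≠ 0)
    (hiso : S.h (w₀ : V) w₀ = 0) (hM : ∀ w : Φ.W, S.h (w : V) w = 0 → ∀ a, Φ.rk a w w ∈ M) :
    M = ⊤ := by
  have hpair : ∀ w z : Φ.W, S.h (w : V) w = 0 → S.h (z : V) z = 0 → S.h (z : V) w ≠ 0 →
      ∀ a, Φ.rk a w z ∈ M := by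
    intro w z hw hz hzw a
    have h := hmul _ (hM w hw (a / S.h (z : V) w)) _ (hM z hz 1)
    rwa [rk_mul, mul_one, div_mul_cancel₀ _ hzw] at h
  have hiso2 : ∀ w z : Φ.W, S.h (w : V) w = 0 → S.h (z : V) z = 0 → ∀ a, Φ.rk a w z ∈ M := by
    intro w z hw hz a
    rcases eq_or_ne w 0 with rfl | hw0
    · convert M.zero_mem
      exact LinearMap.ext fun u => by simp [rk_apply]
    rcases eq_or_ne z 0 with rfl | hz0
    · convert M.zero_mem
      exact LinearMap.ext fun u => by simp [rk_apply, S.zero_right]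
    obtain ⟨x, hx, hxw, hxz⟩ := Φ.sub.exists_common_opposite hw hw0 hz hz0
    have hx0 : x ≠ 0 := fun h => hxw (by rw [h]; exact Φ.sub.zero_left _)
    obtain ⟨y, hy, hyx, hyz⟩ := Φ.sub.exists_common_opposite hx hx0 hz hz0
    have hyx' : S.h (y : V) x ≠ 0 := hyx
    have h := hmul _ (hpair w x hw hx hxw (a / S.h (y : V) x))
      _ (hpair y z hy hz (Φ.sub.h_swap_ne hyz) 1)
    rwa [rk_mul, mul_one, div_mul_cancel₀ _ hyx'] at h
  have hspan : ∀ v : Φ.W, v ∈ Submodule.span F {r : Φ.W | S.h (r : V) r = 0} := fun v =>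
    Φ.sub.mem_span_isotropic (w₀ := w₀) hiso hw₀ v
  have hall : ∀ w z : Φ.W, ∀ a, Φ.rk a w z ∈ M := by
    have hleft : ∀ z : Φ.W, S.h (z : V) z = 0 → ∀ w : Φ.W, ∀ a, Φ.rk a w z ∈ M := by
      intro z hz w
      induction hspan w using Submodule.span_induction with
      | mem r hr => exact hiso2 r z hr hz
      | zero =>
        intro a
        convert M.zero_mem
        exact LinearMap.ext fun u => by simp [rk_apply]
      | add r r' _ _ h h' =>
        intro a
        convert M.add_mem (h a) (h' a) using 1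
        exact LinearMap.ext fun u => by simp [rk_apply, smul_add]
      | smul c r _ h =>
        intro a
        convert h (a * c) using 1
        exact LinearMap.ext fun u => by simp [rk_apply, smul_smul, mul_right_comm]
    intro w z
    induction hspan z using Submodule.span_induction with
    | mem r hr => exact hleft r hr w
    | zero =>
      intro a
      convert M.zero_mem
      exact LinearMap.ext fun u => by simp [rk_apply, S.zero_right]
    | add r r' _ _ h h' =>
      intro a
      convert M.add_mem (h a) (h' a) using 1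
      exact LinearMap.ext fun u => by simp [rk_apply, S.add_right, mul_add, add_smul]
    | smul c r _ h =>
      intro a
      convert h (a * S.bar c) using 1
      exact LinearMap.ext fun u => by simp [rk_apply, S.smul_right, mul_assoc]
  let b := Module.Free.chooseBasis F Φ.W
  have : Module.Finite F Φ.W := Module.Finite.of_finite
  let dual : Φ.W → Module.Dual F Φ.W := fun z =>
    { toFun := fun u => S.h (u : V) z
      map_add' := fun u v => S.add_left _ _ _
      map_smul' := fun c u => S.smul_left _ _ _ }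
  have hdual : Function.Surjective dual := by
    have hinj : Function.Injective dual := fun z z' h => by
      rw [← sub_eq_zero]
      refine Φ.sub.nondeg _ fun u => ?_
      have h' := LinearMap.congr_fun h u
      show S.h (u : V) ((z - z' : Φ.W) : V) = 0
      rw [Submodule.coe_sub, S.sub_right]
      exact sub_eq_zero.2 h'
    have : Finite (Module.Dual F Φ.W) := Module.finite_of_finite F
    have hcard : Nat.card (Module.Dual F Φ.W) = Nat.card Φ.W :=
      (Nat.card_congr b.toDualEquiv.toEquiv).symm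
    exact ((Nat.bijective_iff_injective_and_card dual).2 ⟨hinj, hcard.symm⟩).2
  refine (AddSubgroup.eq_top_iff' M).2 fun L => ?_
  choose z hz using fun i => hdual (b.coord i)
  have hL : L = ∑ i, Φ.rk 1 (L (b i)) (z i) := by
    refine LinearMap.ext fun u => ?_
    rw [LinearMap.sum_apply]
    conv_lhs => rw [← b.sum_repr u, map_sum]
    refine Finset.sum_congr rfl fun i _ => ?_
    rw [map_smul, rk_apply, one_mul]
    congr 1
    exact (LinearMap.congr_fun (hz i) u).symm
  rw [hL]
  exact sum_mem fun i _ => hall _ _ 1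

end Frame

namespace Rep

variable {S : Space F V} {G : Type*} [Group G] (R : Rep S G) (Φ : Frame S)

theorem IsOp.mul {g g' : G} {c c' : F} {L L' : Module.End F Φ.W} (h : R.IsOp Φ g c L)
    (h' : R.IsOp Φ g' c' L') : R.IsOp Φ (g * g') (c * c') (L * L') := by
  obtain ⟨d, he, hf, hu⟩ := h
  obtain ⟨d', he', hf', hu'⟩ := h'
  refine ⟨d * d', ?_, ?_, fun u => ?_⟩
  · rw [map_mul, Module.End.mul_apply, he', map_smul, he, smul_smul, mul_comm]
  · rw [map_mul, Module.End.mul_apply, hf', map_smul, hf, smul_smul, mul_comm]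
  · rw [Module.End.mul_apply, hu, hu', map_smul, map_mul, map_mul, smul_smul,
      Module.End.mul_apply]

theorem exists_transvection_op {w : Φ.W} (hw : S.h (w : V) w = 0) {t : F} (ht : S.Valid 0 t) :
    ∃ g, R.IsOp Φ g 1 (1 + Φ.rk t w w) := by
  obtain ⟨g, hg⟩ := R.root (w : V) 0 t hw (S.zero_left _) ht
  refine ⟨g, 1, ?_, ?_, fun u => ?_⟩
  · rw [hg, S.E_zero_apply, S.eq_zero_symm w.2.1, mul_zero, zero_smul, add_zero, one_smul]
  · rw [hg, S.E_zero_apply, S.eq_zero_symm w.2.2, mul_zero, zero_smul, add_zero, one_smul]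
  · rw [map_one, one_smul, hg, S.E_zero_apply, LinearMap.add_apply, Module.End.one_apply,
      Submodule.coe_add, Frame.rk_apply, Submodule.coe_smul]

/-- Density and rigidity from isotropic vectors in `W`. -/
theorem dense_and_kill [Finite F] [Finite V] {w₀ : Φ.W} (hw₀ : w₀ ≠ 0)
    (hiso : S.h (w₀ : V) w₀ = 0)
    (hscal : ∀ w : Φ.W, S.h (w : V) w = 0 → w ≠ 0 → AddSubgroup.closure {a : F |
      ∃ g c L μ t, R.IsOp Φ g c L ∧ L w = μ • w ∧ S.Valid 0 t ∧ a = μ * t} = ⊤) :
    R.Dense Φ ∧ R.Kill Φ := by
  have hrk : ∀ M : AddSubgroup (Module.End F Φ.W),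
      (∀ g c L, R.IsOp Φ g c L → ∀ w t, S.h ((w : Φ.W) : V) w = 0 → S.Valid 0 t →
        L * Φ.rk t w w ∈ M) → ∀ w : Φ.W, S.h (w : V) w = 0 → ∀ a, Φ.rk a w w ∈ M := by
    intro M hM w hw a
    rcases eq_or_ne w 0 with rfl | hw0
    · convert M.zero_mem
      exact LinearMap.ext fun u => by simp [Frame.rk_apply]
    have ha : a ∈ AddSubgroup.closure {a : F |
        ∃ g c L μ t, R.IsOp Φ g c L ∧ L w = μ • w ∧ S.Valid 0 t ∧ a = μ * t} :=
      (hscal w hw hw0).symm ▸ AddSubgroup.mem_top a
    induction ha using AddSubgroup.closure_induction with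
    | mem a ha =>
      obtain ⟨g, c, L, μ, t, hL, hLw, ht, rfl⟩ := ha
      convert hM g c L hL w t hw ht using 1
      refine LinearMap.ext fun u => ?_
      rw [Module.End.mul_apply, Frame.rk_apply, Frame.rk_apply, map_smul, hLw, smul_smul]
      congr 1
      ring
    | zero =>
      convert M.zero_mem
      exact LinearMap.ext fun u => by simp [Frame.rk_apply]
    | add a b _ _ h h' => rw [Φ.rk_add]; exact M.add_mem h h'
    | neg a _ h =>
      convert M.neg_mem h using 1
      exact LinearMap.ext fun u => by simp [Frame.rk_apply]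
  constructor
  · have hmul : ∀ X ∈ AddSubgroup.closure {L | ∃ g c, R.IsOp Φ g c L},
        ∀ Y ∈ AddSubgroup.closure {L | ∃ g c, R.IsOp Φ g c L},
        X * Y ∈ AddSubgroup.closure {L | ∃ g c, R.IsOp Φ g c L} := by
      intro X hX Y hY
      induction hX, hY using AddSubgroup.closure_induction₂ with
      | mem x y hx hy =>
        obtain ⟨g, c, hx⟩ := hx
        obtain ⟨g', c', hy⟩ := hy
        exact AddSubgroup.subset_closure ⟨_, _, hx.mul R Φ hy⟩
      | zero_left y _ => rw [zero_mul]; exact AddSubgroup.zero_mem _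
      | zero_right y _ => rw [mul_zero]; exact AddSubgroup.zero_mem _
      | add_left x y z _ _ _ h h' => rw [add_mul]; exact AddSubgroup.add_mem _ h h'
      | add_right x y z _ _ _ h h' => rw [mul_add]; exact AddSubgroup.add_mem _ h h'
      | neg_left x y _ _ h =>
        convert AddSubgroup.neg_mem _ h using 1
        exact LinearMap.ext fun u => by simp
      | neg_right x y _ _ h =>
        convert AddSubgroup.neg_mem _ h using 1
        exact LinearMap.ext fun u => by simp
    refine Φ.eq_top_of_isotropic _ hmul hw₀ hiso (hrk _ fun g c L hL w t hw ht => ?_)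
    obtain ⟨g', hg'⟩ := R.exists_transvection_op Φ hw ht
    rw [show L * Φ.rk t w w = L * (1 + Φ.rk t w w) - L by rw [mul_add, mul_one, add_sub_cancel_left]]
    exact sub_mem (AddSubgroup.subset_closure ⟨_, _, hL.mul R Φ hg'⟩)
      (AddSubgroup.subset_closure ⟨g, c, hL⟩)
  · intro l _ hl
    let M : AddSubgroup (Module.End F Φ.W) :=
      { carrier := {X | ∀ u, l (X u) = 0}
        add_mem' := fun {X Y} hX hY u => by rw [LinearMap.add_apply, map_add, hX, hY, add_zero]
        zero_mem' := fun u => by simp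
        neg_mem' := fun {X} hX u => by rw [LinearMap.neg_apply, map_neg, hX, neg_zero] }
    have hM : M = ⊤ := by
      refine Φ.eq_top_of_isotropic M (fun X hX Y _ u => hX (Y u)) hw₀ hiso
        (hrk M fun g c L hL w t hw ht u => ?_)
      obtain ⟨g', hg'⟩ := R.exists_transvection_op Φ hw ht
      have h := hl g' 1 _ hg' u
      rw [map_one, mul_one, one_mul, LinearMap.add_apply, Module.End.one_apply, map_add,
        add_eq_left] at h
      rw [Module.End.mul_apply, hl g c L hL, h, mul_zero]
    refine AddMonoidHom.ext fun u => ?_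
    have h : (1 : Module.End F Φ.W) ∈ M := hM ▸ AddSubgroup.mem_top _
    exact h u

/-- A product of elations scaling two orthogonal isotropic vectors inversely. -/
theorem exists_diag {e f w z : V} (he : S.h e e = 0) (hf : S.h f f = 0) (hw : S.h w w = 0)
    (hz : S.h z z = 0) (hef : S.h e f = 1) (hwz : S.h w z = 1) (hew : S.h e w = 0)
    (hez : S.h e z = 0) (hfw : S.h f w = 0) (hfz : S.h f z = 0) {a : F} (ha : a ≠ 0) :
    ∃ g, R.ρ g e = a • e ∧ R.ρ g w = a⁻¹ • w ∧ R.ρ g f = (S.bar a)⁻¹ • f := by
  have hval : ∀ (v : V) (b : F), S.h v v = 0 → S.Valid (b • v) 0 := fun v b hv => by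
    unfold Space.Valid
    rw [S.smul_left, S.smul_right, hv, map_zero]
    ring
  have hfe : S.h f e = S.ε := by rw [S.swap, hef, map_one, mul_one]
  have hzw : S.h z w = S.ε := by rw [S.swap, hwz, map_one, mul_one]
  have hwe := S.eq_zero_symm hew
  have hze := S.eq_zero_symm hez
  have hwf := S.eq_zero_symm hfw
  have hzf := S.eq_zero_symm hfz
  choose A hA using fun b : F => R.root e ((-S.ε * S.bar b) • z) 0 he
    (by rw [S.smul_left, hze, mul_zero]) (hval z _ hz)
  choose B hB using fun b : F => R.root w ((-S.ε * S.bar b) • f) 0 hw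
    (by rw [S.smul_left, hfw, mul_zero]) (hval f _ hf)
  have hAv : ∀ b : F, R.ρ (A b) e = e ∧ R.ρ (A b) w = w + b • e ∧
      R.ρ (A b) f = f - S.bar b • z ∧ R.ρ (A b) z = z := by
    intro b
    simp only [hA, S.E_apply, S.smul_right, he, hwe, hze, hfe, hez, hwz, hfz, hz, map_mul,
      map_neg, S.bar_ε, S.bar_bar]
    refine ⟨?_, ?_, ?_, ?_⟩ <;> match_scalars <;>
      first
        | ring1
        | linear_combination b * S.ε_sq
        | linear_combination (-(S.bar b)) * S.ε_sq
  have hBv : ∀ b : F, R.ρ (B b) e = e + b • w ∧ R.ρ (B b) w = w ∧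
      R.ρ (B b) f = f ∧ R.ρ (B b) z = z - S.bar b • f := by
    intro b
    simp only [hB, S.E_apply, S.smul_right, hw, hew, hfw, hzw, hef, hwf, hzf, hf, map_mul,
      map_neg, S.bar_ε, S.bar_bar]
    refine ⟨?_, ?_, ?_, ?_⟩ <;> match_scalars <;>
      first
        | ring1
        | linear_combination b * S.ε_sq
        | linear_combination (-(S.bar b)) * S.ε_sq
  refine ⟨A a * B (-a⁻¹) * A a * (A (-1) * B 1 * A (-1)), ?_, ?_, ?_⟩ <;>
    simp only [map_mul, Module.End.mul_apply, map_add, map_sub, map_smul,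
      (hAv _).1, (hAv _).2.1, (hAv _).2.2.1, (hAv _).2.2.2,
      (hBv _).1, (hBv _).2.1, (hBv _).2.2.1, (hBv _).2.2.2] <;>
    (try simp only [map_neg, map_one, map_inv₀]) <;>
    have ha' := S.bar_ne_zero ha <;>
    match_scalars <;> field_simp <;> ring

end Rep

end CfsgLib.ClassicalAut
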