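import Cfsg.Agent.Lib.ClassicalAut.Main
import Cfsg.Agent.Lib.ClassicalAut.Dense

set_option autoImplicit false

/-!
Spaces of column vectors: matrix groups as representations, semisimilarities as matrices.
-/

namespace CfsgLib.ClassicalAut

open Matrix

variable {F : Type*} [Field F]

theorem map_comp_mulVec {ι : Type*} [Fintype ι] (κ : F ≃+* F) (A : Matrix ι ι F) (x : ι → F) :
    (fun i => κ ((A *ᵥ x) i)) = A.map κ *ᵥ fun i => κ (x i) :=
  funext fun i => RingHom.map_mulVec (κ : F →+* F) A x i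

/-- A semilinear bijection of column vectors is a matrix composed with the field map. -/
theorem exists_matrix_of_semilinear {ι : Type*} [Fintype ι] [DecidableEq ι]
    (M : (ι → F) ≃+ (ι → F)) (κ : F ≃+* F) (hM : ∀ (a : F) x, M (a • x) = κ a • M x) :
    ∃ g : GL ι F, ∀ x, M x = (g : Matrix ι ι F) *ᵥ fun i => κ (x i) := by
  let L : (ι → F) →ₗ[F] (ι → F) :=
    { toFun := fun x => M fun i => κ.symm (x i)
      map_add' := fun x y => by
        rw [← map_add]; congr 1; exact funext fun i => map_add κ.symm _ _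
      map_smul' := fun a x => by
        rw [RingHom.id_apply, ← κ.apply_symm_apply a, ← hM]
        congr 1
        exact funext fun i => by simp }
  have hinj : Function.Injective (fun x => LinearMap.toMatrix' L *ᵥ x) := by
    intro x y h
    simp only [LinearMap.toMatrix'_mulVec] at h
    have h' := M.injective h
    exact funext fun i => κ.symm.injective (congrFun h' i)
  refine ⟨Matrix.GeneralLinearGroup.mkOfDetNeZero (LinearMap.toMatrix' L) ?_, fun x => ?_⟩
  · exact ((Matrix.isUnit_iff_isUnit_det _).1 (Matrix.mulVec_injective_iff_isUnit.1 hinj)).ne_zero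
  · show M x = LinearMap.toMatrix' L *ᵥ _
    rw [LinearMap.toMatrix'_mulVec]
    show M x = M _
    congr 1
    exact funext fun i => (κ.symm_apply_apply _).symm

variable {ι : Type*} [Fintype ι] [DecidableEq ι] (S : Space F (ι → F))

theorem det_E {e u : ι → F} (he : S.h e e = 0) (hu : S.h u e = 0) {t : F} (ht : S.Valid u t)
    (p : ℕ) [Fact p.Prime] [CharP F p] : (LinearMap.toMatrix' (S.E e u t)).det = 1 := by
  obtain ⟨s, hs, hv⟩ := S.E_pow he hu ht p
  rw [CharP.cast_eq_zero, zero_smul] at hs hv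
  obtain ⟨r, hr, -⟩ := S.E_pow he (S.zero_left e) hv p
  have hr' : S.E e 0 s ^ p = 1 := by
    rw [Rep.E_zero_pow he, CharP.cast_eq_zero, zero_mul, S.E_zero_zero]
  have h : LinearMap.det (S.E e u t) ^ (p ^ 2) = 1 := by
    rw [← map_pow, pow_two, pow_mul, hs, hr', map_one]
  rw [LinearMap.det_toMatrix']
  refine sub_eq_zero.1 ((pow_eq_zero_iff (pow_ne_zero 2 (Fact.out : p.Prime).ne_zero)).1 ?_)
  rw [sub_pow_char_pow, h, one_pow, sub_self]

/-- A matrix group as a representation. -/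
def repOfMatrix {G : Type*} [Group G] (toMat : G →* Matrix ι ι F)
    (hinj : Function.Injective toMat)
    (hiff : ∀ A : Matrix ι ι F, (∃ g, toMat g = A) ↔
      (∀ x y, S.h (A *ᵥ x) (A *ᵥ y) = S.h x y) ∧ A.det = 1)
    (hcenter : ∀ g, g ∈ Subgroup.center G ↔ ∃ c : F, toMat g = c • 1)
    (p : ℕ) [Fact p.Prime] [CharP F p] : Rep S G where
  ρ := (Matrix.toLinAlgEquiv' : Matrix ι ι F ≃ₐ[F] _).toMonoidHom.comp toMat
  inj _ _ h := hinj (Matrix.toLinAlgEquiv'.injective h)
  isom g x y := ((hiff _).1 ⟨g, rfl⟩).1 x y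
  center_iff g := by
    refine (hcenter g).trans (exists_congr fun c => ?_)
    show _ ↔ Matrix.toLinAlgEquiv' (toMat g) = c • 1
    rw [← map_one (Matrix.toLinAlgEquiv' (R := F) (n := ι)), ← map_smul,
      Matrix.toLinAlgEquiv'.injective.eq_iff]
  root e u t he hu ht := by
    obtain ⟨g, hg⟩ := (hiff (LinearMap.toMatrix' (S.E e u t))).2
      ⟨fun x y => by rw [LinearMap.toMatrix'_mulVec, LinearMap.toMatrix'_mulVec, S.h_E he hu ht],
        det_E S he hu ht p⟩
    refine ⟨g, LinearMap.ext fun x => ?_⟩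
    show toMat g *ᵥ x = _
    rw [hg, LinearMap.toMatrix'_mulVec]
  conjMem m g := by
    obtain ⟨A, hA⟩ := exists_matrix_of_semilinear m.M m.κ m.map_smul
    set B := (A : Matrix ι ι F) * (toMat g).map m.κ * ((A⁻¹ : GL ι F) : Matrix ι ι F) with hB
    have hBM : ∀ x, B *ᵥ m.M x = m.M (toMat g *ᵥ x) := fun x => by
      rw [hA, hA, hB, mulVec_mulVec, Matrix.mul_assoc, Units.inv_mul, Matrix.mul_one,
        ← mulVec_mulVec, map_comp_mulVec]
    have h := (hiff (toMat g)).1 ⟨g, rfl⟩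
    obtain ⟨g', hg'⟩ := (hiff B).2 ⟨fun x y => by
      obtain ⟨x, rfl⟩ := m.M.surjective x
      obtain ⟨y, rfl⟩ := m.M.surjective y
      rw [hBM, hBM, m.map_h, m.map_h, h.1], by
      rw [hB, det_mul, det_mul, mul_right_comm, ← det_mul, Units.mul_inv, det_one, one_mul,
        show (toMat g).map m.κ = (m.κ : F →+* F).mapMatrix (toMat g) from rfl,
        ← RingHom.map_det, h.2, map_one]⟩
    refine ⟨g', fun x => ?_⟩
    show toMat g' *ᵥ m.M x = m.M (toMat g *ᵥ x)
    rw [hg', hBM]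

theorem repOfMatrix_apply {G : Type*} [Group G] (toMat : G →* Matrix ι ι F)
    (hinj : Function.Injective toMat)
    (hiff : ∀ A : Matrix ι ι F, (∃ g, toMat g = A) ↔
      (∀ x y, S.h (A *ᵥ x) (A *ᵥ y) = S.h x y) ∧ A.det = 1)
    (hcenter : ∀ g, g ∈ Subgroup.center G ↔ ∃ c : F, toMat g = c • 1)
    (p : ℕ) [Fact p.Prime] [CharP F p] (g : G) (x : ι → F) :
    (repOfMatrix S toMat hinj hiff hcenter p).ρ g x = toMat g *ᵥ x := rfl

/-- The matrix form of the main theorem. -/
theorem exists_matrix_form {G : Type*} [Group G] (R : Rep S G) {toMat : G →* Matrix ι ι F}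
    (hρ : ∀ g x, R.ρ g x = toMat g *ᵥ x) {m : S.Semi} {β : MulAut (G ⧸ Subgroup.center G)}
    (hm : R.Induced m β) :
    ∃ (A : GL ι F) (κ : F ≃+* F) (k : F), k ≠ 0 ∧ S.bar k = k ∧
      (∀ x y, S.h ((A : Matrix ι ι F) *ᵥ fun i => κ (x i)) ((A : Matrix ι ι F) *ᵥ fun i => κ (y i))
        = k * κ (S.h x y)) ∧
      ∀ s s', toMat s' = (A : Matrix ι ι F) * (toMat s).map κ * ((A⁻¹ : GL ι F) : Matrix ι ι F) →
        β (QuotientGroup.mk s) = QuotientGroup.mk s' := by
  obtain ⟨A, hA⟩ := exists_matrix_of_semilinear m.M m.κ m.map_smul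
  refine ⟨A, m.κ, m.k, m.k_ne, m.bar_k, fun x y => by rw [← hA, ← hA, m.map_h], fun s s' h => ?_⟩
  refine hm s s' fun x => ?_
  rw [hρ, hρ, h, hA, hA, mulVec_mulVec, Matrix.mul_assoc, Units.inv_mul, Matrix.mul_one,
    ← mulVec_mulVec, map_comp_mulVec]

end CfsgLib.ClassicalAut
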