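import Cfsg.Agent.Lib.ClassicalAut.Twist
import Cfsg.Agent.Lib.ClassicalAut.Carrier
import Cfsg.Agent.Lib.AutPSL.Basic

set_option autoImplicit false
set_option linter.unusedVariables false

/-!
The twisted structure of the automorphism group of a classical matrix group.
-/

namespace CfsgLib.ClassicalAut

open Matrix Subgroup

namespace Rep

variable {F : Type*} [Field F] {V : Type*} [AddCommGroup V] [Module F V]
variable {S : Space F V} {G : Type*} [Group G] (R : Rep S G)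

variable [Finite G] (p : ℕ) [Fact p.Prime] [CharP F p] [Finite V]

include p in
omit [Finite V] in
/-- A semisimilarity inducing the identity is a scalar. -/
theorem scalar_of_induced_one (Φ : Frame S) {m : S.Semi} (hm : R.Induced m 1) :
    m.κ = RingEquiv.refl F ∧ ∃ b : F, b ≠ 0 ∧ ∀ x, m.M x = b • x := by
  have hpt : ∀ r : V, r ≠ 0 → S.h r r = 0 → ∃ a : F, a ≠ 0 ∧ m.M r = a • r := by
    intro r hr0 hr
    have h := hm.map_Tb R hr
    rw [show (1 : MulAut (G ⧸ center G)).toMonoidHom = MonoidHom.id _ from rfl, Subgroup.map_id] at h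
    exact R.point_eq p hr (m.isotropic hr) (by simpa using hr0) h
  obtain ⟨a, -, hae⟩ := hpt _ Φ.e_ne Φ.he
  obtain ⟨b, hb, hbf⟩ := hpt _ Φ.f_ne Φ.hf
  have hkey : ∀ (u : Φ.W) (t : F), S.Valid (u : V) t →
      m.M (u : V) = b • (u : V) ∧ m.κ t * a = b * t := by
    intro u t ht
    obtain ⟨q, -, hqρ⟩ := R.exists_mem_Q Φ.he u.2.1 ht
    obtain ⟨k, -, hk⟩ := hpt _ (R.ρ_ne_zero q Φ.f_ne) (by rw [R.isom, Φ.hf])
    rw [hqρ, S.E_apply_partner Φ.hef (S.eq_zero_symm u.2.2), map_add, map_add, m.map_smul,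
      m.map_smul, hae, hbf, S.map_ε, map_mul, S.map_ε] at hk
    have hW : ∀ {v : V}, S.h (u : V) v = 0 → ∀ {c : F}, c ≠ 0 → m.M v = c • v →
        S.h (m.M (u : V)) v = 0 := by
      intro v huv c hc hv
      have h := m.map_h (u : V) v
      rw [huv, map_zero, mul_zero, hv, S.smul_right] at h
      exact (mul_eq_zero.1 h).resolve_left (S.bar_ne_zero hc)
    have ha0 : a ≠ 0 := fun h0 => Φ.e_ne (m.M.injective (by rw [hae, h0, zero_smul, map_zero]))
    have hW1 := hW u.2.1 ha0 hae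
    have hW2 := hW u.2.2 hb hbf
    have h1 := congrArg (fun x => S.h x Φ.e) hk
    have h2 := congrArg (fun x => S.h x Φ.f) hk
    simp only [S.add_left, S.smul_left, Φ.hef, Φ.hf, Φ.he, Φ.hfe, u.2.1, u.2.2, hW1, hW2,
      mul_zero, add_zero, zero_add, mul_one] at h1 h2
    have hkb : b = k := mul_right_cancel₀ S.ε_ne_zero h1
    subst hkb
    refine ⟨?_, mul_right_cancel₀ S.ε_ne_zero (by linear_combination h2)⟩
    have h3 := congrArg (fun x => (Φ.π x : V)) hk
    simp only [map_add, map_smul, Φ.π_e, smul_zero, add_zero, Submodule.coe_smul, Φ.π_W,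
      show Φ.π Φ.f = 0 from Subtype.ext (by
        rw [Φ.π_coe, S.proj_apply, Φ.hf, Φ.hfe, S.ε_sq]; simp), zero_add] at h3
    rw [show (Φ.π (m.M (u : V)) : V) = m.M (u : V) from S.proj_of_perp hW1 hW2] at h3
    refine smul_right_injective V S.ε_ne_zero ?_
    show S.ε • m.M (u : V) = S.ε • b • (u : V)
    rw [h3, smul_comm]
  obtain ⟨w, hw⟩ := exists_ne (0 : Φ.W)
  have hκ : m.κ = RingEquiv.refl F := RingEquiv.ext fun c => by
    have h1 := (hkey w _ (S.tr (w : V)).choose_spec).1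
    have h2 := (hkey (c • w) _ (S.tr ((c • w : Φ.W) : V)).choose_spec).1
    rw [Submodule.coe_smul, m.map_smul, h1, smul_smul, smul_smul] at h2
    have h3 := smul_left_injective F (fun h : (w : V) = 0 => hw (Subtype.ext h)) h2
    rw [mul_comm b c] at h3
    exact mul_right_cancel₀ hb h3
  refine ⟨hκ, b, hb, fun x => ?_⟩
  obtain ⟨t₀, ht₀, hskew⟩ := S.skew_ne
  have hab : a = b := by
    have h := (hkey 0 t₀ (S.valid_zero_iff.2 hskew)).2
    rw [hκ, RingEquiv.refl_apply] at h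
    exact mul_left_cancel₀ ht₀ (h.trans (mul_comm _ _))
  conv_lhs => rw [Φ.decomp x]
  conv_rhs => rw [Φ.decomp x]
  rw [map_add, map_add, m.map_smul, m.map_smul, hae, hbf, hab,
    (hkey _ _ (S.tr ((Φ.π x : Φ.W) : V)).choose_spec).1, hκ, RingEquiv.refl_apply,
    RingEquiv.refl_apply]
  module

end Rep

open CfsgLib.AutPSL (mapGL)

variable {F : Type*} [Field F] {ι : Type*} [Fintype ι] [DecidableEq ι]

/-- A classical matrix group with its group of similitudes. -/
structure Carrier (S : Space F (ι → F)) (G : Type*) [Group G] where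
  rep : Rep S G
  toMat : G →* Matrix ι ι F
  hρ : ∀ g x, rep.ρ g x = toMat g *ᵥ x
  H : Subgroup (GL ι F)
  sim : ∀ g ∈ H, ∃ k : F, k ≠ 0 ∧ S.bar k = k ∧
    ∀ x y, S.h ((g : Matrix ι ι F) *ᵥ x) ((g : Matrix ι ι F) *ᵥ y) = k * S.h x y
  mem_H : ∀ s, ∃ g ∈ H, (g : Matrix ι ι F) = toMat s
  map_H : ∀ (σ : F ≃+* F), ∀ g ∈ H, Units.map σ.toRingHom.mapMatrix.toMonoidHom g ∈ H
  bar_comm : ∀ (σ : F ≃+* F) a, S.bar (σ a) = σ (S.bar a)
  h_map : ∀ (σ : F ≃+* F) x y, S.h (fun i => σ (x i)) (fun i => σ (y i)) = σ (S.h x y)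
  factor : ∀ m : S.Semi, ∃ g ∈ H, ∃ c : F, c ≠ 0 ∧
    ∀ x, m.M x = c • ((g : Matrix ι ι F) *ᵥ fun i => m.κ (x i))

namespace Carrier

variable {S : Space F (ι → F)} {G : Type*} [Group G] (C : Carrier S G)

/-- `β` is induced by `v ↦ g σ(v)`. -/
def Ind (g : GL ι F) (σ : F ≃+* F) (β : MulAut (G ⧸ center G)) : Prop :=
  ∀ s s', C.toMat s' = (g : Matrix ι ι F) * (C.toMat s).map σ * ((g⁻¹ : GL ι F) : Matrix ι ι F) →
    β (QuotientGroup.mk s) = QuotientGroup.mk s'

/-- Applying a field automorphism to the entries. -/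
abbrev mapUnit (σ : F ≃+* F) : GL ι F →* GL ι F :=
  Units.map σ.toRingHom.mapMatrix.toMonoidHom

theorem mapUnit_coe (σ : F ≃+* F) (g : GL ι F) :
    ((mapUnit σ g : GL ι F) : Matrix ι ι F) = (g : Matrix ι ι F).map σ := rfl

/-- The semisimilarity `v ↦ g σ(v)`. -/
noncomputable def semi {g : GL ι F} (hg : g ∈ C.H) (σ : F ≃+* F) : S.Semi where
  M :=
    { toFun := fun x => (g : Matrix ι ι F) *ᵥ fun i => σ (x i)
      invFun := fun y => fun i => σ.symm ((((g⁻¹ : GL ι F) : Matrix ι ι F) *ᵥ y) i)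
      left_inv := fun x => by
        funext i
        simp [Matrix.mulVec_mulVec]
      right_inv := fun y => by
        show (g : Matrix ι ι F) *ᵥ _ = y
        simp only [σ.apply_symm_apply]
        rw [Matrix.mulVec_mulVec, ← Units.val_mul, mul_inv_cancel, Units.val_one, one_mulVec]
      map_add' := fun x y => by
        rw [← mulVec_add]
        congr 1
        funext i
        exact map_add σ _ _ }
  κ := σ
  k := (C.sim g hg).choose
  k_ne := (C.sim g hg).choose_spec.1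
  bar_k := (C.sim g hg).choose_spec.2.1
  bar_κ := C.bar_comm σ
  map_smul a x := by
    show (g : Matrix ι ι F) *ᵥ _ = σ a • ((g : Matrix ι ι F) *ᵥ _)
    rw [← mulVec_smul]
    congr 1
    funext i
    exact map_mul σ _ _
  map_h x y := by
    show S.h ((g : Matrix ι ι F) *ᵥ _) ((g : Matrix ι ι F) *ᵥ _) = _
    rw [(C.sim g hg).choose_spec.2.2, C.h_map]

theorem semi_M {g : GL ι F} (hg : g ∈ C.H) (σ : F ≃+* F) (x : ι → F) :
    (C.semi hg σ).M x = (g : Matrix ι ι F) *ᵥ fun i => σ (x i) := rfl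

theorem ind_iff {g : GL ι F} (hg : g ∈ C.H) (σ : F ≃+* F) (β : MulAut (G ⧸ center G)) :
    C.Ind g σ β ↔ C.rep.Induced (C.semi hg σ) β := by
  constructor
  · intro h s s' hx
    refine h s s' ?_
    apply Matrix.ext_of_mulVec_single
    intro j
    set y : ι → F := Pi.single j 1
    obtain ⟨x, hxy⟩ := (C.semi hg σ).M.surjective y
    have h1 := hx x
    rw [C.hρ, C.hρ, semi_M, semi_M] at h1
    rw [← hxy, semi_M, h1, mulVec_mulVec, Matrix.mul_assoc, Units.inv_mul, Matrix.mul_one,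
      ← mulVec_mulVec, map_comp_mulVec]
  · intro h s s' hs
    refine h s s' fun x => ?_
    rw [C.hρ, C.hρ, semi_M, semi_M, hs, mulVec_mulVec, Matrix.mul_assoc, Units.inv_mul,
      Matrix.mul_one, ← mulVec_mulVec, map_comp_mulVec]

theorem exists_ind {g : GL ι F} (hg : g ∈ C.H) (σ : F ≃+* F) : ∃ β, C.Ind g σ β := by
  obtain ⟨β, hβ⟩ := C.rep.exists_induced (C.semi hg σ)
  exact ⟨β, (C.ind_iff hg σ β).2 hβ⟩

theorem ind_unique {g : GL ι F} (hg : g ∈ C.H) (σ : F ≃+* F) {β β' : MulAut (G ⧸ center G)}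
    (h : C.Ind g σ β) (h' : C.Ind g σ β') : β = β' := by
  refine MulEquiv.ext fun x => ?_
  obtain ⟨s, rfl⟩ := QuotientGroup.mk_surjective x
  obtain ⟨s', hs'⟩ := C.rep.conjMem (C.semi hg σ) s
  exact (((C.ind_iff hg σ β).1 h) s s' hs').trans (((C.ind_iff hg σ β').1 h') s s' hs').symm

theorem ind_mul {g g' : GL ι F} (hg : g ∈ C.H) (hg' : g' ∈ C.H) {σ σ' : F ≃+* F}
    {β β' : MulAut (G ⧸ center G)} (h : C.Ind g σ β) (h' : C.Ind g' σ' β') :
    C.Ind (g * mapUnit σ g') (σ * σ') (β * β') := by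
  intro s s' hs
  obtain ⟨t, ht⟩ := C.rep.conjMem (C.semi hg' σ') s
  rw [MulAut.mul_apply]
  refine (congrArg β (((C.ind_iff hg' σ' β').1 h') s t ht)).trans ?_
  refine h t s' ?_
  have htm : C.toMat t = (g' : Matrix ι ι F) * (C.toMat s).map σ' *
      ((g'⁻¹ : GL ι F) : Matrix ι ι F) := by
    apply Matrix.ext_of_mulVec_single
    intro j
    obtain ⟨x, hxy⟩ := (C.semi hg' σ').M.surjective (Pi.single j 1)
    have h1 := ht x
    rw [C.hρ, C.hρ, semi_M, semi_M] at h1
    rw [← hxy, semi_M, h1, mulVec_mulVec, Matrix.mul_assoc, Units.inv_mul, Matrix.mul_one,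
      ← mulVec_mulVec, map_comp_mulVec]
  rw [hs, htm, _root_.mul_inv_rev, Units.val_mul, Units.val_mul, ← map_inv (mapUnit σ), mapUnit_coe,
    mapUnit_coe, Matrix.map_mul, Matrix.map_mul, Matrix.map_map, show (σ * σ' : F ≃+* F) =
      σ'.trans σ from rfl, show ⇑(σ'.trans σ) = σ ∘ σ' from rfl]
  simp only [Matrix.mul_assoc]

/-- The automorphism induced by a similitude. -/
noncomputable def delta : C.H →* MulAut (G ⧸ center G) :=
  MonoidHom.mk' (fun g => (C.exists_ind g.2 1).choose) fun g g' => by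
    refine C.ind_unique (g * g').2 1 (C.exists_ind (g * g').2 1).choose_spec ?_
    have h := C.ind_mul g.2 g'.2 (C.exists_ind g.2 1).choose_spec (C.exists_ind g'.2 1).choose_spec
    have he : (g : GL ι F) * mapUnit (1 : F ≃+* F) (g' : GL ι F) = ((g * g' : C.H) : GL ι F) := by
      refine congrArg ((g : GL ι F) * ·) (Units.ext ?_)
      exact Matrix.ext fun i j => rfl
    rwa [he, one_mul] at h

theorem delta_spec (g : C.H) : C.Ind g 1 (C.delta g) := (C.exists_ind g.2 1).choose_spec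

/-- The automorphism induced by a field automorphism. -/
noncomputable def fieldAut : (F ≃+* F) →* MulAut (G ⧸ center G) :=
  MonoidHom.mk' (fun σ => (C.exists_ind C.H.one_mem σ).choose) fun σ σ' => by
    refine C.ind_unique C.H.one_mem _ (C.exists_ind C.H.one_mem (σ * σ')).choose_spec ?_
    have h := C.ind_mul C.H.one_mem C.H.one_mem (C.exists_ind C.H.one_mem σ).choose_spec
      (C.exists_ind C.H.one_mem σ').choose_spec
    rwa [map_one, one_mul] at h

theorem fieldAut_spec (σ : F ≃+* F) : C.Ind 1 σ (C.fieldAut σ) :=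
  (C.exists_ind C.H.one_mem σ).choose_spec

theorem ind_eq {g : C.H} {σ : F ≃+* F} {β : MulAut (G ⧸ center G)} :
    C.Ind g σ β ↔ β = C.delta g * C.fieldAut σ := by
  have h0 : C.Ind g σ (C.delta g * C.fieldAut σ) := by
    have h := C.ind_mul g.2 C.H.one_mem (C.delta_spec g) (C.fieldAut_spec σ)
    rwa [map_one, mul_one, one_mul] at h
  exact ⟨fun h => C.ind_unique g.2 σ h h0, fun h => h ▸ h0⟩

/-- The action of field automorphisms on similitudes. -/
def mapH : (F ≃+* F) →* MulAut C.H where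
  toFun σ :=
    { toFun := fun g => ⟨mapUnit σ g, C.map_H σ g g.2⟩
      invFun := fun g => ⟨mapUnit σ.symm g, C.map_H σ.symm g g.2⟩
      left_inv := fun g => Subtype.ext (Units.ext (Matrix.ext fun i j => σ.symm_apply_apply _))
      right_inv := fun g => Subtype.ext (Units.ext (Matrix.ext fun i j => σ.apply_symm_apply _))
      map_mul' := fun a b => Subtype.ext (map_mul (mapUnit σ) _ _) }
  map_one' := MulEquiv.ext fun g => Subtype.ext (Units.ext (Matrix.ext fun i j => rfl))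
  map_mul' σ τ := MulEquiv.ext fun g => Subtype.ext (Units.ext (Matrix.ext fun i j => rfl))

theorem mapH_coe (σ : F ≃+* F) (g : C.H) : ((C.mapH σ g : C.H) : GL ι F) = mapUnit σ g := rfl

variable [Finite G] (p : ℕ) [Fact p.Prime] [CharP F p] (Φ : Frame S)

include p Φ in
theorem eq_scalar_of_eq_one {g : C.H} {σ : F ≃+* F} (h : C.delta g * C.fieldAut σ = 1) :
    σ = 1 ∧ ∃ b : F, b ≠ 0 ∧ ((g : GL ι F) : Matrix ι ι F) = b • 1 := by
  have hi := (C.ind_iff g.2 σ 1).1 (C.ind_eq.2 h.symm)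
  obtain ⟨hκ, b, hb, hM⟩ := C.rep.scalar_of_induced_one p Φ hi
  refine ⟨hκ, b, hb, Matrix.ext_of_mulVec_single fun j => ?_⟩
  have h1 := hM (Pi.single j 1)
  rw [semi_M, show σ = RingEquiv.refl F from hκ] at h1
  rw [smul_mulVec, one_mulVec]
  exact h1

omit [Finite G] in
theorem delta_eq_one_of_scalar {g : C.H} {b : F} (hg : ((g : GL ι F) : Matrix ι ι F) = b • 1) :
    C.delta g = 1 := by
  refine C.ind_unique g.2 1 (C.delta_spec g) fun s s' hs => ?_
  have hss : C.toMat s' = C.toMat s := by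
    rw [hs, hg, show (C.toMat s).map (1 : F ≃+* F) = C.toMat s from Matrix.ext fun i j => rfl,
      Matrix.smul_mul, Matrix.one_mul, Matrix.smul_mul, ← Matrix.mul_smul,
      ← Matrix.one_mul (((g : GL ι F)⁻¹ : GL ι F) : Matrix ι ι F), ← Matrix.smul_mul, ← hg,
      Units.mul_inv, Matrix.mul_one]
  rw [MulAut.one_apply, C.rep.inj (LinearMap.ext fun x => by rw [C.hρ, C.hρ, hss] :
    C.rep.ρ s' = C.rep.ρ s)]

include p Φ in
theorem delta_eq_one_iff {g : C.H} :
    C.delta g = 1 ↔ ∃ b : F, ((g : GL ι F) : Matrix ι ι F) = b • 1 := by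
  constructor
  · intro h
    obtain ⟨-, b, -, hb⟩ := C.eq_scalar_of_eq_one p Φ (g := g) (σ := 1) (by rw [h, map_one, mul_one])
    exact ⟨b, hb⟩
  · rintro ⟨b, hb⟩
    exact C.delta_eq_one_of_scalar hb

/-- The twisted structure. -/
noncomputable def twist :
    Twist (G ⧸ center G) C.H (F ≃+* F) where
  δ := C.delta
  φ := C.fieldAut
  act := C.mapH
  φ_mul_δ σ h := by
    have h1 := C.ind_mul C.H.one_mem h.2 (C.fieldAut_spec σ) (C.delta_spec h)
    rw [one_mul, mul_one, ← C.mapH_coe] at h1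
    exact (C.ind_eq (g := C.mapH σ h)).1 h1
  uniq h σ e := (C.eq_scalar_of_eq_one p Φ e).1
  inn_le := by
    rintro _ ⟨y, rfl⟩
    obtain ⟨s, rfl⟩ := QuotientGroup.mk_surjective y
    obtain ⟨g, hg, hgs⟩ := C.mem_H s
    refine ⟨⟨g, hg⟩, ?_⟩
    refine C.ind_unique hg 1 (C.delta_spec ⟨g, hg⟩) fun t t' ht => ?_
    have hinv : C.toMat s⁻¹ = ((g⁻¹ : GL ι F) : Matrix ι ι F) := by
      refine (Units.inv_eq_of_mul_eq_one_right ?_).symm
      rw [hgs, ← map_mul, mul_inv_cancel, map_one]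
    have htt : t' = s * t * s⁻¹ := C.rep.inj (LinearMap.ext fun x => by
      rw [C.hρ, C.hρ, ht, map_mul, map_mul, hinv, hgs,
        show (C.toMat t).map (1 : F ≃+* F) = C.toMat t from Matrix.ext fun i j => rfl])
    rw [htt, MulAut.conj_apply, QuotientGroup.mk_mul, QuotientGroup.mk_mul, QuotientGroup.mk_inv]

variable {C p Φ} in
omit [Finite G] in
theorem exists_form {m : S.Semi} {β : MulAut (G ⧸ center G)} (hm : C.rep.Induced m β) :
    ∃ (g : C.H) (σ : F ≃+* F), β = C.delta g * C.fieldAut σ := by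
  obtain ⟨g, hg, c, hc, hM⟩ := C.factor m
  refine ⟨⟨g, hg⟩, m.κ, C.ind_eq.1 fun s s' hs => hm s s' fun x => ?_⟩
  rw [hM, hM, C.hρ, C.hρ, mulVec_smul, hs, mulVec_mulVec, Matrix.mul_assoc, Units.inv_mul,
    Matrix.mul_one, ← mulVec_mulVec, map_comp_mulVec]

theorem full_twist (hall : ∀ β, ∃ m : S.Semi, C.rep.Induced m β) : (C.twist p Φ).Full := fun β =>
  let ⟨_, hm⟩ := hall β
  exists_form hm

include C p Φ in
theorem card_inn : Nat.card (Cfsg.Inn (G ⧸ center G)) = Nat.card (G ⧸ center G) := by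
  refine (Nat.card_congr (MonoidHom.ofInjective (f := MulAut.conj) ?_).toEquiv).symm
  rw [injective_iff_map_eq_one]
  intro y hy
  obtain ⟨s, rfl⟩ := QuotientGroup.mk_surjective y
  obtain ⟨g, hg, hgs⟩ := C.mem_H s
  have hi := C.rep.induced_toSemi s
  rw [show (Rep.mkQ s : G ⧸ center G) = (s : G ⧸ center G) from rfl, hy] at hi
  obtain ⟨-, b, -, hb⟩ := C.rep.scalar_of_induced_one p Φ hi
  exact (QuotientGroup.eq_one_iff s).2 ((C.rep.center_iff s).2 ⟨b, LinearMap.ext hb⟩)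

end Carrier

end CfsgLib.ClassicalAut
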