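import Cfsg.Agent.Lib.ClassicalAut.TwistCarrier
import Cfsg.Agent.Lib.AutPSL.Descent
import Cfsg.Prelude.Def_GeometricClasses

set_option autoImplicit false

/-!
Galois descent for similitude groups of classical forms.
-/

namespace CfsgLib.ClassicalAut

open Matrix CfsgLib.AutPSL

variable {F : Type*} [Field F] {ι : Type*} [Fintype ι] [DecidableEq ι]

/-- The scalar matrices as invertible matrices. -/
def scal : Fˣ →* GL ι F := Units.map (Matrix.scalar ι : F →+* Matrix ι ι F).toMonoidHom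

theorem scal_coe (c : Fˣ) : ((scal c : GL ι F) : Matrix ι ι F) = (c : F) • 1 := by
  show Matrix.scalar ι (c : F) = _
  rw [Matrix.scalar_apply, Matrix.smul_one_eq_diagonal]

theorem scal_mul_coe (c : Fˣ) (g : GL ι F) :
    ((scal c * g : GL ι F) : Matrix ι ι F) = (c : F) • (g : Matrix ι ι F) := by
  rw [Units.val_mul, scal_coe, Matrix.smul_mul, Matrix.one_mul]

theorem scal_comm (c : Fˣ) (g : GL ι F) : g * scal c = scal c * g := Units.ext <| by
  rw [scal_mul_coe, Units.val_mul, scal_coe, Matrix.mul_smul, Matrix.mul_one]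

theorem mapUnit_scal (σ : F ≃+* F) (c : Fˣ) :
    Carrier.mapUnit σ (scal c : GL ι F) = scal (Units.map σ.toRingHom.toMonoidHom c) := Units.ext <| by
  rw [Carrier.mapUnit_coe, scal_coe, scal_coe]
  ext i j
  by_cases h : i = j <;> simp [h]

theorem scal_injective [Nonempty ι] : Function.Injective (scal : Fˣ →* GL ι F) := fun a b h => by
  obtain ⟨i⟩ := ‹Nonempty ι›
  refine Units.ext ?_
  have h' := congrFun (congrFun (congrArg (fun g : GL ι F => (g : Matrix ι ι F)) h) i) i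
  simpa [scal_coe] using h'

theorem exists_scal_of_smul [Nonempty ι] {g : GL ι F} {b : F}
    (hg : (g : Matrix ι ι F) = b • 1) : ∃ c : Fˣ, g = scal c := by
  have hb : b ≠ 0 := by
    intro h0
    have hu : IsUnit (g : Matrix ι ι F) := ⟨g, rfl⟩
    rw [hg, h0, zero_smul] at hu
    exact not_isUnit_zero hu
  exact ⟨Units.mk0 b hb, Units.ext (by rw [hg, scal_coe, Units.val_mk0])⟩

/-- The twisted product on matrices. -/
def gnorm (σ : F ≃+* F) (g : GL ι F) : ℕ → GL ι F
  | 0 => 1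
  | k + 1 => g * Carrier.mapUnit σ (gnorm σ g k)

theorem gnorm_scal_mul (σ : F ≃+* F) (c : Fˣ) (g : GL ι F) (k : ℕ) :
    gnorm σ (scal c * g) k = scal (unorm σ k c) * gnorm σ g k := by
  induction k with
  | zero => simp [gnorm, unorm]
  | succ k ih =>
    rw [gnorm, ih, map_mul, mapUnit_scal, gnorm, mul_assoc, ← mul_assoc g, scal_comm, mul_assoc,
      ← mul_assoc, ← map_mul]
    rfl

theorem gnorm_succ' (σ : F ≃+* F) (g : GL ι F) (k : ℕ) :
    gnorm σ g (k + 1) = gnorm σ g k * Carrier.mapUnit (σ ^ k) g := by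
  induction k with
  | zero =>
    show g * Carrier.mapUnit σ (1 : GL ι F) = 1 * _
    rw [map_one, mul_one, one_mul, pow_zero]
    exact Units.ext (Matrix.ext fun i j => rfl)
  | succ k ih =>
    rw [show gnorm σ g (k + 1 + 1) = g * Carrier.mapUnit σ (gnorm σ g (k + 1)) from rfl]
    nth_rw 1 [ih]
    rw [map_mul, ← mul_assoc]
    refine congrArg _ ?_
    rw [pow_succ' σ k]
    exact Units.ext (Matrix.ext fun i j => rfl)

/-- Hilbert 90 over any finite index type. -/
theorem exists_coboundary_gl {σ : F ≃+* F} {r : ℕ} (hr : 0 < r) (hσ : orderOf σ = r)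
    (g : GL ι F) (hg : gnorm σ g r = 1) : ∃ h : GL ι F, g = h * (Carrier.mapUnit σ h)⁻¹ := by
  let e := Fintype.equivFin ι
  let φ : GL ι F ≃* GL (Fin (Fintype.card ι)) F :=
    Units.mapEquiv (Matrix.reindexAlgEquiv F F e).toMulEquiv
  have hφ : ∀ x, φ (Carrier.mapUnit σ x) = mapGL σ (φ x) := fun x =>
    Units.ext (Matrix.ext fun i j => rfl)
  have hk : ∀ k, φ (gnorm σ g k) = tnorm σ (φ g) k := by
    intro k
    induction k with
    | zero => exact map_one φ
    | succ k ih => rw [gnorm, map_mul, hφ, ih]; rfl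
  obtain ⟨h, hh⟩ := exists_coboundary hr hσ (φ g) (by rw [← hk, hg, map_one])
  refine ⟨φ.symm h, φ.injective ?_⟩
  rw [map_mul, map_inv, hφ, φ.apply_symm_apply]
  exact hh

namespace Carrier

variable {S : Space F (ι → F)} {G : Type*} [Group G] (C : Carrier S G)
variable [Finite F] [Finite G] (p : ℕ) [Fact p.Prime] [CharP F p] (Φ : Frame S) [Nonempty ι]

include p Φ in
/-- An element fixed by `σ` modulo scalars is a scalar times a fixed element. -/
theorem exists_fixed {σ : F ≃+* F} {r : ℕ}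
    (hsc : ∀ lam : Fˣ, scal lam ∈ C.H → unorm σ r lam = 1 →
      ∃ d, scal d ∈ C.H ∧ lam = d * (Units.map σ.toRingHom.toMonoidHom d)⁻¹)
    (hσ : orderOf σ = r) {g : C.H} (hg : C.delta (C.mapH σ g) = C.delta g) :
    ∃ (c : Fˣ) (g₁ : C.H), (g : GL ι F) = scal c * (g₁ : GL ι F) ∧
      mapUnit σ (g₁ : GL ι F) = g₁ := by
  have hone : C.delta (g⁻¹ * C.mapH σ g) = 1 := by rw [map_mul, map_inv, hg, inv_mul_cancel]
  obtain ⟨b, hb⟩ := (C.delta_eq_one_iff p Φ).1 hone
  obtain ⟨lam, hlam⟩ := exists_scal_of_smul hb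
  have hlam' : mapUnit σ (g : GL ι F) = scal lam * (g : GL ι F) := by
    rw [← scal_comm, ← hlam, Subgroup.coe_mul, Subgroup.coe_inv, mul_inv_cancel_left, mapH_coe]
  have hpow : ∀ k, mapUnit (σ ^ k) (g : GL ι F) = scal (unorm σ k lam) * (g : GL ι F) := by
    intro k
    induction k with
    | zero => rw [pow_zero]; exact Units.ext (by simp [unorm])
    | succ k ih =>
      rw [pow_succ', show mapUnit (σ * σ ^ k) (g : GL ι F) = mapUnit σ (mapUnit (σ ^ k) (g : GL ι F))
        from Units.ext (Matrix.ext fun i j => rfl), ih, map_mul, mapUnit_scal, hlam', ← mul_assoc,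
        ← map_mul, mul_comm (Units.map _ _) lam]
      rfl
  have hN := hpow r
  rw [← hσ, pow_orderOf_eq_one, hσ] at hN
  have hN1 : unorm σ r lam = 1 := by
    apply scal_injective (ι := ι)
    rw [map_one]
    exact mul_eq_right.1 (hN.symm.trans (Units.ext (Matrix.ext fun i j => rfl)))
  obtain ⟨d, hdm, hd⟩ := hsc lam (hlam ▸ (g⁻¹ * C.mapH σ g).2) hN1
  refine ⟨d⁻¹, ⟨scal d * (g : GL ι F), C.H.mul_mem hdm g.2⟩, ?_, ?_⟩
  · rw [← mul_assoc, ← map_mul, inv_mul_cancel, map_one, one_mul]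
  · rw [map_mul, mapUnit_scal, hlam', ← mul_assoc, ← map_mul, hd, mul_left_comm, mul_inv_cancel,
      mul_one]

include p Φ in
/-- An element of trivial twisted norm modulo scalars is a coboundary up to a scalar. -/
theorem exists_cobound {σ : F ≃+* F} {r : ℕ} (hr : 0 < r)
    (hsc : ∀ c : Fˣ, scal c ∈ C.H → σ (c : F) = c → ∃ e, scal e ∈ C.H ∧ unorm σ r e = c)
    (hσ : orderOf σ = r) {d : C.H} (hd : C.delta ((C.twist p Φ).tnorm σ d r) = 1) :
    ∃ (d' : C.H) (h : GL ι F), C.delta d' = C.delta d ∧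
      (d' : GL ι F) = h * (mapUnit σ h)⁻¹ := by
  have hk : ∀ k, (((C.twist p Φ).tnorm σ d k : C.H) : GL ι F) = gnorm σ (d : GL ι F) k := by
    intro k
    induction k with
    | zero => rfl
    | succ k ih => rw [Twist.tnorm, Subgroup.coe_mul, gnorm, ← ih]; rfl
  obtain ⟨b, hb⟩ := (C.delta_eq_one_iff p Φ).1 hd
  obtain ⟨c, hc⟩ := exists_scal_of_smul hb
  rw [hk] at hc
  have hfix : σ (c : F) = c := by
    have h1 : gnorm σ (d : GL ι F) (r + 1) = gnorm σ (d : GL ι F) r * d := by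
      rw [gnorm_succ', ← hσ, pow_orderOf_eq_one]
      exact congrArg _ (Units.ext (Matrix.ext fun i j => rfl))
    rw [gnorm, hc, mapUnit_scal, scal_comm] at h1
    exact congrArg Units.val (scal_injective (mul_right_cancel h1))
  have hcm : scal c ∈ C.H := by
    rw [← hc, ← hk]
    exact ((C.twist p Φ).tnorm σ d r).2
  obtain ⟨e, hem, he⟩ := hsc c hcm hfix
  have hem' : scal e⁻¹ ∈ C.H := by rw [map_inv]; exact C.H.inv_mem hem
  obtain ⟨h, hh⟩ := exists_coboundary_gl hr hσ (scal e⁻¹ * (d : GL ι F)) (by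
    rw [gnorm_scal_mul, hc, map_inv, he, ← map_mul, inv_mul_cancel, map_one])
  refine ⟨⟨scal e⁻¹ * (d : GL ι F), C.H.mul_mem hem' d.2⟩, h, ?_, hh⟩
  have h1 : C.delta ⟨scal e⁻¹, hem'⟩ = 1 := C.delta_eq_one_of_scalar (scal_coe _)
  calc C.delta ⟨scal e⁻¹ * (d : GL ι F), C.H.mul_mem hem' d.2⟩ = C.delta (⟨scal e⁻¹, hem'⟩ * d) := rfl
    _ = C.delta d := by rw [map_mul, h1, one_mul]

end Carrier

end CfsgLib.ClassicalAut
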