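import Cfsg.Agent.Lib.ClassicalAut.UnitarySpace
import Cfsg.Agent.Lib.ClassicalAut.TwistCarrier
import Cfsg.Agent.Lib.ClassicalAut.TwistDescent
import Cfsg.Agent.Lib.AutPSL.Split

set_option autoImplicit false

/-!
The twisted structure of `Aut(PSU_n(q))`.
-/

namespace CfsgLib.ClassicalAut

open Matrix Cfsg

/-- An element with a special matrix acts as an inner automorphism. -/
theorem Carrier.delta_eq_conj {F : Type*} [Field F] {ι : Type*} [Fintype ι] [DecidableEq ι]
    {S : Space F (ι → F)} {G : Type*} [Group G] (C : Carrier S G) {g : C.H} {s : G}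
    (hg : ((g : GL ι F) : Matrix ι ι F) = C.toMat s) :
    C.delta g = MulAut.conj (s : G ⧸ Subgroup.center G) := by
  refine C.ind_unique g.2 1 (C.delta_spec g) fun t t' ht => ?_
  have hinv : C.toMat s⁻¹ = (((g : GL ι F)⁻¹ : GL ι F) : Matrix ι ι F) := by
    refine (Units.inv_eq_of_mul_eq_one_right ?_).symm
    rw [hg, ← map_mul, mul_inv_cancel, map_one]
  have htt : t' = s * t * s⁻¹ := C.rep.inj (LinearMap.ext fun x => by
    rw [C.hρ, C.hρ, ht, map_mul, map_mul, hinv, hg,
      show (C.toMat t).map (1 : F ≃+* F) = C.toMat t from Matrix.ext fun i j => rfl])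
  rw [htt, MulAut.conj_apply, QuotientGroup.mk_mul, QuotientGroup.mk_mul, QuotientGroup.mk_inv]

namespace Unitary

variable {F : Type*} [Field F] [Finite F] {q n : ℕ} (K : Conj F q)

omit [Finite F] in
theorem bar_comm (σ : F ≃+* F) (a : F) : K.bar (σ a) = σ (K.bar a) := by
  rw [K.bar_apply, K.bar_apply, map_pow]

include K in
omit [Finite F] in
theorem herm_map (σ : F ≃+* F) (u v : Fin n → F) :
    hermForm n F q (fun i => σ (u i)) (fun i => σ (v i)) = σ (hermForm n F q u v) := by
  rw [herm_apply K, herm_apply K, map_sum]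
  exact Finset.sum_congr rfl fun i _ => by rw [bar_comm, map_mul]

omit [Finite F] in
theorem mem_GU {g : GL (Fin n) F} : g ∈ GU n F q ↔ ∀ u v, hermForm n F q
    ((g : Matrix (Fin n) (Fin n) F) *ᵥ u) ((g : Matrix (Fin n) (Fin n) F) *ᵥ v) =
      hermForm n F q u v := Iff.rfl

omit [Finite F] in
theorem form_iff {A : Matrix (Fin n) (Fin n) F} :
    (∀ u v, hermForm n F q (A *ᵥ u) (A *ᵥ v) = hermForm n F q u v) ↔ Aᵀ * A.map K.bar = 1 := by
  have key : ∀ u v, hermForm n F q (A *ᵥ u) (A *ᵥ v) =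
      u ⬝ᵥ ((Aᵀ * A.map K.bar) *ᵥ fun i => K.bar (v i)) := by
    intro u v
    rw [← mulVec_mulVec, dotProduct_mulVec u Aᵀ, vecMul_transpose, herm_apply K, ← map_comp_mulVec]
    rfl
  have hher : ∀ u v, hermForm n F q u v = u ⬝ᵥ fun i => K.bar (v i) := fun u v => herm_apply K u v
  constructor
  · intro h
    ext i j
    have h1 := h (Pi.single i 1) (Pi.single j 1)
    rw [key, hher, show (fun k => K.bar ((Pi.single j 1 : Fin n → F) k)) = Pi.single j 1 from
      funext fun k => by by_cases hk : k = j <;> simp [hk]] at h1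
    simpa [Matrix.one_apply, Pi.single_apply, eq_comm] using h1
  · intro h u v
    rw [key, hher, h, one_mulVec]

omit [Finite F] in
theorem mem_GU_iff {g : GL (Fin n) F} : g ∈ GU n F q ↔
    (g : Matrix (Fin n) (Fin n) F)ᵀ * (g : Matrix (Fin n) (Fin n) F).map K.bar = 1 :=
  mem_GU.trans (form_iff K)

theorem scal_mem_iff (hn : 0 < n) (c : Fˣ) :
    scal c ∈ GU n F q ↔ (c : F) * K.bar c = 1 := by
  rw [mem_GU_iff K, scal_coe, Matrix.map_smul' _ _ _ (map_mul K.bar),
    Matrix.map_one _ (map_zero _) (map_one _), Matrix.transpose_smul, Matrix.transpose_one,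
    Matrix.smul_mul, Matrix.one_mul, smul_smul]
  constructor
  · intro h
    simpa using congrFun (congrFun h ⟨0, hn⟩) ⟨0, hn⟩
  · intro h
    rw [h, one_smul]

/-- `SU_n` with the general unitary group. -/
def carrier (hn : 3 ≤ n) (p : ℕ) [Fact p.Prime] [CharP F p] :
    Carrier (space (n := n) K) (SU n F q) where
  rep := rep K hn p
  toMat := toMat F q n
  hρ _ _ := rfl
  H := GU n F q
  sim g hg := ⟨1, one_ne_zero, map_one _, fun x y => by
    rw [one_mul]; exact mem_GU.1 hg x y⟩
  mem_H s := ⟨Matrix.SpecialLinearGroup.toGL s.1, fun u v => s.2 u v, rfl⟩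
  map_H σ g hg := by
    refine mem_GU.2 fun u v => ?_
    obtain ⟨u, rfl⟩ : ∃ u' : Fin n → F, (fun i => σ (u' i)) = u :=
      ⟨fun i => σ.symm (u i), funext fun i => σ.apply_symm_apply _⟩
    obtain ⟨v, rfl⟩ : ∃ v' : Fin n → F, (fun i => σ (v' i)) = v :=
      ⟨fun i => σ.symm (v i), funext fun i => σ.apply_symm_apply _⟩
    show hermForm n F q ((g : Matrix (Fin n) (Fin n) F).map σ *ᵥ _)
      ((g : Matrix (Fin n) (Fin n) F).map σ *ᵥ _) = _
    rw [← map_comp_mulVec, ← map_comp_mulVec, herm_map K, herm_map K, mem_GU.1 hg]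
  bar_comm := bar_comm K
  h_map := herm_map K
  factor s := by
    obtain ⟨A, hA⟩ := exists_matrix_of_semilinear s.M s.κ s.map_smul
    obtain ⟨b, hb⟩ := K.exists_norm s.k s.bar_k
    have hb0 : b ≠ 0 := fun h => s.k_ne (by rw [← hb, h, zero_mul])
    refine ⟨scal (Units.mk0 b hb0)⁻¹ * A, mem_GU.2 fun u v => ?_, b, hb0, fun x => ?_⟩
    · have h := s.map_h (fun i => s.κ.symm (u i)) (fun i => s.κ.symm (v i))
      rw [hA, hA] at h
      simp only [RingEquiv.apply_symm_apply] at h
      rw [scal_mul_coe, smul_mulVec, smul_mulVec]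
      show (space (n := n) K).h _ _ = _
      rw [Space.smul_left, Space.smul_right, h]
      show _ * (K.bar _ * (s.k * s.κ (hermForm n F q _ _))) = _
      rw [← herm_map K, Units.val_inv_eq_inv_val, Units.val_mk0, map_inv₀, ← hb]
      simp only [RingEquiv.apply_symm_apply]
      have hbb := K.bar.map_ne_zero_iff.2 hb0
      field_simp
    · rw [hA, scal_mul_coe, smul_mulVec, smul_smul, Units.val_inv_eq_inv_val, Units.val_mk0,
        mul_inv_cancel₀ hb0, one_smul]

/-- The units of norm one. -/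
def normOne : Subgroup Fˣ := (AutPSL.unorm K.bar 2).ker

theorem mem_normOne {c : Fˣ} : c ∈ normOne K ↔ (c : F) * K.bar c = 1 := by
  rw [normOne, MonoidHom.mem_ker, Units.ext_iff]
  simp [AutPSL.unorm]

theorem card_normOne : Nat.card (normOne K) = q + 1 := by
  have h2 := K.two_le
  have hr : Nat.card (AutPSL.unorm K.bar 2).range = q - 1 := by
    rw [AutPSL.range_unorm two_pos K.orderOf_bar, AutPSL.card_fixedUnits]
    have h1 := AutPSL.card_fixedField_pow K.orderOf_bar
    rw [K.card] at h1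
    rw [Nat.pow_left_injective two_ne_zero h1]
  have h3 := Subgroup.card_eq_card_quotient_mul_card_subgroup (normOne K)
  rw [normOne, Nat.card_congr (QuotientGroup.quotientKerEquivRange _).toEquiv, hr, Nat.card_units,
    K.card] at h3
  have h5 : q ^ 2 - 1 = (q - 1) * (q + 1) := by rw [mul_comm, ← Nat.sq_sub_sq, one_pow]
  rw [h5] at h3
  exact (Nat.eq_of_mul_eq_mul_left (by omega) h3).symm

variable (n) in
/-- The determinant on the general unitary group. -/
def det1 : GU n F q →* normOne K :=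
  (GeneralLinearGroup.det.comp (GU n F q).subtype).codRestrict _ fun g => by
    rw [mem_normOne]
    show ((g : GL (Fin n) F) : Matrix (Fin n) (Fin n) F).det *
      K.bar ((g : GL (Fin n) F) : Matrix (Fin n) (Fin n) F).det = 1
    have h := congrArg Matrix.det ((mem_GU_iff K).1 g.2)
    rw [det_mul, det_transpose, det_one] at h
    rw [show K.bar ((g : GL (Fin n) F) : Matrix (Fin n) (Fin n) F).det =
      (((g : GL (Fin n) F) : Matrix (Fin n) (Fin n) F).map K.bar).det from
        RingHom.map_det K.bar.toRingHom _]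
    exact h

/-- `diag(c, 1, …, 1)`. -/
def diag1 (hn : 0 < n) (c : normOne K) : GU n F q :=
  ⟨AutPSL.detGL ⟨0, hn⟩ (c : Fˣ), by
    rw [mem_GU_iff K]
    show (Matrix.diagonal _)ᵀ * (Matrix.diagonal _).map K.bar = 1
    rw [Matrix.diagonal_transpose, Matrix.diagonal_map (map_zero _),
      Matrix.diagonal_mul_diagonal, ← Matrix.diagonal_one]
    congr 1
    funext i
    by_cases h : i = (⟨0, hn⟩ : Fin n)
    · subst h; simpa using (mem_normOne K).1 c.2
    · simp [Function.update_of_ne h]⟩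

theorem det1_diag1 (hn : 0 < n) (c : normOne K) : det1 n K (diag1 K hn c) = c :=
  Subtype.ext (AutPSL.det_detGL _ _)

variable (n) in
/-- The determinant modulo `n`-th powers. -/
noncomputable def nu : GU n F q →* normOne K ⧸ (powMonoidHom n : normOne K →* normOne K).range :=
  (QuotientGroup.mk' _).comp (det1 n K)

theorem nu_surjective (hn : 0 < n) : Function.Surjective (nu n K) :=
  (QuotientGroup.mk'_surjective _).comp fun c => ⟨_, det1_diag1 K hn c⟩

variable (p : ℕ) [Fact p.Prime] [CharP F p]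

/-- The twisted structure. -/
noncomputable def twist (hn : 3 ≤ n) : Twist (PSU n F q) (GU n F q) (F ≃+* F) :=
  (carrier K hn p).twist p (exists_frame K hn).some

theorem full_twist (hn : 3 ≤ n) (h32 : ¬ (n = 3 ∧ q = 2)) : (twist K p hn).Full :=
  (carrier K hn p).full_twist p _ (exists_semi K p hn h32)

include K p in
theorem inndiag_eq (hn : 3 ≤ n) : inndiagPSU n F q = (twist K p hn).δ.range := by
  refine le_antisymm ((Subgroup.closure_le _).2 ?_) ?_
  · rintro β ⟨g, hg, hβ⟩
    refine ⟨⟨g, hg⟩, ?_⟩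
    exact ((carrier K hn p).ind_unique hg 1 hβ ((carrier K hn p).delta_spec ⟨g, hg⟩)).symm
  · rintro _ ⟨g, rfl⟩
    exact Subgroup.subset_closure ⟨g, g.2, (carrier K hn p).delta_spec g⟩

theorem isInnerDiagonal_delta (hn : 3 ≤ n) (g : GU n F q) :
    IsInnerDiagonalAutPSU ((twist K p hn).δ g) :=
  ⟨g, g.2, (carrier K hn p).delta_spec g⟩

theorem std_iff (hn : 3 ≤ n) (σ : F ≃+* F) (β : MulAut (PSU n F q)) :
    IsFieldAutPSUOf σ β ↔ β = (twist K p hn).φ σ := by
  have h0 : ∀ γ : MulAut (PSU n F q),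
      IsFieldAutPSUOf σ γ ↔ (carrier K hn p).Ind 1 σ γ := fun γ => by
    unfold IsFieldAutPSUOf Carrier.Ind
    simp only [inv_one, Units.val_one, Matrix.one_mul, Matrix.mul_one]
    rfl
  rw [h0]
  exact ⟨fun h => (carrier K hn p).ind_unique (Subgroup.one_mem _) σ h
      ((carrier K hn p).fieldAut_spec σ),
    fun h => h ▸ (carrier K hn p).fieldAut_spec σ⟩

include K p in
theorem gamma_top (hn : 3 ≤ n) (h32 : ¬ (n = 3 ∧ q = 2)) : gammaPSU n F q = ⊤ := by
  refine (Subgroup.eq_top_iff' _).2 fun β => Subgroup.subset_closure ?_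
  obtain ⟨g, σ, hβ⟩ := full_twist K p hn h32 β
  exact ⟨g, σ, g.2, ((carrier K hn p).ind_eq (g := g)).2 hβ⟩

theorem nu_eq_one_iff (hn : 3 ≤ n) (g : GU n F q) :
    nu n K g = 1 ↔ (twist K p hn).δ g ∈ Cfsg.Inn (PSU n F q) := by
  have key : nu n K g = 1 ↔ ∃ b : normOne K, b ^ n = det1 n K g := QuotientGroup.eq_one_iff _
  rw [key]
  constructor
  · rintro ⟨b, hb⟩
    have hb' : ((b⁻¹ : normOne K) : Fˣ) * K.bar ((b⁻¹ : normOne K) : Fˣ) = (1 : F) :=
      (mem_normOne K).1 (b⁻¹).2
    let h : GU n F q := ⟨scal ((b⁻¹ : normOne K) : Fˣ),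
      (scal_mem_iff K (by omega) _).2 hb'⟩ * g
    have hdet : (((h : GL (Fin n) F)) : Matrix (Fin n) (Fin n) F).det = 1 := by
      show (((scal ((b⁻¹ : normOne K) : Fˣ) * (g : GL (Fin n) F) : GL (Fin n) F)) :
        Matrix (Fin n) (Fin n) F).det = 1
      have h1 : (((b : normOne K) : Fˣ) : F) ^ n =
          ((g : GL (Fin n) F) : Matrix (Fin n) (Fin n) F).det :=
        congrArg (fun c : normOne K => ((c : Fˣ) : F)) hb
      rw [scal_mul_coe, det_smul, Fintype.card_fin, ← h1, ← mul_pow, Subgroup.coe_inv,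
        Units.inv_mul, one_pow]
    refine ⟨(⟨⟨_, hdet⟩, h.2⟩ : SU n F q), ?_⟩
    refine ((carrier K hn p).delta_eq_conj (g := h) rfl).symm.trans ?_
    show (carrier K hn p).delta _ = (carrier K hn p).delta g
    erw [map_mul, (carrier K hn p).delta_eq_one_of_scalar (scal_coe _), one_mul]
  · rintro ⟨y, hy⟩
    obtain ⟨s, rfl⟩ := QuotientGroup.mk_surjective y
    let gs : GU n F q := ⟨Matrix.SpecialLinearGroup.toGL s.1, fun u v => s.2 u v⟩
    have h1 : (carrier K hn p).delta (gs⁻¹ * g) = 1 := by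
      erw [map_mul, map_inv, (carrier K hn p).delta_eq_conj (g := gs) (s := s) rfl]
      show _ * (twist K p hn).δ g = 1
      rw [← hy, inv_mul_cancel]
    obtain ⟨b, hb⟩ := ((carrier K hn p).delta_eq_one_iff p (exists_frame K hn).some).1 h1
    have : Nonempty (Fin n) := ⟨⟨0, by omega⟩⟩
    obtain ⟨c, hc⟩ := exists_scal_of_smul hb
    have hcmem : c ∈ normOne K :=
      (mem_normOne K).2 ((scal_mem_iff K (by omega) c).1 (hc ▸ (gs⁻¹ * g).2))
    refine ⟨⟨c, hcmem⟩, ?_⟩
    have hg : g = gs * (gs⁻¹ * g) := by rw [mul_inv_cancel_left]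
    rw [hg, map_mul]
    refine Subtype.ext ?_
    show c ^ n = GeneralLinearGroup.det (Matrix.SpecialLinearGroup.toGL s.1) *
      GeneralLinearGroup.det ((gs⁻¹ * g : GU n F q) : GL (Fin n) F)
    erw [hc]
    apply Units.ext
    rw [Units.val_pow_eq_pow_val, Units.val_mul, GeneralLinearGroup.val_det_apply,
      GeneralLinearGroup.val_det_apply, scal_coe, det_smul, Fintype.card_fin, det_one, mul_one]
    show _ = ((s.1 : Matrix (Fin n) (Fin n) F)).det * _
    rw [s.1.2, one_mul]

theorem card_range (hn : 3 ≤ n) : Nat.card (twist K p hn).δ.range =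
    Nat.card (PSU n F q) * Nat.gcd n (q + 1) := by
  have h0 := Twist.card_range (A := normOne K ⧸ (powMonoidHom n : normOne K →* normOne K).range)
    (twist K p hn) (nu n K) (fun g => nu_eq_one_iff K p hn g)
  rw [h0, (carrier K hn p).card_inn p (exists_frame K hn).some]
  congr 1
  rw [MonoidHom.range_eq_top.2 (nu_surjective K (by omega)), Subgroup.card_top,
    ← Subgroup.index_eq_card, IsCyclic.index_powMonoidHom_range, card_normOne, Nat.gcd_comm]

include K p in
theorem card_mulAut (hn : 3 ≤ n) (h32 : ¬ (n = 3 ∧ q = 2)) :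
    Nat.card (MulAut (PSU n F q)) =
      Nat.card (PSU n F q) * Nat.gcd n (q + 1) * Nat.card (F ≃+* F) := by
  rw [Twist.card_eq (twist K p hn) (full_twist K p hn h32), card_range K p hn]

include K p in
/-- The field part on outer automorphisms. -/
theorem out_structure (hn : 3 ≤ n) (h32 : ¬ (n = 3 ∧ q = 2)) {H : Type*} [Group H]
    (e : (F ≃+* F) ≃* H) :
    ∃ φ : Cfsg.Out (PSU n F q) →* H, Function.Surjective φ ∧ IsCyclic φ.ker ∧
      Nat.card φ.ker = Nat.gcd n (q + 1) := by
  set D := twist K p hn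
  set π : MulAut (PSU n F q) →* H := e.toMonoidHom.comp (D.proj (full_twist K p hn h32))
  have hker : π.ker = D.δ.range := by
    rw [← D.ker_proj (full_twist K p hn h32)]
    ext x
    exact e.map_eq_one_iff
  have hle : Cfsg.Inn (PSU n F q) ≤ π.ker := hker ▸ D.inn_le
  set φ : Cfsg.Out (PSU n F q) →* H := QuotientGroup.lift _ π hle
  have hsurj : Function.Surjective φ := fun y => by
    obtain ⟨x, hx⟩ := D.proj_surjective (full_twist K p hn h32) (e.symm y)
    refine ⟨(x : Cfsg.Out (PSU n F q)), ?_⟩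
    show e (D.proj _ x) = y
    rw [hx, e.apply_symm_apply]
  have hmem : ∀ g : GU n F q,
      ((D.δ g : MulAut (PSU n F q)) : Cfsg.Out (PSU n F q)) ∈ φ.ker := fun g => by
    show π (D.δ g) = 1
    rw [← MonoidHom.mem_ker, hker]
    exact ⟨g, rfl⟩
  let χ : GU n F q →* φ.ker := ((QuotientGroup.mk' _).comp D.δ).codRestrict _ hmem
  let χ' : normOne K →* φ.ker :=
    χ.comp (MonoidHom.mk' (diag1 K (show 0 < n by omega)) fun a b => Subtype.ext (map_mul _ _ _))
  refine ⟨φ, hsurj, isCyclic_of_surjective χ' ?_, ?_⟩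
  · rintro ⟨y, hy⟩
    obtain ⟨x, rfl⟩ := QuotientGroup.mk_surjective y
    have hx : x ∈ π.ker := hy
    rw [hker] at hx
    obtain ⟨g, rfl⟩ := hx
    refine ⟨det1 n K g, Subtype.ext ?_⟩
    show ((D.δ (diag1 K _ (det1 n K g)) : MulAut (PSU n F q)) : Cfsg.Out (PSU n F q)) = D.δ g
    rw [QuotientGroup.eq, ← map_inv, ← map_mul]
    refine (nu_eq_one_iff K p hn _).1 ?_
    rw [map_mul, map_inv]
    exact inv_mul_eq_one.2 (congrArg (QuotientGroup.mk' _) (det1_diag1 K _ (det1 n K g)))
  · have h1 := Subgroup.card_eq_card_quotient_mul_card_subgroup φ.ker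
    rw [Nat.card_congr (QuotientGroup.quotientKerEquivOfSurjective φ hsurj).toEquiv] at h1
    have h2 := Subgroup.card_eq_card_quotient_mul_card_subgroup (Cfsg.Inn (PSU n F q))
    have h3 : Nat.card (Cfsg.Inn (PSU n F q)) = Nat.card (PSU n F q) :=
      (carrier K hn p).card_inn p (exists_frame K hn).some
    rw [card_mulAut K p hn h32, h3, show (MulAut (PSU n F q) ⧸ Cfsg.Inn (PSU n F q)) =
      Cfsg.Out (PSU n F q) from rfl, h1, Nat.card_congr e.toEquiv] at h2
    have hposH : 0 < Nat.card H := by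
      have : Finite (F ≃+* F) := Finite.of_injective (fun e => (e : F → F)) DFunLike.coe_injective
      rw [← Nat.card_congr e.toEquiv]
      exact Nat.card_pos
    have hposX : 0 < Nat.card (PSU n F q) := Nat.card_pos
    refine Nat.eq_of_mul_eq_mul_left (Nat.mul_pos hposH hposX) ?_
    linear_combination -h2

end Unitary

end CfsgLib.ClassicalAut
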