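import Cfsg.Agent.Lib.ClassicalAut.Rep

set_option autoImplicit false

/-!
Simplicity of a classical group modulo its centre: the Iwasawa argument on isotropic points.
-/

namespace CfsgLib.ClassicalAut

namespace Space

variable {F : Type*} [Field F] {V : Type*} [AddCommGroup V] [Module F V] (S : Space F V)

/-- Perpendicular independent isotropic vectors are separated by an isotropic vector. -/
theorem exists_sep {v w : V} (hw : S.h w w = 0) (hvw : S.h v w = 0) (hw0 : w ≠ 0)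
    (hi : ∀ a : F, v ≠ a • w) : ∃ z, S.h z z = 0 ∧ S.h v z = 0 ∧ S.h w z ≠ 0 := by
  obtain ⟨y, hy⟩ := S.exists_ne w hw0
  obtain ⟨a, haw, hav⟩ : ∃ a, S.h a w = 0 ∧ S.h a v = 1 := by
    by_contra hc
    refine hi (S.bar (S.h y v)) (sub_eq_zero.1 (S.nondeg _ fun u => ?_))
    have h0 : S.h (u - S.h u w • y) v = 0 := by
      by_contra h
      refine hc ⟨(S.h (u - S.h u w • y) v)⁻¹ • (u - S.h u w • y), ?_, ?_⟩
      · rw [S.smul_left]
        refine mul_eq_zero_of_right _ ?_
        rw [S.sub_left, S.smul_left, hy, mul_one, sub_self]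
      · rw [S.smul_left, inv_mul_cancel₀ h]
    rw [S.sub_left, S.smul_left] at h0
    rw [S.sub_right, S.smul_right, S.bar_bar]
    linear_combination h0
  obtain ⟨x, hx⟩ : ∃ x, x = S.ε • (y - S.h y v • a) := ⟨_, rfl⟩
  have hxw : S.h x w = S.ε := by
    rw [hx, S.smul_left, S.sub_left, S.smul_left, hy, haw, mul_zero, sub_zero, mul_one]
  have hxv : S.h x v = 0 := by
    rw [hx, S.smul_left, S.sub_left, S.smul_left, hav, mul_one, sub_self, mul_zero]
  obtain ⟨c, hc⟩ := S.exists_isotropic_add hw hxw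
  refine ⟨x + c • w, hc, ?_, ?_⟩
  · rw [S.add_right, S.smul_right, S.eq_zero_symm hxv, hvw, mul_zero, add_zero]
  · rw [S.add_right, S.smul_right, hw, mul_zero, add_zero]
    exact S.h_swap_ne (by rw [hxw]; exact S.ε_ne_zero)

end Space

namespace Rep

open Subgroup

variable {F : Type*} [Field F] {V : Type*} [AddCommGroup V] [Module F V] {S : Space F V}
  {G : Type*} [Group G] (R : Rep S G)

/-- The transvections at isotropic vectors. -/
def transvections : Set G := {g | ∃ e t, S.h e e = 0 ∧ S.Valid 0 t ∧ R.ρ g = S.E e 0 t}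

/-- Transvections are commutators when the skew parameters come from perpendicular pairs. -/
theorem mem_commutatorSet {e u v : V} {g : G} {y : F} (he : S.h e e = 0) (hu : S.h u e = 0)
    (hv : S.h v e = 0) (huv : S.h u v = y)
    (hg : R.ρ g = S.E e 0 (S.ε * y - S.bar y)) : g ∈ commutatorSet G := by
  obtain ⟨t, ht⟩ := S.tr u
  obtain ⟨s, hs⟩ := S.tr v
  obtain ⟨a, ha⟩ := R.root e u t he hu ht
  obtain ⟨b, hb⟩ := R.root e v s he hv hs
  refine ⟨a, b, ?_⟩
  have h : g * (b * a) = a * b := R.inj (by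
    rw [map_mul, map_mul, map_mul, hg, ha, hb, S.E_mul he hv hu,
      S.E_mul he (S.zero_left e) (by rw [S.add_left, hv, hu, add_zero]), S.E_mul he hu hv,
      S.zero_right, mul_zero, sub_zero, zero_add, add_comm v u]
    congr 1
    rw [huv, S.swap u v, huv]
    linear_combination S.bar y * S.ε_sq)
  rw [commutatorElement_def, ← h]
  group

/-- An element fixing every isotropic point is central. -/
theorem mem_center_of_fixes {n : G} {e₀ : V} (he₀ : S.h e₀ e₀ = 0) (he₀' : e₀ ≠ 0)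
    (hfix : ∀ v, S.h v v = 0 → ∃ a : F, R.ρ n v = a • v) : n ∈ center G := by
  have hopp : ∀ e f, S.h e e = 0 → S.h f f = 0 → S.h e f ≠ 0 → ∀ a b : F,
      R.ρ n e = a • e → R.ρ n f = b • f → a = b := by
    intro e f he hf hef a b ha hb
    obtain ⟨t, ht0, ht⟩ := S.skew_ne
    set c := t / S.bar (S.h e f) with hc
    have hbar : S.bar (S.h e f) ≠ 0 := S.bar_ne_zero hef
    have hc0 : c ≠ 0 := div_ne_zero ht0 hbar
    have hcb : c * S.bar (S.h e f) = t := div_mul_cancel₀ t hbar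
    have hcb' : S.bar c * S.h e f = S.bar t := by rw [← hcb, map_mul, S.bar_bar]
    have hr : S.h (e + c • f) (e + c • f) = 0 := by
      rw [S.add_left, S.add_right, S.add_right, S.smul_left, S.smul_left, S.smul_right,
        S.smul_right, he, hf, S.swap e f]
      linear_combination ht + hcb' + S.ε * hcb
    obtain ⟨d, hd⟩ := hfix _ hr
    rw [map_add, map_smul, ha, hb] at hd
    have h1 := congrArg (fun x => S.h x f) hd
    have h2 := congrArg (fun x => S.h x e) hd
    simp only [S.add_left, S.smul_left, hf, he, mul_zero, add_zero, zero_add, smul_add] at h1 h2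
    have e1 : a = d := mul_right_cancel₀ hef h1
    have e2 : b = d := mul_left_cancel₀ (mul_ne_zero hc0 (S.h_swap_ne hef))
      (by linear_combination h2)
    rw [e1, e2]
  obtain ⟨a₀, ha₀⟩ := hfix e₀ he₀
  have hall : ∀ v, S.h v v = 0 → R.ρ n v = a₀ • v := by
    intro v hv
    by_cases hv0 : v = 0
    · rw [hv0, map_zero, smul_zero]
    obtain ⟨r, hr, h1, h2⟩ := S.exists_common_opposite he₀ he₀' hv hv0
    obtain ⟨b, hb⟩ := hfix r hr
    obtain ⟨a, ha⟩ := hfix v hv
    rw [ha, hopp e₀ r he₀ hr (S.h_swap_ne h1) a₀ b ha₀ hb, ← hopp v r hv hr (S.h_swap_ne h2) a b ha hb]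
  have hne : ∀ x, S.h x e₀ ≠ 0 → R.ρ n x = a₀ • x := by
    intro x hx
    set k := S.ε * (S.h x e₀)⁻¹ with hk
    have hk0 : k ≠ 0 := mul_ne_zero S.ε_ne_zero (inv_ne_zero hx)
    obtain ⟨a, ha⟩ := S.exists_isotropic_add he₀ (x := k • x)
      (by rw [S.smul_left, hk, inv_mul_cancel_right₀ hx])
    have h := hall _ ha
    rw [map_add, map_smul, map_smul, hall e₀ he₀, smul_add, smul_comm a₀ a, add_left_inj] at h
    rw [smul_comm a₀ k] at h
    exact smul_right_injective V hk0 h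
  refine (R.center_iff n).2 ⟨a₀, LinearMap.ext fun x => ?_⟩
  show R.ρ n x = a₀ • x
  by_cases hx : S.h x e₀ = 0
  · obtain ⟨y, hy⟩ := S.exists_ne e₀ he₀'
    have h1 := hne (x + y) (by rw [S.add_left, hx, zero_add, hy]; exact one_ne_zero)
    rw [map_add, smul_add, hne y (by rw [hy]; exact one_ne_zero), add_left_inj] at h1
    exact h1
  · exact hne x hx

/-- A non-central normal subgroup is transitive on isotropic points. -/
theorem normal_transitive (N : Subgroup G) [N.Normal] {e₀ : V} (he₀ : S.h e₀ e₀ = 0)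
    (he₀' : e₀ ≠ 0) (hN : ¬ N ≤ center G) {v : V} (hv : S.h v v = 0) (hv0 : v ≠ 0) :
    ∃ n ∈ N, ∃ a : F, a ≠ 0 ∧ R.ρ n e₀ = a • v := by
  set r : V → V → Prop := fun x y => ∃ n ∈ N, ∃ a : F, a ≠ 0 ∧ R.ρ n x = a • y with hr
  have hscale : ∀ x y (c d : F), c ≠ 0 → d ≠ 0 → r x y → r (c • x) (d • y) := by
    rintro x y c d hc hd ⟨n, hn, a, ha, h⟩
    exact ⟨n, hn, c * a / d, div_ne_zero (mul_ne_zero hc ha) hd,
      by rw [map_smul, h, smul_smul, smul_smul, div_mul_cancel₀ _ hd]⟩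
  have htrans : ∀ x y z, r x y → r y z → r x z := by
    rintro x y z ⟨n, hn, a, ha, h⟩ ⟨m, hm, b, hb, h'⟩
    exact ⟨m * n, mul_mem hm hn, a * b, mul_ne_zero ha hb,
      by rw [map_mul, Module.End.mul_apply, h, map_smul, h', smul_smul]⟩
  have hsymm : ∀ x y, r x y → r y x := by
    rintro x y ⟨n, hn, a, ha, h⟩
    refine ⟨n⁻¹, inv_mem hn, a⁻¹, inv_ne_zero ha, ?_⟩
    have h' := congrArg (R.ρ n⁻¹) h
    rw [R.ρ_inv_apply, map_smul] at h'
    rw [h', smul_smul, inv_mul_cancel₀ ha, one_smul]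
  have hinv : ∀ (g : G) x y, r x y → r (R.ρ g x) (R.ρ g y) := by
    rintro g x y ⟨n, hn, a, ha, h⟩
    exact ⟨g * n * g⁻¹, Normal.conj_mem inferInstance n hn g, a, ha,
      by rw [map_mul, map_mul, Module.End.mul_apply, Module.End.mul_apply, R.ρ_inv_apply, h, map_smul]⟩
  -- some opposite pair is related
  obtain ⟨b, c, hb, hc, hbc, hbcr⟩ : ∃ b c, S.h b b = 0 ∧ S.h c c = 0 ∧ S.h c b ≠ 0 ∧ r b c := by
    obtain ⟨n, hn, x, hx, hxn⟩ : ∃ n ∈ N, ∃ x, S.h x x = 0 ∧ ∀ a : F, R.ρ n x ≠ a • x := by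
      by_contra hcon
      push Not at hcon
      exact hN fun n hn => R.mem_center_of_fixes he₀ he₀' fun v hv => hcon n hn v hv
    have hx0 : x ≠ 0 := fun h => hxn 0 (by rw [h, map_zero, smul_zero])
    set y := R.ρ n x with hy
    have hyy : S.h y y = 0 := by rw [hy, R.isom, hx]
    have hxy : r x y := ⟨n, hn, 1, one_ne_zero, by rw [one_smul]⟩
    by_cases h : S.h y x = 0
    swap
    · exact ⟨x, y, hx, hyy, h, hxy⟩
    have hi : ∀ a : F, x ≠ a • y := fun a ha => by
      have ha0 : a ≠ 0 := fun h0 => hx0 (by rw [ha, h0, zero_smul])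
      exact hxn a⁻¹ (by conv_rhs => rw [ha, smul_smul, inv_mul_cancel₀ ha0, one_smul])
    obtain ⟨z, hz, hxz, hyz⟩ :=
      S.exists_sep hyy (S.eq_zero_symm h) (R.ρ_ne_zero n hx0) hi
    obtain ⟨t, ht0, ht⟩ := S.skew_ne
    obtain ⟨g, hg⟩ := R.root z 0 t hz (S.zero_left z) (S.valid_zero_iff.2 ht)
    refine ⟨y, R.ρ g y, hyy, by rw [R.isom, hyy], ?_, htrans y x _ (hsymm x y hxy) ?_⟩
    · refine S.h_swap_ne ?_
      rw [hg, S.E_zero_apply, S.add_right, S.smul_right, hyy, zero_add]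
      exact mul_ne_zero (S.bar_ne_zero (mul_ne_zero ht0 hyz)) hyz
    · have h1 := hinv g x y hxy
      rwa [hg, S.E_zero_apply z t x, hxz, mul_zero, zero_smul, add_zero, ← hg] at h1
  -- hence every opposite pair
  have hopp : ∀ x y, S.h x x = 0 → x ≠ 0 → S.h y y = 0 → S.h y x ≠ 0 → r x y := by
    intro x y hx hx0 hy hyx
    have hb0 : b ≠ 0 := fun h => hbc (by rw [h, S.zero_right])
    obtain ⟨g, a, ha, hg⟩ := R.exists_map hb hb0 hx hx0
    have h1 := hinv g b c hbcr
    rw [hg] at h1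
    have hgc : S.h (R.ρ g c) x ≠ 0 := by
      intro h0
      apply hbc
      rw [← R.isom g c b, hg, S.smul_right, h0, mul_zero]
    obtain ⟨k, -, hk1, a', ha', hk2⟩ :=
      R.exists_fix_map hx (by rw [R.isom, hc]) hgc hy hyx
    have h2 := hinv k _ _ h1
    rw [map_smul, hk1, hk2] at h2
    have h3 := hscale _ _ a⁻¹ a'⁻¹ (inv_ne_zero ha) (inv_ne_zero ha') h2
    rwa [smul_smul, smul_smul, inv_mul_cancel₀ ha, inv_mul_cancel₀ ha', one_smul, one_smul] at h3
  obtain ⟨z, hz, hze, hzv⟩ := S.exists_common_opposite he₀ he₀' hv hv0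
  have hz0 : z ≠ 0 := fun h => hze (by rw [h, S.zero_left])
  exact htrans e₀ z v (hopp e₀ z he₀ he₀' hz hze) (hopp z v hz hz0 hv (S.h_swap_ne hzv))

/-- The Iwasawa argument. -/
theorem commutator_le_of_normal [Finite G] (hgen : closure R.transvections = ⊤) (N : Subgroup G)
    [N.Normal] {e₀ : V} (he₀ : S.h e₀ e₀ = 0) (he₀' : e₀ ≠ 0) (hN : ¬ N ≤ center G) :
    commutator G ≤ N := by
  have hcomm : IsMulCommutative (R.T e₀) := Subgroup.isMulCommutative_closure
    fun a ⟨t, _, ha⟩ b ⟨s, _, hb⟩ => R.inj (by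
      rw [map_mul, map_mul, ha, hb, S.E_mul he₀ (S.zero_left _) (S.zero_left _),
        S.E_mul he₀ (S.zero_left _) (S.zero_left _), add_comm t s])
  refine Subgroup.Normal.commutator_le_of_self_sup_commutative_eq_top ?_ hcomm
  rw [eq_top_iff, ← hgen, closure_le]
  rintro g ⟨e, t, he, ht, hg⟩
  rcases eq_or_ne e 0 with rfl | he0
  · have h1 : g = 1 := R.inj (by
      rw [hg, map_one]
      exact LinearMap.ext fun x => by rw [S.E_zero_apply, smul_zero, add_zero]; rfl)
    rw [h1]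
    exact one_mem _
  obtain ⟨n, hn, a, ha, hne⟩ := R.normal_transitive N he₀ he₀' hN he he0
  have hg' : g ∈ R.T (R.ρ n e₀) := by
    rw [hne, R.T_smul ha]
    exact subset_closure ⟨t, ht, hg⟩
  rw [← R.map_conj_T he₀ n] at hg'
  obtain ⟨k, hk, rfl⟩ := hg'
  exact mul_mem (mul_mem (mem_sup_left hn) (mem_sup_right hk)) (inv_mem (mem_sup_left hn))

/-- Simplicity modulo the centre. -/
theorem isSimpleGroup [Finite G] (hgen : closure R.transvections = ⊤)
    (hperf : commutator G = ⊤) {e₀ : V} (he₀ : S.h e₀ e₀ = 0) (he₀' : e₀ ≠ 0) :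
    IsSimpleGroup (G ⧸ center G) := by
  obtain ⟨t, ht0, ht⟩ := S.skew_ne
  obtain ⟨g, hg⟩ := R.root e₀ 0 t he₀ (S.zero_left _) (S.valid_zero_iff.2 ht)
  have hnc : g ∉ center G := by
    intro hmem
    obtain ⟨c, hc⟩ := (R.center_iff g).1 hmem
    obtain ⟨x, hx⟩ := S.exists_ne e₀ he₀'
    have h := LinearMap.congr_fun hc x
    rw [hg, S.E_zero_apply, hx, mul_one, LinearMap.smul_apply, Module.End.one_apply] at h
    have h1 := congrArg (fun y => S.h y e₀) h
    simp only [S.add_left, S.smul_left, he₀, mul_zero, add_zero, hx, mul_one] at h1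
    rw [← h1, one_smul, add_eq_left, smul_eq_zero] at h
    exact h.elim ht0 he₀'
  have : Nontrivial (G ⧸ center G) := ⟨⟨QuotientGroup.mk g, 1, fun h => hnc ((QuotientGroup.eq_one_iff g).1 h)⟩⟩
  refine ⟨fun N hN => ?_⟩
  by_cases h : N.comap (QuotientGroup.mk' (center G)) ≤ center G
  · refine Or.inl ((eq_bot_iff_forall _).2 fun x hx => ?_)
    obtain ⟨y, rfl⟩ := mkQ_surjective x
    exact (QuotientGroup.eq_one_iff y).2 (h hx)
  · refine Or.inr ((eq_top_iff' N).2 fun x => ?_)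
    obtain ⟨y, rfl⟩ := mkQ_surjective x
    exact R.commutator_le_of_normal hgen _ he₀ he₀' h (hperf.symm ▸ mem_top y)

end Rep

end CfsgLib.ClassicalAut
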