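import Cfsg.Agent.Lib.ClassicalAut.Semilinear

set_option autoImplicit false

/-!
Every automorphism of the projective group is induced by a semisimilarity.
-/

namespace CfsgLib.ClassicalAut

open Subgroup

variable {F : Type*} [Field F] {V : Type*} [AddCommGroup V] [Module F V]
variable {S : Space F V} {G : Type*} [Group G] (R : Rep S G)

namespace Rep

/-- `β` is induced by conjugation with the semisimilarity `m`. -/
def Induced (m : S.Semi) (β : MulAut (G ⧸ center G)) : Prop :=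
  ∀ g g' : G, (∀ x, R.ρ g' (m.M x) = m.M (R.ρ g x)) → β (mkQ g) = mkQ g'

theorem eq_of_semi (m : S.Semi) {g g₁ g₂ : G} (h₁ : ∀ x, R.ρ g₁ (m.M x) = m.M (R.ρ g x))
    (h₂ : ∀ x, R.ρ g₂ (m.M x) = m.M (R.ρ g x)) : g₁ = g₂ := by
  refine R.inj (LinearMap.ext fun y => ?_)
  obtain ⟨x, rfl⟩ := m.M.surjective y
  rw [h₁, h₂]

theorem exists_induced (m : S.Semi) : ∃ β, R.Induced m β := by
  choose φ hφ using R.conjMem m
  choose ψ hψ using R.conjMem m.symm
  have hψ' : ∀ g x, R.ρ g (m.M x) = m.M (R.ρ (ψ g) x) := fun g x => by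
    have h := hψ g (m.M x)
    change R.ρ (ψ g) (m.M.symm (m.M x)) = m.M.symm (R.ρ g (m.M x)) at h
    rw [AddEquiv.symm_apply_apply] at h
    rw [h, AddEquiv.apply_symm_apply]
  let e : MulAut G :=
    { toFun := φ
      invFun := ψ
      left_inv := fun g => R.inj (LinearMap.ext fun x => m.M.injective (by rw [← hψ', hφ]))
      right_inv := fun g => (R.eq_of_semi m (hψ' g) (hφ (ψ g))).symm
      map_mul' := fun g h => R.eq_of_semi m (hφ (g * h)) fun x => by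
        rw [map_mul, map_mul, Module.End.mul_apply, Module.End.mul_apply, hφ, hφ] }
  refine ⟨QuotientGroup.congr _ _ e (Subgroup.characteristic_iff_map_eq.mp inferInstance e),
    fun g g' h => ?_⟩
  rw [← R.eq_of_semi m (hφ g) h]
  rfl

theorem Induced.comp {m n : S.Semi} {β γ : MulAut (G ⧸ center G)} (hβ : R.Induced m β)
    (hγ : R.Induced n γ) : R.Induced (m.trans n) (γ * β) := by
  intro g g' h
  obtain ⟨g₁, h₁⟩ := R.conjMem m g
  rw [MulAut.mul_apply, hβ g g₁ h₁]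
  refine hγ g₁ g' fun y => ?_
  obtain ⟨x, rfl⟩ := m.M.surjective y
  rw [h₁]
  exact h x

theorem Induced.inv {m : S.Semi} {β : MulAut (G ⧸ center G)} (hβ : R.Induced m β) :
    R.Induced m.symm β⁻¹ := by
  intro g g' h
  have h' : β (mkQ g') = mkQ g := hβ g' g fun x => by
    have h1 := h (m.M x)
    change R.ρ g' (m.M.symm (m.M x)) = m.M.symm (R.ρ g (m.M x)) at h1
    rw [AddEquiv.symm_apply_apply] at h1
    rw [h1, AddEquiv.apply_symm_apply]
  rw [← h']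
  exact β.symm_apply_apply _

theorem induced_toSemi (g : G) : R.Induced (R.toSemi g) (MulAut.conj (mkQ g)) := by
  intro x x' h
  have h1 : x' = g * x * g⁻¹ := R.inj (LinearMap.ext fun y => by
    have h2 := h (R.ρ g⁻¹ y)
    rw [toSemi_M, toSemi_M, R.ρ_apply_inv] at h2
    rw [h2, map_mul, map_mul]
    rfl)
  rw [h1, MulAut.conj_apply, map_mul, map_mul, map_inv]

theorem Induced.ρ_elation {m : S.Semi} {e u : V} {t : F} {g g' : G}
    (hg : R.ρ g = S.E e u t) (hg' : R.ρ g' = S.E (m.M e) (m.k⁻¹ • m.M u) (m.k⁻¹ * m.κ t))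
    {β : MulAut (G ⧸ center G)} (hβ : R.Induced m β) : β (mkQ g) = mkQ g' :=
  hβ g g' fun x => by rw [hg, hg', m.map_E]

variable [Finite G]

theorem Induced.map_Tb {m : S.Semi} {β : MulAut (G ⧸ center G)} (hβ : R.Induced m β) {v : V}
    (hv : S.h v v = 0) : (R.Tb v).map β.toMonoidHom = R.Tb (m.M v) := by
  refine le_antisymm ?_ ?_
  · rintro _ ⟨_, ⟨x, hx, rfl⟩, rfl⟩
    obtain ⟨t, ht, hρ⟩ := (R.mem_T hv).1 hx
    have hval : S.Valid 0 (m.k⁻¹ * m.κ t) := by simpa using m.valid ht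
    obtain ⟨x', hx', hρ'⟩ := R.exists_mem_T (m.isotropic hv) hval
    refine ⟨x', hx', (Induced.ρ_elation R hρ ?_ hβ).symm⟩
    rw [map_zero, smul_zero, hρ']
  · rintro _ ⟨y, hy, rfl⟩
    obtain ⟨t, ht, hρ⟩ := (R.mem_T (m.isotropic hv)).1 hy
    have hval : S.Valid 0 (m.symm.k⁻¹ * m.symm.κ t) := by simpa using m.symm.valid ht
    obtain ⟨x, hx, hρx⟩ := R.exists_mem_T hv hval
    refine ⟨mkQ x, mem_map_of_mem _ hx, ?_⟩
    have h : β⁻¹ (mkQ y) = mkQ x := Induced.ρ_elation R hρ (by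
      rw [map_zero, smul_zero, hρx]
      congr 1
      exact (m.M.symm_apply_apply v).symm) (hβ.inv R)
    rw [← h]
    exact β.apply_symm_apply _

omit [Finite G] in
/-- Semisimilarities scaling `e` by their multiplier act on parameters without twist. -/
theorem Induced.rel {Φ : Frame S} {m : S.Semi} {β : MulAut (G ⧸ center G)} (hβ : R.Induced m β)
    (hm : m.M Φ.e = m.k • Φ.e) {u v : Φ.W} (huv : m.M (u : V) = v) : R.Rel Φ β u v := by
  obtain ⟨t, ht⟩ := S.tr (u : V)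
  obtain ⟨g, -, hg⟩ := R.exists_mem_Q Φ.he u.2.1 ht
  have hE : S.E (m.M Φ.e) (m.k⁻¹ • m.M (u : V)) (m.k⁻¹ * m.κ t) =
      S.E Φ.e v (m.k * m.κ t) := by
    rw [hm, S.E_smul, smul_smul, m.bar_k, mul_inv_cancel₀ m.k_ne, one_smul, huv]
    congr 1
    field_simp [m.k_ne]
  have hval : S.Valid (v : V) (m.k * m.κ t) := by
    have h1 := congrArg m.κ ht
    rw [map_add, map_add, map_mul, S.map_ε, map_zero, ← m.bar_κ] at h1
    unfold Space.Valid
    rw [← huv, m.map_h, map_mul, m.bar_k]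
    linear_combination m.k * h1
  obtain ⟨g', -, hg'⟩ := R.exists_mem_Q Φ.he v.2.1 hval
  exact ⟨g, g', t, _, ht, hg, hval, hg',
    Induced.ρ_elation R hg (hg'.trans hE.symm) hβ⟩

variable (p : ℕ) [Fact p.Prime] [CharP F p] [Finite V]
variable {Φ : Frame S} {β : MulAut (G ⧸ center G)}

/-- `β` maps points to points. -/
def PointMap (β : MulAut (G ⧸ center G)) : Prop :=
  ∀ v : V, S.h v v = 0 → v ≠ 0 → ∃ w : V, w ≠ 0 ∧ S.h w w = 0 ∧ (R.Tb v).map β.toMonoidHom = R.Tb w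

include p in
theorem exists_image_point (hsk : S.SkewSurj) {v : V} (hv : S.h v v = 0) (hv0 : v ≠ 0) :
    ∃ w : V, w ≠ 0 ∧ S.h w w = 0 ∧ (R.Tb v).map β.toMonoidHom = R.Tb w := by
  obtain ⟨P, hP⟩ := R.exists_sylow_point p hsk hv hv0
  obtain ⟨w, hw0, hw, hPw⟩ := R.exists_point p hsk hv hv0 (β • P)
  refine ⟨w, hw0, hw, ?_⟩
  rw [← hPw, ← hP, ← cen_map_equiv]
  rfl

include p in
theorem exists_normalise (hβ : R.PointMap β) : ∃ g : G,
    R.FixesPt ((MulAut.conj (mkQ g))⁻¹ * β) Φ.e ∧ R.FixesPt ((MulAut.conj (mkQ g))⁻¹ * β) Φ.f := by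
  obtain ⟨e₁, he0, he₁, hbe⟩ := hβ _ Φ.he Φ.e_ne
  obtain ⟨f₁, hf0, hf₁, hbf⟩ := hβ _ Φ.hf Φ.f_ne
  have hne : S.h f₁ e₁ ≠ 0 := by
    intro h0
    have h1 := (R.commute_iff p hf₁ hf0 he₁).2 h0
    have hfe : S.h Φ.f Φ.e = 0 := (R.commute_iff p Φ.hf Φ.f_ne Φ.he).1 fun x hx y hy => by
      have h2 := h1 (hbf ▸ mem_map_of_mem β.toMonoidHom hx) (β y)
        (hbe ▸ mem_map_of_mem β.toMonoidHom hy)
      exact β.injective (by rw [map_mul, map_mul]; exact h2)
    exact S.ε_ne_zero (Φ.hfe ▸ hfe)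
  obtain ⟨g₁, a, ha, hg₁⟩ := R.exists_map Φ.he Φ.e_ne he₁ he0
  have hgf : S.h (R.ρ g₁ Φ.f) e₁ ≠ 0 := by
    intro h0
    have h1 : S.h (R.ρ g₁ Φ.f) (R.ρ g₁ Φ.e) = 0 := by rw [hg₁, S.smul_right, h0, mul_zero]
    rw [R.isom, Φ.hfe] at h1
    exact S.ε_ne_zero h1
  obtain ⟨g₂, -, hg₂e, b, hb, hg₂⟩ :=
    R.exists_fix_map he₁ (by rw [R.isom, Φ.hf] : S.h (R.ρ g₁ Φ.f) (R.ρ g₁ Φ.f) = 0) hgf hf₁ hne
  have hfix : ∀ (v w : V) (c : F), c ≠ 0 → S.h v v = 0 → R.ρ (g₂ * g₁) v = c • w →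
      (R.Tb v).map β.toMonoidHom = R.Tb w →
      R.FixesPt ((MulAut.conj (mkQ (g₂ * g₁)))⁻¹ * β) v := by
    intro v w c hc hv hgv hvw
    have h1 : (R.Tb v).map (MulAut.conj (mkQ (g₂ * g₁))).toMonoidHom = R.Tb w := by
      rw [R.Tb_map_conj hv, hgv, Tb, R.T_smul hc, ← Tb]
    rw [FixesPt]
    conv_rhs => rw [← Subgroup.map_id (R.Tb v)]
    refine Subgroup.map_injective (f := (MulAut.conj (mkQ (g₂ * g₁))).toMonoidHom)
      (MulAut.conj (mkQ (g₂ * g₁))).injective ?_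
    rw [map_map, map_map, MonoidHom.comp_id]
    rw [h1, ← hvw]
    congr 1
    ext x
    exact (MulAut.conj (mkQ (g₂ * g₁))).apply_symm_apply (β x)
  refine ⟨g₂ * g₁, hfix _ e₁ a ha Φ.he ?_ hbe, hfix _ f₁ b hb Φ.hf ?_ hbf⟩
  · rw [map_mul, Module.End.mul_apply, hg₁, map_smul, hg₂e]
  · rw [map_mul, Module.End.mul_apply, hg₂]

omit [Finite V] [Fact p.Prime] [CharP F p] in
theorem fixesPt_of_fix {z : G} {v : V} (hv : S.h v v = 0) (hz : β (mkQ z) = mkQ z)
    (h : R.FixesPt β (R.ρ z v)) : R.FixesPt β v := by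
  rw [FixesPt] at h ⊢
  rw [← R.Tb_map_conj hv, map_map] at h
  refine Subgroup.map_injective (f := (MulAut.conj (mkQ z)).toMonoidHom)
    (MulAut.conj (mkQ z)).injective ?_
  rw [map_map]
  convert h using 2
  ext x
  have hz' : β (z : G ⧸ center G) = z := hz
  simp [hz']

include p in
omit [Finite V] in
/-- With trivial action on `W`, the transvection group at `e` is fixed pointwise. -/
theorem T_fixed (hsk : S.SkewSurj) (hA : ∀ u, R.Rel Φ β u u) :
    ∀ z ∈ R.T Φ.e, β (mkQ z) = mkQ z := by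
  obtain ⟨w₀, hw₀⟩ := exists_ne (0 : Φ.W)
  obtain ⟨v₀, hv₀⟩ := Φ.exists_partner_W hw₀
  intro z hz
  obtain ⟨t, ht, hzρ⟩ := (R.mem_T Φ.he).1 hz
  obtain ⟨y, hy⟩ := hsk (S.ε * t) (by
    have h := S.valid_zero_iff.1 ht
    rw [map_mul, S.bar_ε]
    linear_combination S.ε * h)
  obtain ⟨x, x', s, s', h1, h2, h3, h4, h5⟩ := hA (y • v₀)
  obtain ⟨a, a', r, r', k1, k2, k3, k4, k5⟩ := hA w₀
  have c1 := R.exists_comm (y • v₀) w₀ h1 k1 h2 k2
  have c2 := R.exists_comm (y • v₀) w₀ h3 k3 h4 k4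
  have hσ : S.ε * (S.h ((y • v₀ : Φ.W) : V) w₀ - S.h (w₀ : V) ((y • v₀ : Φ.W) : V)) = t := by
    rw [Submodule.coe_smul, S.smul_left, S.smul_right, hv₀, S.swap (v₀ : V) w₀, hv₀, map_one]
    linear_combination S.ε * hy + t * S.ε_sq
  rw [hσ, ← hzρ] at c1 c2
  rw [← R.inj c1.2]
  simp only [map_mul, map_inv, h5, k5]
  simp only [← map_inv, ← map_mul]
  rw [R.inj c2.2, R.inj c1.2]

include p in
theorem eq_one_of_rel_self (hd : R.Dense Φ) (hk : R.Kill Φ) (hβ : R.FixesPt β Φ.e)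
    (hβf : R.FixesPt β Φ.f) (hA : ∀ u, R.Rel Φ β u u)
    (hTfix : ∀ z ∈ R.T Φ.e, β (mkQ z) = mkQ z) : β = 1 := by
  -- parameters of images
  have hpar : ∀ (u : Φ.W) (t : F) (g : G), S.Valid (u : V) t → R.ρ g = S.E Φ.e u t →
      ∃ g' t', S.Valid (u : V) t' ∧ R.ρ g' = S.E Φ.e u t' ∧ β (mkQ g) = mkQ g' := by
    intro u t g ht hg
    obtain ⟨x, x', s, s', h1, h2, h3, h4, h5⟩ := hA u
    obtain ⟨z, hz, hzρ⟩ := R.exists_mem_T Φ.he (ht.skew_sub S h1)
    have hgz : g = x * z := R.inj (by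
      rw [map_mul, h2, hzρ, hg, S.E_mul Φ.he u.2.1 (S.zero_left _), add_zero, S.zero_left,
        mul_zero, sub_zero, add_sub_cancel])
    obtain ⟨z', hz', hzz'⟩ : β (mkQ z) ∈ R.Tb Φ.e :=
      hβ ▸ mem_map_of_mem β.toMonoidHom (mem_map_of_mem mkQ hz)
    obtain ⟨r, hr, hzρ'⟩ := (R.mem_T Φ.he).1 hz'
    refine ⟨x' * z', s' + r, h3.add_skew S hr, ?_, by rw [hgz, map_mul, map_mul, h5, ← hzz',
      map_mul]⟩
    rw [map_mul, h4, hzρ', S.E_mul Φ.he u.2.1 (S.zero_left _), add_zero, S.zero_left,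
      mul_zero, sub_zero]
  -- the shift
  choose g₀ hg₀ using fun u : Φ.W => (R.exists_mem_Q Φ.he u.2.1 (S.tr (u : V)).choose_spec)
  choose g₁ t₁ ht₁ hg₁ hgg₁ using fun u : Φ.W =>
    hpar u _ (g₀ u) (S.tr (u : V)).choose_spec (hg₀ u).2
  have hshift : ∀ (u : Φ.W) (x x' : G) (t t' : F), S.Valid (u : V) t → R.ρ x = S.E Φ.e u t →
      R.ρ x' = S.E Φ.e u t' → β (mkQ x) = mkQ x' → t' = t + (t₁ u - (S.tr (u : V)).choose) := by
    intro u x x' t t' ht hx hx' hxx'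
    obtain ⟨z, hz, hzρ⟩ := R.exists_mem_T Φ.he (ht.skew_sub S (S.tr (u : V)).choose_spec)
    have hxz : x = g₀ u * z := R.inj (by
      rw [map_mul, (hg₀ u).2, hzρ, hx, S.E_mul Φ.he u.2.1 (S.zero_left _), add_zero,
        S.zero_left, mul_zero, sub_zero, add_sub_cancel])
    have hq : mkQ x' = mkQ (g₁ u * z) := by
      rw [← hxx', hxz, map_mul, map_mul, hgg₁, hTfix z hz, map_mul]
    have hmem1 : x' ∈ R.Q Φ.e := by
      obtain ⟨a, a', s, s', h1, h2, h3, h4, h5⟩ := hA u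
      obtain ⟨y, t'', ht'', hy, hy'⟩ := hpar u t x ht hx
      have hxy : x' = y := by
        have hyQ : y ∈ R.Q Φ.e := subset_closure ⟨_, t'', u.2.1, ht'', hy⟩
        obtain ⟨k, hk⟩ := R.isPGroup_Q p Φ.he ⟨y, hyQ⟩
        have hc : x'⁻¹ * y ∈ center G := QuotientGroup.eq.1 (hxx'.symm.trans hy')
        obtain ⟨c, hc'⟩ := (R.center_iff _).1 hc
        have h6 : R.ρ x' * R.ρ (x'⁻¹ * y) = R.ρ y := by rw [← map_mul, mul_inv_cancel_left]
        rw [hc', hy, hx'] at h6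
        have h7 := LinearMap.congr_fun h6 Φ.e
        rw [Module.End.mul_apply, LinearMap.smul_apply, Module.End.one_apply, map_smul,
          S.E_apply_self Φ.he u.2.1, S.E_apply_self Φ.he u.2.1] at h7
        have hc1 : c = 1 := smul_left_injective F Φ.e_ne (h7.trans (one_smul _ _).symm)
        rw [hc1, one_smul, ← map_one R.ρ] at hc'
        exact inv_mul_eq_one.1 (R.inj hc')
      rw [hxy]
      exact subset_closure ⟨_, t'', u.2.1, ht'', hy⟩
    have hmem2 : g₁ u * z ∈ R.Q Φ.e :=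
      Subgroup.mul_mem _ (subset_closure ⟨_, t₁ u, u.2.1, ht₁ u, hg₁ u⟩) (R.T_le_Q _ hz)
    have heq := R.eq_of_mk_eq' p (R.isPGroup_Q p Φ.he) (R.isPGroup_Q p Φ.he) hmem1 hmem2 hq
    rw [heq, map_mul, hg₁, hzρ, S.E_mul Φ.he u.2.1 (S.zero_left _), add_zero, S.zero_left,
      mul_zero, sub_zero] at hx'
    have := (S.eq_zero_of_E_eq Φ.hef u.2.2 u.2.2 hx').2
    linear_combination -this
  have hL0 : ∀ u : Φ.W, t₁ u - (S.tr (u : V)).choose = 0 := by
    let L : Φ.W →+ F := AddMonoidHom.mk' (fun u => t₁ u - (S.tr (u : V)).choose) fun u v => by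
      have hvu := Space.Valid.mul S u.2.1 v.2.1 (S.tr (u : V)).choose_spec (S.tr (v : V)).choose_spec
      have h := hshift (u + v) (g₀ u * g₀ v) (g₁ u * g₁ v) _ _ hvu.2
        (by rw [map_mul, (hg₀ u).2, (hg₀ v).2, S.E_mul Φ.he u.2.1 v.2.1]; rfl)
        (by rw [map_mul, hg₁, hg₁, S.E_mul Φ.he u.2.1 v.2.1]; rfl)
        (by rw [map_mul, map_mul, hgg₁, hgg₁, map_mul])
      linear_combination -h
    have hL : L = 0 := by
      refine hk L (fun u => ?_) fun g c op hop u => ?_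
      · exact (S.valid_zero_iff.1 ((ht₁ u).skew_sub S (S.tr (u : V)).choose_spec))
      · obtain ⟨g', hg'⟩ := mkQ_surjective (β (mkQ g))
        obtain ⟨c', L', hL', hLL'⟩ :=
          exists_op_rel p hd hβ hβf (A := AddEquiv.refl _) hA hop hg'.symm
        have hop' : op = L' := LinearMap.ext fun v => hLL' v
        subst hop'
        obtain ⟨z, hz, t, ht0, hzρ⟩ := R.exists_ne_mem_T Φ.he
        have hval0 : S.Valid 0 t := by
          obtain ⟨t', ht', h'⟩ := (R.mem_T Φ.he).1 hz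
          rw [hzρ] at h'
          rwa [(S.eq_zero_of_E_eq Φ.hef (S.zero_left _) (S.zero_left _) h').2]
        have hN : c * S.bar c = c' * S.bar c' := by
          have h1 := IsOp.conj R Φ hop (u := 0) hzρ
          have h2 := IsOp.conj R Φ hL' (u := 0) hzρ
          have hgz : g * z * g⁻¹ ∈ R.T Φ.e := by
            obtain ⟨d, he, -, -⟩ := hop
            have h := R.conj_mem_T Φ.he hz g
            rwa [he, R.T_smul (fun h0 : c = 0 => R.ρ_ne_zero g Φ.e_ne (by rw [he, h0, zero_smul]))]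
              at h
          have hgz' : g' * z * g'⁻¹ ∈ R.T Φ.e := by
            obtain ⟨d, he, -, -⟩ := hL'
            have h := R.conj_mem_T Φ.he hz g'
            rwa [he, R.T_smul (fun h0 : c' = 0 => R.ρ_ne_zero g' Φ.e_ne
              (by rw [he, h0, zero_smul]))] at h
          have h3 : g * z * g⁻¹ = g' * z * g'⁻¹ := R.eq_of_mk_eq' p (R.isPGroup_T p Φ.he)
            (R.isPGroup_T p Φ.he) hgz hgz' (by
              rw [← hTfix _ hgz]
              simp only [map_mul, map_inv, hTfix z hz, hg'])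
          rw [h3, h2] at h1
          simp only [map_zero] at h1
          exact (mul_right_cancel₀ ht0
            (S.eq_zero_of_E_eq Φ.hef (S.zero_left _) (S.zero_left _) h1).2).symm
        have hval : S.Valid ((op u : Φ.W) : V) (c * S.bar c * (S.tr (u : V)).choose) := by
          have ht := (S.tr (u : V)).choose_spec
          obtain ⟨d, -, -, hu⟩ := hop
          unfold Space.Valid
          rw [hu, S.smul_left, S.smul_right, S.bar_bar, R.isom, map_mul, map_mul, S.bar_bar]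
          linear_combination (c * S.bar c) * ht
        have h := hshift (op u) (g * g₀ u * g⁻¹) (g' * g₁ u * g'⁻¹) _ _ hval
          (IsOp.conj R Φ hop (hg₀ u).2) (IsOp.conj R Φ hL' (hg₁ u))
          (by simp only [map_mul, map_inv, hgg₁, hg'])
        show t₁ (op u) - _ = c * S.bar c * (t₁ u - _)
        rw [← hN] at h
        linear_combination -h
    exact fun u => DFunLike.congr_fun hL u
  have hQfix : ∀ q ∈ R.Q Φ.e, β (mkQ q) = mkQ q := by
    intro q hq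
    obtain ⟨u, t, ht, hqρ⟩ := (R.mem_Q_iff Φ).1 hq
    obtain ⟨q', t', -, hq', hqq'⟩ := hpar u t q ht hqρ
    have h := hshift u q q' t t' ht hqρ hq' hqq'
    rw [hL0, add_zero] at h
    rw [hqq', R.inj (hq'.trans (by rw [h]; exact hqρ.symm))]
  have hopp : ∀ r : V, S.h r r = 0 → S.h r Φ.e ≠ 0 → R.FixesPt β r := by
    intro r hr hre
    obtain ⟨q, hq, -, a, ha, hqf⟩ := R.exists_fix_map Φ.he Φ.hf
      (by rw [Φ.hfe]; exact S.ε_ne_zero) hr hre
    have hT : R.Tb r = R.Tb (R.ρ q Φ.f) := by rw [hqf, Tb, Tb, R.T_smul ha]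
    rw [FixesPt, hT, ← R.Tb_map_conj Φ.hf, map_map]
    conv_rhs => rw [← hβf, map_map]
    congr 1
    ext x
    have hq' : β (q : G ⧸ center G) = q := hQfix q hq
    simp [hq']
  have hTf : ∀ z ∈ R.T Φ.f, β (mkQ z) = mkQ z := by
    intro z hz
    obtain ⟨z', hz', hzz'⟩ : β (mkQ z) ∈ R.Tb Φ.f :=
      hβf ▸ mem_map_of_mem β.toMonoidHom (mem_map_of_mem mkQ hz)
    obtain ⟨s, hs, hzρ⟩ := (R.mem_T Φ.hf).1 hz
    obtain ⟨s', hs', hzρ'⟩ := (R.mem_T Φ.hf).1 hz'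
    rcases eq_or_ne s 0 with rfl | hs0
    · rw [S.E_zero_zero, ← map_one R.ρ] at hzρ
      rw [R.inj hzρ]; simp
    rw [← hzz']
    suffices h : s' = s by rw [R.inj (hzρ'.trans (by rw [h]; exact hzρ.symm))]
    have he1 : R.ρ z Φ.e = Φ.e + s • Φ.f := by rw [hzρ, S.E_zero_apply, Φ.hef, mul_one]
    have he2 : R.ρ z' Φ.e = Φ.e + s' • Φ.f := by rw [hzρ', S.E_zero_apply, Φ.hef, mul_one]
    have hiso : ∀ g : G, S.h (R.ρ g Φ.e) (R.ρ g Φ.e) = 0 := fun g => by rw [R.isom, Φ.he]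
    have hf1 : R.FixesPt β (R.ρ z Φ.e) := hopp _ (hiso z) (by
      rw [he1, S.add_left, Φ.he, S.smul_left, Φ.hfe, zero_add]
      exact mul_ne_zero hs0 S.ε_ne_zero)
    have heq : R.Tb (R.ρ z' Φ.e) = R.Tb (R.ρ z Φ.e) := by
      rw [FixesPt, ← R.Tb_map_conj Φ.he, map_map] at hf1
      rw [← R.Tb_map_conj Φ.he, ← R.Tb_map_conj Φ.he]
      rw [← hf1]
      conv_lhs => rw [← hβ, map_map]
      congr 1
      ext x
      have hzz'' : (z' : G ⧸ center G) = β (z : G ⧸ center G) := hzz'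
      simp [hzz'']
    obtain ⟨a, -, ha⟩ := R.point_eq p (hiso z') (hiso z) (R.ρ_ne_zero z Φ.e_ne) heq
    rw [he1, he2] at ha
    have h1 := congrArg (fun x => S.h x Φ.f) ha
    have h2 := congrArg (fun x => S.h x Φ.e) ha
    simp only [S.add_left, S.smul_left, Φ.hef, Φ.hf, Φ.he, Φ.hfe, mul_zero, add_zero,
      zero_add] at h1 h2
    rw [← mul_assoc] at h2
    have h3 := mul_right_cancel₀ S.ε_ne_zero h2
    rw [show a = 1 by linear_combination -h1, one_mul] at h3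
    exact h3.symm
  obtain ⟨zf, hzf, sf, hsf, hzfρ⟩ := R.exists_ne_mem_T Φ.hf
  have hrf : ∀ r : V, S.h r r = 0 → S.h r Φ.f ≠ 0 → R.FixesPt β r := by
    intro r hr hrf
    by_cases hre : S.h r Φ.e = 0
    · refine R.fixesPt_of_fix hr (hTf zf hzf) (hopp _ (by rw [R.isom, hr]) ?_)
      rw [hzfρ, S.E_zero_apply, S.add_left, hre, S.smul_left, Φ.hfe, zero_add]
      exact mul_ne_zero (mul_ne_zero hsf hrf) S.ε_ne_zero
    · exact hopp r hr hre
  have hall : ∀ r : V, r ≠ 0 → S.h r r = 0 → R.FixesPt β r := by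
    intro r hr0 hr
    by_cases hre : S.h r Φ.e = 0
    · by_cases hrf' : S.h r Φ.f = 0
      · obtain ⟨u, hu⟩ := Φ.exists_partner_W (u := ⟨r, hre, hrf'⟩)
          (fun h => hr0 (congrArg Subtype.val h))
        obtain ⟨t, ht⟩ := S.tr (u : V)
        obtain ⟨q, hq, hqρ⟩ := R.exists_mem_Q Φ.he u.2.1 ht
        refine R.fixesPt_of_fix hr (hQfix q hq) (hrf _ (by rw [R.isom, hr]) ?_)
        rw [hqρ, S.E_apply_of_perp t hre, S.sub_left, hrf', S.smul_left, Φ.hef, zero_sub, mul_one,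
          neg_ne_zero]
        exact mul_ne_zero S.ε_ne_zero (S.h_swap_ne (by rw [hu]; exact one_ne_zero))
      · exact hrf r hr hrf'
    · exact hopp r hr hre
  refine MulEquiv.ext fun x => ?_
  obtain ⟨g, rfl⟩ := mkQ_surjective x
  obtain ⟨g', hg'⟩ := mkQ_surjective (β (mkQ g))
  rw [MulAut.one_apply, ← hg']
  set d := g⁻¹ * g' with hd'
  have hfixd : ∀ r : V, r ≠ 0 → S.h r r = 0 → ∃ a : F, R.ρ d r = a • r := by
    intro r hr0 hr
    have h1 := hall r hr0 hr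
    have h2 := hall _ (R.ρ_ne_zero g hr0) (by rw [R.isom, hr] : S.h (R.ρ g r) (R.ρ g r) = 0)
    rw [FixesPt] at h1 h2
    rw [← R.Tb_map_conj hr, map_map] at h2
    have h3 : R.Tb (R.ρ g' r) = R.Tb (R.ρ g r) := by
      rw [← R.Tb_map_conj hr, ← R.Tb_map_conj hr, ← h2]
      conv_lhs => rw [← h1, map_map]
      congr 1
      ext x
      simp [hg']
    obtain ⟨a, ha, hag⟩ := R.point_eq p (by rw [R.isom, hr] : S.h (R.ρ g' r) (R.ρ g' r) = 0)
      (by rw [R.isom, hr]) (R.ρ_ne_zero g hr0) h3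
    refine ⟨a⁻¹, smul_right_injective V ha ?_⟩
    change a • R.ρ d r = a • a⁻¹ • r
    rw [smul_inv_smul₀ ha, hd', map_mul, Module.End.mul_apply, ← map_smul, ← hag, R.ρ_inv_apply]
  obtain ⟨a, hae⟩ := hfixd _ Φ.e_ne Φ.he
  obtain ⟨b, hbf⟩ := hfixd _ Φ.f_ne Φ.hf
  have hkey : ∀ (u : Φ.W) (t : F), S.Valid (u : V) t →
      R.ρ d u = b • (u : V) ∧ t * a = b * t := by
    intro u t ht
    obtain ⟨q, -, hqρ⟩ := R.exists_mem_Q Φ.he u.2.1 ht
    obtain ⟨k, hk⟩ := hfixd _ (R.ρ_ne_zero q Φ.f_ne) (by rw [R.isom, Φ.hf])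
    rw [hqρ, S.E_apply_partner Φ.hef (S.eq_zero_symm u.2.2), map_add, map_add, map_smul, map_smul,
      hae, hbf] at hk
    have hW := R.ρ_apply_W Φ hae hbf u
    have h1 := congrArg (fun x => S.h x Φ.e) hk
    have h2 := congrArg (fun x => S.h x Φ.f) hk
    simp only [S.add_left, S.smul_left, Φ.hef, Φ.hf, Φ.he, Φ.hfe, u.2.1, u.2.2, hW.1, hW.2,
      mul_zero, add_zero, zero_add, mul_one] at h1 h2
    have hkb : b = k := mul_right_cancel₀ S.ε_ne_zero h1
    subst hkb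
    refine ⟨?_, mul_right_cancel₀ S.ε_ne_zero (by linear_combination h2)⟩
    have h3 := congrArg (fun x => (Φ.π x : V)) hk
    simp only [map_add, map_smul, Φ.π_e, smul_zero, add_zero, Submodule.coe_smul, Φ.π_W, show Φ.π Φ.f = 0 from Subtype.ext (by
        rw [Φ.π_coe, S.proj_apply, Φ.hf, Φ.hfe, S.ε_sq]; simp), zero_add] at h3
    rw [show (Φ.π (R.ρ d u) : V) = R.ρ d u from congrArg Subtype.val (Φ.π_W ⟨_, hW⟩)] at h3
    refine smul_right_injective V S.ε_ne_zero ?_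
    show S.ε • R.ρ d u = S.ε • b • (u : V)
    rw [h3, smul_comm]
  obtain ⟨t₀, ht₀, hskew⟩ := S.skew_ne
  have hab : a = b := by
    have h := (hkey 0 t₀ (S.valid_zero_iff.2 hskew)).2
    exact mul_left_cancel₀ ht₀ (by linear_combination h)
  have hc : d ∈ center G := (R.center_iff d).2 ⟨b, LinearMap.ext fun y => by
    conv_lhs => rw [Φ.decomp y]
    conv_rhs => rw [Φ.decomp y]
    rw [map_add, map_add, map_smul, map_smul, hae, hbf, hab,
      (hkey _ _ (S.tr ((Φ.π y : Φ.W) : V)).choose_spec).1, LinearMap.smul_apply,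
      Module.End.one_apply]
    module⟩
  exact (QuotientGroup.eq.2 hc).symm

include p in
/-- An automorphism mapping points to points is induced by a semisimilarity, given the two
facts depending on the kind of form. -/
theorem exists_semi_of_points [Finite F] (hd : R.Dense Φ) (hk : R.Kill Φ) (hβ : R.PointMap β)
    (hperp : ∀ (γ : MulAut (G ⧸ center G)) (A : Φ.W ≃+ Φ.W), R.FixesPt γ Φ.e → R.FixesPt γ Φ.f →
      (∀ u, R.Rel Φ γ u (A u)) → ∀ (κ : F ≃+* F), (∀ (a : F) u, A (a • u) = κ a • A u) →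
        ∀ u v : Φ.W, S.h (u : V) v = 0 → S.h (A u : V) (A v) = 0)
    (hT : ∀ γ : MulAut (G ⧸ center G), R.FixesPt γ Φ.e → R.FixesPt γ Φ.f →
      (∀ u, R.Rel Φ γ u u) → ∀ z ∈ R.T Φ.e, γ (mkQ z) = mkQ z) :
    ∃ m : S.Semi, R.Induced m β := by
  obtain ⟨g, hge, hgf⟩ := R.exists_normalise p (Φ := Φ) hβ
  set β₀ := (MulAut.conj (mkQ g))⁻¹ * β with hβ₀
  obtain ⟨A, hA⟩ := exists_addEquiv p hd hge
  have hA' : ∀ u, R.Rel Φ β₀⁻¹ u (A.symm u) := fun u => by
    have h := (hA (A.symm u)).symm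
    rwa [A.apply_symm_apply] at h
  obtain ⟨κ, hκ⟩ := exists_semilinear A (R.exists_conj_linear p hd hge hgf hA)
    (R.exists_conj_linear p hd hge.inv hgf.inv hA')
  obtain ⟨c, hc0, hc, hAh⟩ := Φ.exists_factor hκ (hperp β₀ A hge hgf hA κ hκ)
  obtain ⟨m, hmk, hme, hmf, hmA⟩ :=
    Φ.exists_extend hκ (fun a => ringEquiv_commute _ _ _) hc0 hc hAh
  obtain ⟨α, hα⟩ := R.exists_induced m
  have hαe : R.FixesPt α Φ.e := by
    rw [FixesPt, hα.map_Tb R Φ.he, hme, Tb, R.T_smul hc0, ← Tb]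
  have hαf : R.FixesPt α Φ.f := by rw [FixesPt, hα.map_Tb R Φ.hf, hmf]
  have hcomp : ∀ v, R.FixesPt β₀ v → R.FixesPt α v → R.FixesPt (α⁻¹ * β₀) v := by
    intro v h1 h2
    rw [FixesPt]
    conv_rhs => rw [← h2.inv]
    conv_rhs => arg 2; rw [← h1]
    rw [map_map]
    rfl
  have hone : α⁻¹ * β₀ = 1 := by
    have hrel : ∀ u, R.Rel Φ (α⁻¹ * β₀) u u := fun u => by
      obtain ⟨x, x', t, t', h1, h2, h3, h4, h5⟩ := hA u
      have hr : R.Rel Φ α⁻¹ (A u) u := (Induced.rel R hα (hme.trans (by rw [hmk])) (hmA u)).symm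
      obtain ⟨y, y', s, s', k1, k2, k3, k4, k5⟩ := hr
      obtain ⟨z, hz, hzρ⟩ := R.exists_mem_T Φ.he (h3.skew_sub S k1)
      obtain ⟨z', hz', hzz'⟩ : α⁻¹ (mkQ z) ∈ R.Tb Φ.e :=
        hαe.inv ▸ mem_map_of_mem (α⁻¹).toMonoidHom (mem_map_of_mem mkQ hz)
      obtain ⟨r, hr, hzρ'⟩ := (R.mem_T Φ.he).1 hz'
      have hx'y : x' = y * z := R.inj (by
        rw [map_mul, k2, hzρ, h4, S.E_mul Φ.he (A u).2.1 (S.zero_left _), add_zero, S.zero_left,
          mul_zero, sub_zero, add_sub_cancel])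
      refine ⟨x, y' * z', t, s' + r, h1, h2, k3.add_skew S hr, ?_, ?_⟩
      · rw [map_mul, k4, hzρ', S.E_mul Φ.he u.2.1 (S.zero_left _), add_zero, S.zero_left,
          mul_zero, sub_zero]
      · rw [MulAut.mul_apply, h5, hx'y, map_mul, map_mul, k5, ← hzz', map_mul]
    exact R.eq_one_of_rel_self p hd hk (hcomp _ hge hαe) (hcomp _ hgf hαf) hrel
      (hT _ (hcomp _ hge hαe) (hcomp _ hgf hαf) hrel)
  have hb : β = MulAut.conj (mkQ g) * α := by
    rw [eq_of_inv_mul_eq_one hone, hβ₀, mul_inv_cancel_left]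
  exact ⟨_, hb ▸ hα.comp R (R.induced_toSemi g)⟩

include p in
/-- Every automorphism is induced by a semisimilarity, if all skew parameters are commutators. -/
theorem exists_semi [Finite F] (hsk : S.SkewSurj) (hd : R.Dense Φ) (hk : R.Kill Φ)
    (β : MulAut (G ⧸ center G)) : ∃ m : S.Semi, R.Induced m β :=
  R.exists_semi_of_points p hd hk (fun v hv hv0 => R.exists_image_point p hsk hv hv0)
    (fun _ _ _ _ hA _ hκ =>
      Φ.perp_of_commutator hsk hκ fun u v u' v' h => R.rel_commutator p hA u v u' v' h)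
    (fun _ _ _ hA => R.T_fixed p hsk hA)

end Rep

end CfsgLib.ClassicalAut
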