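import Cfsg.Agent.Lib.ClassicalAut.Carrier
import Cfsg.Agent.Lib.ClassicalAut.Main
import Cfsg.Agent.Lib.AutPSL.Descent
import Cfsg.Agent.Lib.FormRep.Unitary
import Cfsg.Prelude.Def_LieTypeDatum

set_option autoImplicit false

/-!
The Hermitian space and `SU_n(q)`; rigidity hypotheses for all `n ≥ 3`, `(n, q) ≠ (3, 2)`.
-/

namespace CfsgLib.ClassicalAut.Unitary

open Matrix Cfsg

/-- The involution of a field with `q²` elements. -/
structure Conj (F : Type*) [Field F] (q : ℕ) where
  bar : F ≃+* F
  bar_apply : ∀ c, bar c = c ^ q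
  card : Nat.card F = q ^ 2

variable {F : Type*} [Field F] [Finite F] {q : ℕ} (K : Conj F q)

theorem exists_conj {p f : ℕ} [Fact p.Prime] [CharP F p] (hq : q = p ^ f)
    (hF : Nat.card F = q ^ 2) : Nonempty (Conj F q) :=
  ⟨⟨RingEquiv.ofBijective (iterateFrobenius F p f) (bijective_iterateFrobenius F p f),
    fun c => by rw [hq]; exact iterateFrobenius_def p f c, hF⟩⟩

namespace Conj

include K in
theorem two_le : 2 ≤ q := by
  by_contra hh
  have h1 := K.card
  have h2 : 1 < Nat.card F := Finite.one_lt_card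
  obtain rfl | rfl : q = 0 ∨ q = 1 := by omega
  all_goals simp at h1; omega

theorem bar_bar (c : F) : K.bar (K.bar c) = c := by
  cases nonempty_fintype F
  rw [K.bar_apply, K.bar_apply, ← pow_mul, ← sq, ← K.card, Nat.card_eq_fintype_card,
    FiniteField.pow_card]

include K in
theorem exists_gen : ∃ g : Fˣ, orderOf g = q ^ 2 - 1 := by
  obtain ⟨g, hg⟩ := IsCyclic.exists_ofOrder_eq_natCard (α := Fˣ)
  exact ⟨g, by rw [hg, Nat.card_units, K.card]⟩

theorem exists_moved : ∃ y, K.bar y ≠ y := by
  obtain ⟨g, hg⟩ := K.exists_gen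
  have h2 := K.two_le
  refine ⟨g, fun h => ?_⟩
  rw [K.bar_apply] at h
  have h1 : g ^ (q - 1) = 1 := by
    have h3 : g ^ (q - 1) * g = 1 * g := by
      rw [← pow_succ, Nat.sub_add_cancel (by omega), one_mul]
      exact Units.ext (by rw [Units.val_pow_eq_pow_val, h])
    exact mul_right_cancel h3
  have h4 := Nat.le_of_dvd (by omega) (orderOf_dvd_of_pow_eq_one h1)
  rw [hg] at h4
  have : q * 2 ≤ q ^ 2 := by rw [sq]; exact Nat.mul_le_mul_left q h2
  omega

theorem bar_ne : K.bar ≠ 1 := by
  obtain ⟨y, hy⟩ := K.exists_moved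
  exact fun h => hy (by rw [h]; rfl)

theorem orderOf_bar : orderOf K.bar = 2 :=
  orderOf_eq_prime (RingEquiv.ext fun x => by rw [sq]; exact K.bar_bar x) K.bar_ne

theorem exists_trace : ∃ y, y + K.bar y ≠ 0 := by
  by_contra hc
  push Not at hc
  obtain ⟨y, hy⟩ := K.exists_moved
  have h1 := hc 1
  rw [map_one] at h1
  exact hy (by linear_combination (hc y) - y * h1)

theorem exists_norm (x : F) (hx : K.bar x = x) : ∃ c, c * K.bar c = x := by
  rcases eq_or_ne x 0 with rfl | h0
  · exact ⟨0, zero_mul _⟩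
  obtain ⟨d, hd⟩ := AutPSL.exists_unorm_eq two_pos K.orderOf_bar (Units.mk0 x h0) hx
  refine ⟨d, ?_⟩
  have h := congrArg Units.val hd
  simp [AutPSL.unorm] at h
  exact h

theorem bar_pow_fixed {c : F} (hc : K.bar c = c) : c ^ q = c := by rw [← K.bar_apply, hc]

end Conj

variable {n : ℕ}

omit [Finite F] in
theorem herm_apply (u v : Fin n → F) :
    hermForm n F q u v = ∑ i, u i * K.bar (v i) := by
  simp [hermForm, K.bar_apply]

/-- The Hermitian space. -/
def space : Space F (Fin n → F) where
  bar := K.bar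
  bar_bar := K.bar_bar
  ε := 1
  ε_sq := one_mul 1
  h := hermForm n F q
  add_left u v w := by
    simp only [herm_apply K, Pi.add_apply, add_mul, Finset.sum_add_distrib]
  smul_left a u v := by
    simp only [herm_apply K, Pi.smul_apply, smul_eq_mul, Finset.mul_sum, mul_assoc]
  swap u v := by
    rw [one_mul, herm_apply K, herm_apply K, map_sum]
    exact Finset.sum_congr rfl fun i _ => by rw [map_mul, K.bar_bar, mul_comm]
  nondeg v hv := by
    funext i
    have h := hv (Pi.single i 1)
    rw [herm_apply K, Finset.sum_eq_single i (fun j _ hj => by simp [hj]) (by simp)] at h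
    simpa using h
  tr v := by
    obtain ⟨y, hy⟩ := K.exists_trace
    have hfix : K.bar (hermForm n F q v v) = hermForm n F q v v := by
      rw [herm_apply K, map_sum]
      exact Finset.sum_congr rfl fun i _ => by rw [map_mul, K.bar_bar, mul_comm]
    refine ⟨-(hermForm n F q v v) * y / (y + K.bar y), ?_⟩
    rw [map_div₀, map_mul, map_neg, hfix, map_add, K.bar_bar, add_comm (K.bar y) y]
    field_simp
    ring
  skew_ne := by
    obtain ⟨y, hy⟩ := K.exists_moved
    exact ⟨y - K.bar y, sub_ne_zero.2 hy.symm, by rw [map_sub, K.bar_bar]; ring⟩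

theorem skewSurj : (space (n := n) K).SkewSurj := fun t ht => by
  obtain ⟨y, hy⟩ := K.exists_trace
  change (1 : F) * t + K.bar t = 0 at ht
  refine ⟨t * y / (y + K.bar y), ?_⟩
  show t * y / (y + K.bar y) - 1 * K.bar (t * y / (y + K.bar y)) = t
  rw [map_div₀, map_mul, map_add, K.bar_bar, add_comm (K.bar y) y]
  field_simp
  linear_combination -(K.bar y) * ht

variable (F q n) in
/-- The coercion of `SU_n` into matrices. -/
def toMat : SU n F q →* Matrix (Fin n) (Fin n) F where
  toFun g := (g.1 : Matrix (Fin n) (Fin n) F)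
  map_one' := rfl
  map_mul' _ _ := rfl

/-- `SU_n` as a representation. -/
def rep (hn : 3 ≤ n) (p : ℕ) [Fact p.Prime] [CharP F p] :
    Rep (space (n := n) K) (SU n F q) :=
  repOfMatrix (space K) (toMat F q n) (fun _ _ h => Subtype.ext (Subtype.ext h))
    (fun A => ⟨fun ⟨g, hg⟩ => hg ▸ ⟨g.2, g.1.2⟩, fun h => ⟨⟨⟨A, h.2⟩, h.1⟩, rfl⟩⟩)
    (fun g => by
      cases nonempty_fintype F
      exact FormRep.Unitary.center_iff hn (by rw [← Nat.card_eq_fintype_card, K.card]) K.bar
        K.bar_apply K.bar_bar g) p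

/-- A hyperbolic pair. -/
theorem exists_frame (hn : 3 ≤ n) : Nonempty (Frame (space (n := n) K)) := by
  set S := space (n := n) K
  obtain ⟨c, hc⟩ := K.exists_norm (-1) (by rw [map_neg, map_one])
  set i₀ : Fin n := ⟨0, by omega⟩
  set i₁ : Fin n := ⟨1, by omega⟩
  have hne : i₁ ≠ i₀ := by simp [i₀, i₁]
  set e : Fin n → F := Pi.single i₀ 1 + c • Pi.single i₁ 1
  have he : S.h e e = 0 := by
    show hermForm n F q e e = 0
    rw [herm_apply K, Finset.sum_eq_add_of_mem i₀ i₁ (Finset.mem_univ _) (Finset.mem_univ _)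
      hne.symm]
    · simp [e, hne, hne.symm, hc]
    · intro k _ hk
      simp [e, hk.1, hk.2]
  have he0 : e ≠ 0 := fun h => by simpa [e, hne.symm] using congrFun h i₀
  obtain ⟨f, hf, hef⟩ := S.exists_partner he he0
  let L : (Fin n → F) →ₗ[F] (Fin 2 → F) :=
    { toFun := fun x => ![S.h x e, S.h x f]
      map_add' := fun x y => by ext i; fin_cases i <;> simp [S.add_left]
      map_smul' := fun a x => by ext i; fin_cases i <;> simp [S.smul_left] }
  obtain ⟨v, hv, hv0⟩ := Submodule.exists_mem_ne_zero_of_ne_bot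
    (LinearMap.ker_ne_bot_of_finrank_lt (f := L) (by simp; omega))
  exact ⟨⟨e, f, he, hf, hef, v, hv0, congrFun (LinearMap.mem_ker.1 hv) 0,
    congrFun (LinearMap.mem_ker.1 hv) 1⟩⟩

include K in
/-- A subgroup of units spanning a field with `q²` elements. -/
theorem closure_eq_top (M : Subgroup Fˣ) (hM : q - 1 < Nat.card M) :
    AddSubgroup.closure {a : F | ∃ u ∈ M, (u : F) = a} = ⊤ := by
  set A := AddSubgroup.closure {a : F | ∃ u ∈ M, (u : F) = a}
  have hmul : ∀ x ∈ A, ∀ y ∈ A, x * y ∈ A := by
    intro x hx y hy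
    induction hx, hy using AddSubgroup.closure_induction₂ with
    | mem x y hx hy =>
      obtain ⟨u, hu, rfl⟩ := hx
      obtain ⟨v, hv, rfl⟩ := hy
      exact AddSubgroup.subset_closure ⟨u * v, M.mul_mem hu hv, Units.val_mul u v⟩
    | zero_left y _ => rw [zero_mul]; exact A.zero_mem
    | zero_right y _ => rw [mul_zero]; exact A.zero_mem
    | add_left x y z _ _ _ h h' => rw [add_mul]; exact A.add_mem h h'
    | add_right x y z _ _ _ h h' => rw [mul_add]; exact A.add_mem h h'
    | neg_left x y _ _ h => rw [neg_mul]; exact A.neg_mem h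
    | neg_right x y _ _ h => rw [mul_neg]; exact A.neg_mem h
  have hone : (1 : F) ∈ A := AddSubgroup.subset_closure ⟨1, M.one_mem, Units.val_one⟩
  have hpow : ∀ x ∈ A, ∀ k : ℕ, x ^ k ∈ A := fun x hx k => by
    induction k with
    | zero => simpa using hone
    | succ k ih => rw [pow_succ]; exact hmul _ ih _ hx
  let L : Subfield F :=
    { A with
      mul_mem' := fun {a b} ha hb => hmul a ha b hb
      one_mem' := hone
      inv_mem' := fun x hx => by
        cases nonempty_fintype F
        rcases eq_or_ne x 0 with rfl | h0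
        · rw [_root_.inv_zero]; exact A.zero_mem
        · have h1 := FiniteField.pow_card_sub_one_eq_one x h0
          have h2 : 2 ≤ Fintype.card F := Fintype.one_lt_card
          rw [show Fintype.card F - 1 = Fintype.card F - 2 + 1 by omega, pow_succ] at h1
          rw [← eq_inv_of_mul_eq_one_left h1]
          exact hpow x hx _ }
  have hdim := Module.natCard_eq_pow_finrank (K := L) (V := F)
  by_contra hne
  have hd : 2 ≤ Module.finrank L F := by
    by_contra hd
    have h1 : Module.finrank L F = 1 := by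
      have : 0 < Module.finrank L F := Module.finrank_pos
      omega
    rw [h1, pow_one] at hdim
    refine hne ((AddSubgroup.eq_top_iff' A).2 fun x => ?_)
    obtain ⟨⟨y, hy⟩, rfl⟩ := ((Nat.bijective_iff_injective_and_card (fun y : L => (y : F))).2
      ⟨Subtype.val_injective, hdim.symm⟩).2 x
    exact hy
  have hle : Nat.card L ≤ q := by
    have h1 : Nat.card L ^ 2 ≤ q ^ 2 := by
      rw [← K.card, hdim]
      exact Nat.pow_le_pow_right Nat.card_pos hd
    exact (Nat.pow_le_pow_iff_left (by norm_num)).1 h1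
  have hMle : Nat.card M ≤ Nat.card Lˣ :=
    Nat.card_le_card_of_injective
      (fun u : M => Units.mk0 (⟨((u : Fˣ) : F), AddSubgroup.subset_closure ⟨u, u.2, rfl⟩⟩ : L)
        (fun h => (u : Fˣ).ne_zero (congrArg Subtype.val h)))
      fun u v h => Subtype.ext (Units.ext (congrArg (fun z : Lˣ => ((z : L) : F)) h))
  rw [Nat.card_units] at hMle
  omega

variable (p : ℕ) [Fact p.Prime] [CharP F p]

/-- Density and rigidity. -/
theorem dense_and_kill (hn : 3 ≤ n) (h32 : ¬ (n = 3 ∧ q = 2)) (Φ : Frame (space (n := n) K)) :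
    (rep K hn p).Dense Φ ∧ (rep K hn p).Kill Φ := by
  set R := rep K hn p
  by_cases hiso : ∃ w : Φ.W, w ≠ 0 ∧ (space K).h (w : Fin n → F) w = 0
  · obtain ⟨w₀, hw₀, hw₀i⟩ := hiso
    refine R.dense_and_kill Φ hw₀ hw₀i fun w hw hw0 => ?_
    obtain ⟨z, hz, hwz⟩ := Φ.sub.exists_partner hw hw0
    have key : ∀ a : F, a ≠ 0 → ∀ t : F, (space (n := n) K).Valid 0 t →
        K.bar a / a * t ∈ {x : F | ∃ g c L μ t, R.IsOp Φ g c L ∧ L w = μ • w ∧
          (space (n := n) K).Valid 0 t ∧ x = μ * t} := by
      intro a ha t ht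
      obtain ⟨g, hge, hgw, hgf⟩ := R.exists_diag Φ.he Φ.hf hw hz Φ.hef hwz
        ((space K).eq_zero_symm w.2.1) ((space K).eq_zero_symm z.2.1) ((space K).eq_zero_symm w.2.2)
        ((space K).eq_zero_symm z.2.2) ha
      let L : Module.End F Φ.W := (K.bar a • R.ρ g).restrict fun x hx =>
        Φ.W.smul_mem _ (R.ρ_apply_W Φ hge hgf ⟨x, hx⟩)
      refine ⟨g, a, L, K.bar a / a, t, ⟨_, hge, hgf, fun u => rfl⟩, Subtype.ext ?_, ht, rfl⟩
      show K.bar a • R.ρ g (w : Fin n → F) = _
      rw [hgw, smul_smul, Submodule.coe_smul, div_eq_mul_inv]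
    obtain ⟨t₀, ht₀, hskew⟩ := (space (n := n) K).skew_ne
    obtain ⟨g, hg⟩ := K.exists_gen
    set lam := K.bar (g : F) / (g : F) with hlam
    have hg0 : (g : F) ≠ 0 := g.ne_zero
    have hlamfix : K.bar lam ≠ lam := by
      intro h
      rw [hlam, map_div₀, K.bar_bar] at h
      have h1 : (g : F) ^ (2 * q) = (g : F) ^ 2 := by
        rw [mul_comm, pow_mul, ← K.bar_apply]
        field_simp [K.bar.map_ne_zero_iff.2 hg0] at h
        linear_combination -h
      have h2 : g ^ (2 * q - 2) = 1 := by
        have h3 : g ^ (2 * q - 2) * g ^ 2 = 1 * g ^ 2 := by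
          rw [← pow_add, Nat.sub_add_cancel (by have := K.two_le; omega), one_mul]
          exact Units.ext (by rw [Units.val_pow_eq_pow_val, Units.val_pow_eq_pow_val, h1])
        exact mul_right_cancel h3
      have h4 := Nat.le_of_dvd (by have := K.two_le; omega) (orderOf_dvd_of_pow_eq_one h2)
      rw [hg] at h4
      have h5 : q * 2 ≤ q ^ 2 := by rw [sq]; exact Nat.mul_le_mul_left q K.two_le
      have := K.two_le; generalize q ^ 2 = Q at h4 h5; omega
    refine (AddSubgroup.eq_top_iff' _).2 fun a => ?_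
    have hne : lam - K.bar lam ≠ 0 := sub_ne_zero.2 hlamfix.symm
    set x := a / t₀
    set β := (x - K.bar x) / (lam - K.bar lam) with hβ
    have hβfix : K.bar β = β := by
      rw [hβ, map_div₀, map_sub, map_sub, K.bar_bar, K.bar_bar, ← neg_sub x, ← neg_sub lam,
        neg_div_neg_eq]
    have hαfix : K.bar (x - β * lam) = x - β * lam := by
      rw [map_sub, map_mul, hβfix]
      have : β * (lam - K.bar lam) = x - K.bar x := div_mul_cancel₀ _ hne
      linear_combination this
    have hval : ∀ y, K.bar y = y → (space (n := n) K).Valid 0 (y * t₀) := fun y hy => by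
      rw [(space K).valid_zero_iff]
      show (1 : F) * (y * t₀) + K.bar (y * t₀) = 0
      rw [map_mul, hy]
      change (1 : F) * t₀ + K.bar t₀ = 0 at hskew
      linear_combination y * hskew
    have h1 := key 1 one_ne_zero _ (hval _ hαfix)
    have h2 := key (g : F) hg0 _ (hval _ hβfix)
    rw [map_one, div_one, one_mul] at h1
    have : a = (x - β * lam) * t₀ + K.bar (g : F) / g * (β * t₀) := by
      rw [← hlam, ← div_mul_cancel₀ a ht₀, ← show x = a / t₀ from rfl]
      ring
    rw [this]
    exact add_mem (AddSubgroup.subset_closure h1) (AddSubgroup.subset_closure h2)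
  push Not at hiso
  obtain ⟨w₀, hw₀⟩ := _root_.exists_ne (0 : Φ.W)
  have hd := hiso w₀ hw₀
  set d := (space K).h (w₀ : Fin n → F) w₀ with hddef
  have hspan : ∀ u : Φ.W, u = ((space K).h (u : Fin n → F) w₀ / d) • w₀ := by
    intro u
    by_contra hu
    set u' := u - ((space K).h (u : Fin n → F) w₀ / d) • w₀
    have hu' : u' ≠ 0 := sub_ne_zero.2 hu
    have hperp : (space K).h (u' : Fin n → F) w₀ = 0 := by
      show (space K).h ((u - _ • w₀ : Φ.W) : Fin n → F) w₀ = 0
      rw [Submodule.coe_sub, Submodule.coe_smul, (space K).sub_left, (space K).smul_left, ← hddef,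
        div_mul_cancel₀ _ hd, sub_self]
    have hbar : ∀ v : Fin n → F, K.bar ((space K).h v v) = (space K).h v v := fun v => by
      have := (space K).swap v v
      rw [show (space K).ε = 1 from rfl, one_mul] at this
      exact this.symm
    obtain ⟨c, hc⟩ := K.exists_norm (-((space K).h (u' : Fin n → F) u') / d)
      (by rw [map_div₀, map_neg, hbar, hbar])
    have hv : u' + c • w₀ ≠ 0 := fun h => by
      have h' := congrArg (fun v : Φ.W => (space K).h (v : Fin n → F) w₀) h
      simp only [Submodule.coe_add, Submodule.coe_smul, Submodule.coe_zero, (space K).add_left,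
        (space K).smul_left, (space K).zero_left, hperp, zero_add, ← hddef] at h'
      have hc0 := (mul_eq_zero.1 h').resolve_right hd
      rw [hc0, zero_smul, add_zero] at h
      exact hu' h
    refine hiso _ hv ?_
    rw [Submodule.coe_add, Submodule.coe_smul, (space K).add_left, (space K).add_right, (space K).add_right, (space K).smul_left,
      (space K).smul_left, (space K).smul_right, (space K).smul_right, hperp, (space K).eq_zero_symm hperp, ← hddef,
      ← mul_assoc c, show c * (space K).bar c = _ from hc, neg_div, neg_mul, div_mul_cancel₀ _ hd]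
    ring
  obtain rfl : n = 3 := by
    refine le_antisymm ?_ hn
    let T : (Fin 3 → F) →ₗ[F] (Fin n → F) :=
      Fintype.linearCombination F ![Φ.e, Φ.f, (w₀ : Fin n → F)]
    have hT : Function.Surjective T := fun x => by
      refine ⟨![(space K).h x Φ.f, (space (n := n) K).ε * (space K).h x Φ.e, (space K).h (Φ.π x : Fin n → F) w₀ / d], ?_⟩
      show ∑ i, _ • ![Φ.e, Φ.f, (w₀ : Fin n → F)] i = x
      rw [Fin.sum_univ_three]
      simp only [Matrix.cons_val_zero, Matrix.cons_val_one, Matrix.cons_val_two, Matrix.head_cons,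
        Matrix.tail_cons]
      have e := congrArg Subtype.val (hspan (Φ.π x))
      rw [Submodule.coe_smul] at e
      rw [← e]
      exact (Φ.decomp x).symm
    simpa using LinearMap.finrank_le_finrank_of_surjective hT
  have hq : q ≠ 2 := fun h => h32 ⟨rfl, h⟩
  -- torus elements
  have htorus : ∀ c : F, c ≠ 0 → ∃ g L, R.IsOp Φ g c L ∧
      ∀ u : Φ.W, L u = (K.bar c * (K.bar c / c)) • u := by
    intro c hc
    have hcb : K.bar c ≠ 0 := K.bar.map_ne_zero_iff.2 hc
    set ν := K.bar c / c
    let T : (Fin 3 → F) →ₗ[F] (Fin 3 → F) :=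
      { toFun := fun x => (c * (space K).h x Φ.f) • Φ.e + ((K.bar c)⁻¹ * (space K).h x Φ.e) • Φ.f +
          ν • (Φ.π x : Fin 3 → F)
        map_add' := fun x y => by
          simp only [(space K).add_left, map_add, Submodule.coe_add, mul_add, add_smul, smul_add]; abel
        map_smul' := fun a x => by
          simp only [(space K).smul_left, map_smul, Submodule.coe_smul, RingHom.id_apply]; module }
    have hε : (space (n := 3) K).ε = 1 := rfl
    have hTe : T Φ.e = c • Φ.e := by
      show (c * (space K).h Φ.e Φ.f) • Φ.e + _ + _ = _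
      rw [Φ.hef, Φ.he, Φ.π_e]; simp
    have hTf : T Φ.f = (K.bar c)⁻¹ • Φ.f := by
      show (c * (space K).h Φ.f Φ.f) • Φ.e + _ + _ = _
      rw [Φ.hf, Φ.hfe, hε, show Φ.π Φ.f = 0 from Subtype.ext (by
        rw [Φ.π_coe, (space K).proj_apply, Φ.hf, Φ.hfe, (space K).ε_sq]; simp)]
      simp
    have hTw : ∀ u : Φ.W, T (u : Fin 3 → F) = ν • (u : Fin 3 → F) := fun u => by
      show (c * (space K).h (u : Fin 3 → F) Φ.f) • Φ.e + _ + _ = _
      rw [u.2.1, u.2.2, Φ.π_W]; simp
    have hT : ∀ x y, (space K).h (T x) (T y) = (space K).h x y := by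
      intro x y
      conv_rhs => rw [Φ.decomp x, Φ.decomp y]
      show (space K).h (_ + _ + _) (_ + _ + _) = _
      simp only [(space K).add_left, (space K).add_right, (space K).smul_left, (space K).smul_right, Φ.he, Φ.hf, Φ.hef, Φ.hfe,
        hε, (Φ.π x).2.1, (Φ.π x).2.2, (space K).eq_zero_symm (Φ.π y).2.1, (space K).eq_zero_symm (Φ.π y).2.2,
        map_mul, map_inv₀, show (space (n := 3) K).bar = K.bar from rfl, K.bar_bar, ν, map_div₀, map_one]
      field_simp
      ring
    set A := LinearMap.toMatrix' T with hA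
    let P : Matrix (Fin 3) (Fin 3) F :=
      Matrix.of fun i j => (![Φ.e, Φ.f, (w₀ : Fin 3 → F)] j) i
    have hP : ∀ v, P *ᵥ v = v 0 • Φ.e + v 1 • Φ.f + v 2 • (w₀ : Fin 3 → F) := fun v => by
      funext i
      simp [P, mulVec, dotProduct, Fin.sum_univ_three]
      ring
    have hPdet : P.det ≠ 0 := fun h0 => by
      obtain ⟨v, hv0, hv⟩ := Matrix.exists_mulVec_eq_zero_iff.2 h0
      rw [hP] at hv
      have k1 := congrArg (fun x => (space K).h x Φ.f) hv
      have k2 := congrArg (fun x => (space K).h x Φ.e) hv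
      have k3 := congrArg (fun x => (space K).h x (w₀ : Fin 3 → F)) hv
      simp only [(space K).add_left, (space K).smul_left, Φ.hef, Φ.hf, Φ.he, Φ.hfe, hε, w₀.2.1, w₀.2.2,
        (space K).eq_zero_symm w₀.2.1, (space K).eq_zero_symm w₀.2.2, (space K).zero_left, mul_zero, mul_one, add_zero,
        zero_add, ← hddef] at k1 k2 k3
      exact hv0 (funext fun i => by
        fin_cases i <;> [exact k1; exact k2; exact (mul_eq_zero.1 k3).resolve_right hd])
    have hAP : A * P = P * Matrix.diagonal ![c, (K.bar c)⁻¹, ν] := by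
      refine Matrix.ext_of_mulVec_single fun j => ?_
      rw [← mulVec_mulVec, ← mulVec_mulVec, hA, LinearMap.toMatrix'_mulVec, hP, hP]
      fin_cases j <;> simp [hTe, hTf, hTw, Matrix.mulVec_diagonal]
    have hAdet : A.det = 1 := by
      have h := congrArg Matrix.det hAP
      rw [det_mul, det_mul, det_diagonal, Fin.prod_univ_three, mul_comm P.det] at h
      have h' := mul_right_cancel₀ hPdet h
      rw [h']
      simp [ν]
      field_simp
    let g : SU 3 F q := ⟨⟨A, hAdet⟩, fun u v => by
      show hermForm 3 F q (A *ᵥ u) (A *ᵥ v) = _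
      rw [hA, LinearMap.toMatrix'_mulVec, LinearMap.toMatrix'_mulVec]
      exact hT u v⟩
    have hρ : ∀ x, R.ρ g x = T x := fun x => LinearMap.toMatrix'_mulVec T x
    refine ⟨g, (K.bar c * ν) • (1 : Module.End F Φ.W),
      ⟨(K.bar c)⁻¹, by rw [hρ, hTe], by rw [hρ, hTf], fun u => ?_⟩, fun u => rfl⟩
    show ((K.bar c * ν) • u : Φ.W) = K.bar c • R.ρ g (u : Fin 3 → F)
    rw [hρ, hTw, smul_smul, Submodule.coe_smul]
  let ψ : Fˣ →* Fˣ := MonoidHom.mk' (fun c => c ^ (2 * q - 1)) fun a b => mul_pow a b _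
  have hψ : ∀ c : Fˣ, ((ψ c : Fˣ) : F) = K.bar (c : F) * (K.bar (c : F) / c) := fun c => by
    show ((c ^ (2 * q - 1) : Fˣ) : F) = _
    rw [Units.val_pow_eq_pow_val, K.bar_apply, mul_div_assoc', eq_div_iff c.ne_zero, ← pow_succ,
      ← pow_add]
    congr 1
    have := K.two_le
    omega
  have hcard : q - 1 < Nat.card ψ.range := by
    have h2 := K.two_le
    have h1 : Nat.card ψ.ker ∣ 3 := by
      obtain ⟨c, hc⟩ := IsCyclic.exists_ofOrder_eq_natCard (α := ψ.ker)
      rw [← hc]
      have e1 : (c : Fˣ) ^ (2 * q - 1) = 1 := c.2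
      have e2 : (c : Fˣ) ^ (q ^ 2 - 1) = 1 := by
        rw [← K.card, ← Nat.card_units]; exact pow_card_eq_one'
      rw [← Subgroup.orderOf_coe]
      have d1 := orderOf_dvd_of_pow_eq_one e1
      have d2 := orderOf_dvd_of_pow_eq_one e2
      have d4 : (orderOf (c : Fˣ) : ℤ) ∣ 3 := by
        have i1 : (orderOf (c : Fˣ) : ℤ) ∣ ((2 * q - 1 : ℕ) : ℤ) := Int.natCast_dvd_natCast.2 d1
        have i2 : (orderOf (c : Fˣ) : ℤ) ∣ ((q ^ 2 - 1 : ℕ) : ℤ) := Int.natCast_dvd_natCast.2 d2
        push_cast [Nat.cast_sub (show 1 ≤ 2 * q by omega),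
          Nat.cast_sub (show 1 ≤ q ^ 2 from Nat.one_le_pow _ _ (by omega))] at i1 i2
        have h := (i1.mul_right (2 * (q : ℤ) + 1)).sub (i2.mul_left 4)
        ring_nf at h
        exact h
      exact Int.natCast_dvd_natCast.1 (by exact_mod_cast d4)
    have h3 := Subgroup.card_eq_card_quotient_mul_card_subgroup ψ.ker
    rw [Nat.card_congr (QuotientGroup.quotientKerEquivRange ψ).toEquiv, Nat.card_units, K.card] at h3
    have h4 := Nat.le_of_dvd (by norm_num) h1
    have h5 : q ^ 2 - 1 = (q - 1) * (q + 1) := by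
      rw [mul_comm, ← Nat.sq_sub_sq, one_pow]
    have h6 : (q - 1) * (q + 1) ≤ Nat.card ψ.range * 3 := by
      rw [← h5, h3]; exact Nat.mul_le_mul_left _ h4
    by_contra hcon
    push Not at hcon
    have h7 : (q - 1) * (q + 1) ≤ (q - 1) * 3 := h6.trans (Nat.mul_le_mul_right 3 hcon)
    have := Nat.le_of_mul_le_mul_left h7 (by omega)
    omega
  have hclos := closure_eq_top K ψ.range hcard
  constructor
  · refine (AddSubgroup.eq_top_iff' _).2 fun X => ?_
    set C := AddSubgroup.closure {L : Module.End F Φ.W | ∃ g c, R.IsOp Φ g c L}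
    have hsc : ∀ x : F, x • (1 : Module.End F Φ.W) ∈ C := by
      intro x
      have hx : x ∈ AddSubgroup.closure {a : F | ∃ u ∈ ψ.range, (u : F) = a} :=
        hclos.symm ▸ AddSubgroup.mem_top x
      induction hx using AddSubgroup.closure_induction with
      | mem a ha =>
        obtain ⟨_, ⟨c, rfl⟩, rfl⟩ := ha
        obtain ⟨g, L, hop, hL⟩ := htorus c c.ne_zero
        refine AddSubgroup.subset_closure ⟨g, c, ?_⟩
        rwa [show ((ψ c : Fˣ) : F) • (1 : Module.End F Φ.W) = L from
          LinearMap.ext fun u => by rw [hL, hψ]; rfl]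
      | zero => rw [zero_smul]; exact C.zero_mem
      | add a b _ _ h h' => rw [add_smul]; exact C.add_mem h h'
      | neg a _ h =>
        convert C.neg_mem h using 1
        exact LinearMap.ext fun u => _root_.neg_smul a u
    have hX : X = ((space K).h (X w₀ : Fin 3 → F) w₀ / d) • (1 : Module.End F Φ.W) :=
      LinearMap.ext fun u => by
        conv_lhs => rw [hspan u, map_smul, hspan (X w₀), smul_comm, ← hspan u]
        rfl
    rw [hX]
    exact hsc _
  · intro l hlskew hl
    by_contra hl0
    obtain ⟨u₀, hu₀⟩ : ∃ u, l u ≠ 0 := by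
      by_contra h; push Not at h; exact hl0 (AddMonoidHom.ext h)
    have hex : ∀ x : F, ∃ s : F, K.bar s = s ∧ ∀ u : Φ.W, l (x • u) = s * l u := by
      intro x
      have hx : x ∈ AddSubgroup.closure {a : F | ∃ u ∈ ψ.range, (u : F) = a} :=
        hclos.symm ▸ AddSubgroup.mem_top x
      induction hx using AddSubgroup.closure_induction with
      | mem a ha =>
        obtain ⟨_, ⟨c, rfl⟩, rfl⟩ := ha
        obtain ⟨g, L, hop, hL⟩ := htorus c c.ne_zero
        refine ⟨c * K.bar c, by rw [map_mul, K.bar_bar, mul_comm], fun u => ?_⟩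
        rw [hψ, ← hL]
        exact hl g c L hop u
      | zero => exact ⟨0, map_zero _, fun u => by simp⟩
      | add a b _ _ h h' =>
        obtain ⟨s, hs, h⟩ := h
        obtain ⟨s', hs', h'⟩ := h'
        exact ⟨s + s', by rw [map_add, hs, hs'], fun u => by rw [add_smul, map_add, h, h', add_mul]⟩
      | neg a _ h =>
        obtain ⟨s, hs, h⟩ := h
        exact ⟨-s, by rw [map_neg, hs], fun u => by
          rw [show (-a) • u = -(a • u) from _root_.neg_smul a u, map_neg, h, neg_mul]⟩
    choose s hs hsl using hex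
    let χ : F →+* F :=
      { toFun := s
        map_one' := mul_right_cancel₀ hu₀ (by rw [← hsl, one_smul, one_mul])
        map_mul' := fun a b => mul_right_cancel₀ hu₀ (by
          rw [← hsl, mul_smul, hsl, hsl, mul_assoc])
        map_zero' := mul_right_cancel₀ hu₀ (by rw [← hsl, zero_smul, map_zero, zero_mul])
        map_add' := fun a b => mul_right_cancel₀ hu₀ (by
          rw [← hsl, add_smul, map_add, hsl, hsl, add_mul]) }
    obtain ⟨y, hy⟩ := K.exists_moved
    obtain ⟨x, rfl⟩ := (Finite.injective_iff_surjective.1 χ.injective) y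
    exact hy (hs x)

/-- Every automorphism of `PSU_n(q)` is induced by a semisimilarity. -/
theorem exists_semi (hn : 3 ≤ n) (h32 : ¬ (n = 3 ∧ q = 2))
    (β : MulAut (SU n F q ⧸ Subgroup.center (SU n F q))) :
    ∃ m : (space (n := n) K).Semi, (rep K hn p).Induced m β := by
  obtain ⟨Φ⟩ := exists_frame K hn
  obtain ⟨hd, hk⟩ := dense_and_kill K p hn h32 Φ
  exact (rep K hn p).exists_semi p (skewSurj K) hd hk β

end CfsgLib.ClassicalAut.Unitary
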