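import Cfsg.Agent.Lib.ClassicalAut.Sylow

set_option autoImplicit false

/-!
An automorphism fixing a point acts on the elation group of the point through an additive map of
`W`, compatible with the operators of the stabiliser of the pair.
-/

namespace CfsgLib.ClassicalAut

open Subgroup

variable {F : Type*} [Field F] {V : Type*} [AddCommGroup V] [Module F V]
variable {S : Space F V} {G : Type*} [Group G] (R : Rep S G) (Φ : Frame S)

namespace Rep

theorem ρ_apply_W {g : G} {c d : F} (he : R.ρ g Φ.e = c • Φ.e) (hf : R.ρ g Φ.f = d • Φ.f)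
    (u : Φ.W) : R.ρ g u ∈ Φ.W := by
  have hc : c ≠ 0 := fun h => R.ρ_ne_zero g Φ.e_ne (by rw [he, h, zero_smul])
  have hd : d ≠ 0 := fun h => R.ρ_ne_zero g Φ.f_ne (by rw [hf, h, zero_smul])
  constructor
  · have h := R.isom g u Φ.e
    rw [he, S.smul_right, u.2.1] at h
    exact (mul_eq_zero.1 h).resolve_left (S.bar_ne_zero hc)
  · have h := R.isom g u Φ.f
    rw [hf, S.smul_right, u.2.2] at h
    exact (mul_eq_zero.1 h).resolve_left (S.bar_ne_zero hd)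

theorem exists_isOp {g : G} {c d : F} (he : R.ρ g Φ.e = c • Φ.e) (hf : R.ρ g Φ.f = d • Φ.f) :
    ∃ L, R.IsOp Φ g c L := by
  refine ⟨(S.bar c • (R.ρ g).comp Φ.W.subtype).codRestrict Φ.W fun u => ?_, d, he, hf, fun u => rfl⟩
  exact Φ.W.smul_mem _ (R.ρ_apply_W Φ he hf u)

theorem IsOp.conj {g : G} {c : F} {L : Module.End F Φ.W} (hL : R.IsOp Φ g c L) {x : G} {u : Φ.W}
    {t : F} (hx : R.ρ x = S.E Φ.e u t) :
    R.ρ (g * x * g⁻¹) = S.E Φ.e (L u) (c * S.bar c * t) := by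
  obtain ⟨d, he, -, hu⟩ := hL
  rw [R.conj_eq_E hx, he, S.E_smul, hu]

theorem Tb_map_conj [Finite G] {v : V} (hv : S.h v v = 0) (g : G) :
    (R.Tb v).map (MulAut.conj (mkQ g)).toMonoidHom = R.Tb (R.ρ g v) := by
  rw [Tb, Tb, ← R.map_conj_T hv, map_map, map_map]
  congr 1

theorem mem_Q_iff [Finite G] {g : G} :
    g ∈ R.Q Φ.e ↔ ∃ (u : Φ.W) (t : F), S.Valid (u : V) t ∧ R.ρ g = S.E Φ.e u t := by
  constructor
  · intro hg
    obtain ⟨u, t, hu, ht, hg⟩ := (R.mem_Q Φ.he).1 hg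
    set c := S.h u Φ.f with hc
    have hw : u - c • Φ.e ∈ Φ.W :=
      ⟨by rw [S.sub_left, S.smul_left, hu, Φ.he, mul_zero, sub_zero],
        by rw [S.sub_left, S.smul_left, Φ.hef, mul_one, hc, sub_self]⟩
    refine ⟨⟨_, hw⟩, t + c - S.ε * S.bar c, ?_, ?_⟩
    · unfold Space.Valid at ht ⊢
      rw [S.sub_left, S.sub_right, S.sub_right, S.smul_left, S.smul_left, S.smul_right,
        S.smul_right, hu, Φ.he, S.eq_zero_symm hu, map_sub, map_add, map_mul, S.bar_bar, S.bar_ε]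
      linear_combination ht - S.bar c * S.ε_sq
    · rw [← S.E_add_self, sub_add_cancel, hg]
  · rintro ⟨u, t, ht, hg⟩
    exact subset_closure ⟨u, t, u.2.1, ht, hg⟩

variable [Finite G] (p : ℕ) [Fact p.Prime] [CharP F p] [Finite V]

theorem core_eq (hd : R.Dense Φ) : R.core p Φ.e = R.Qb Φ.e := by
  refine le_antisymm (fun x hx => ?_) (R.Qb_le_core p Φ.he Φ.e_ne)
  set N : Subgroup G := ⨅ P : {P : Sylow p G // ∀ g ∈ P, R.ρ g Φ.e = Φ.e}, (P.1 : Subgroup G)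
    with hN
  obtain ⟨P₀, hP₀⟩ := R.exists_sylow_fixing p Φ.he Φ.e_ne
  have hNle : N ≤ P₀ := iInf_le_of_le ⟨P₀, hP₀⟩ le_rfl
  obtain ⟨n, hnN, rfl⟩ : ∃ n ∈ N, mkQ n = x := by
    rw [core, mem_iInf] at hx
    have hget : ∀ P : Sylow p G, (∀ g ∈ P, R.ρ g Φ.e = Φ.e) → ∃ n ∈ P, mkQ n = x := by
      intro P hP
      refine hx ⟨P.mapSurjective mkQ_surjective, ?_⟩
      rw [Sylow.coe_mapSurjective, R.cen_map p P.isPGroup']
      exact map_mono (R.T_le_cen p Φ.he P hP)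
    obtain ⟨n, hn, hnx⟩ := hget P₀ hP₀
    refine ⟨n, mem_iInf.2 fun P => ?_, hnx⟩
    obtain ⟨n', hn', hn'x⟩ := hget P.1 P.2
    rwa [R.eq_of_mk_eq' p P₀.isPGroup' P.1.isPGroup' hn hn' (hnx.trans hn'x.symm)]
  have hfix : ∀ m ∈ N, R.ρ m Φ.e = Φ.e := fun m hm => hP₀ m (hNle hm)
  have hnorm : ∀ g : G, ∀ c : F, R.ρ g Φ.e = c • Φ.e → ∀ m ∈ N, g⁻¹ * m * g ∈ N := by
    intro g c hg m hm
    refine mem_iInf.2 fun P => ?_
    have hP : ∀ y ∈ g • P.1, R.ρ y Φ.e = Φ.e := by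
      intro y hy
      obtain ⟨z, hz, rfl⟩ := exists_of_mem_smul p hy
      refine smul_right_injective V
        (fun h : c = 0 => R.ρ_ne_zero g Φ.e_ne (by rw [hg, h, zero_smul])) ?_
      change c • R.ρ _ Φ.e = c • Φ.e
      rw [← map_smul, ← hg, ← Module.End.mul_apply, ← map_mul, inv_mul_cancel_right, map_mul,
        Module.End.mul_apply, P.2 z hz]
    obtain ⟨z, hz, hzm⟩ := exists_of_mem_smul p ((mem_iInf.1 hm) ⟨g • P.1, hP⟩)
    have : g⁻¹ * m * g = z := by rw [← hzm]; simp [mul_assoc]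
    rw [this]
    exact hz
  have hperp : ∀ m ∈ N, ∀ w : V, S.h w Φ.e = 0 →
      R.ρ m w = S.h (R.ρ m w) Φ.f • Φ.e + (Φ.π (R.ρ m w) : V) := by
    intro m hm w hw
    have h : S.h (R.ρ m w) Φ.e = 0 := by
      conv_lhs => arg 3; rw [← hfix m hm]
      rw [R.isom, hw]
    conv_lhs => rw [Φ.decomp (R.ρ m w), h, mul_zero, zero_smul, add_zero]
  let act : MulAction N Φ.W :=
    { smul := fun m w => Φ.π (R.ρ m w)
      one_smul := fun w => by
        change Φ.π (R.ρ (1 : G) w) = w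
        rw [map_one, Module.End.one_apply, Φ.π_W]
      mul_smul := fun m m' w => by
        change Φ.π (R.ρ ((m : G) * m') w) = Φ.π (R.ρ m (Φ.π (R.ρ m' w) : V))
        rw [map_mul, Module.End.mul_apply]
        conv_lhs => rw [hperp m' m'.2 w w.2.1, map_add, map_smul, hfix m m.2]
        rw [map_add, map_smul, Φ.π_e, smul_zero, zero_add] }
  let C : AddSubgroup Φ.W :=
    { carrier := {w | ∀ m : N, Φ.π (R.ρ m w) = w}
      add_mem' := fun {a b} ha hb m => by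
        rw [Submodule.coe_add, map_add, map_add, ha m, hb m]
      zero_mem' := fun m => by simp
      neg_mem' := fun {a} ha m => by rw [Submodule.coe_neg, map_neg, map_neg, ha m] }
  have hCsmul : ∀ (a : F), ∀ w ∈ C, a • w ∈ C := fun a w hw m => by
    rw [Submodule.coe_smul, map_smul, map_smul, hw m]
  obtain ⟨w₀, hw₀, hw₀C⟩ : ∃ w : Φ.W, w ≠ 0 ∧ w ∈ C := by
    have hp : p ∣ Nat.card Φ.W := by
      obtain ⟨w, hw⟩ := exists_ne (0 : Φ.W)
      have hord : addOrderOf w = p := addOrderOf_eq_prime (by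
        rw [← Nat.cast_smul_eq_nsmul F, CharP.cast_eq_zero, zero_smul]) hw
      exact hord ▸ addOrderOf_dvd_natCard w
    obtain ⟨w, hw, hw0⟩ :=
      (P₀.isPGroup'.to_le hNle).exists_fixed_point_of_prime_dvd_card_of_fixed_point Φ.W hp (a := 0)
        fun m => by
          change Φ.π (R.ρ m ((0 : Φ.W) : V)) = 0
          simp
    exact ⟨w, fun h => hw0 h.symm, hw⟩
  have hinv : ∀ L : Module.End F Φ.W, ∀ w ∈ C, L w ∈ C := by
    intro L
    have hL : L ∈ AddSubgroup.closure {L | ∃ g c, R.IsOp Φ g c L} := hd.symm ▸ AddSubgroup.mem_top L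
    induction hL using AddSubgroup.closure_induction with
    | mem L hL =>
      obtain ⟨g, c, d, he, hf, hu⟩ := hL
      intro w hw m
      have hm' := hnorm g c he m m.2
      have hw' := hCsmul (S.bar c) w hw ⟨_, hm'⟩
      have h := hperp _ hm' ((S.bar c • w : Φ.W) : V) (S.bar c • w : Φ.W).2.1
      rw [show Φ.π (R.ρ (g⁻¹ * m * g) ((S.bar c • w : Φ.W) : V)) = S.bar c • w from hw'] at h
      have h2 : R.ρ m (L w : V) = R.ρ g (R.ρ (g⁻¹ * m * g) ((S.bar c • w : Φ.W) : V)) := by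
        rw [hu, Submodule.coe_smul, ← Module.End.mul_apply (R.ρ g), ← map_mul, ← mul_assoc,
          ← mul_assoc, mul_inv_cancel, one_mul, map_mul, Module.End.mul_apply, map_smul, map_smul,
          map_smul]
      rw [h2, h, map_add, map_smul, he, map_add, map_smul, map_smul, Φ.π_e, smul_zero, smul_zero,
        zero_add, Submodule.coe_smul, map_smul, ← hu, Φ.π_W]
    | zero => intro w _; exact C.zero_mem
    | add L L' _ _ hL hL' => intro w hw; exact C.add_mem (hL w hw) (hL' w hw)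
    | neg L _ hL => intro w hw; exact C.neg_mem (hL w hw)
  have htriv : ∀ w : Φ.W, Φ.π (R.ρ n w) = w := fun w => by
    obtain ⟨L, rfl⟩ := Φ.exists_linear hw₀ w
    exact hinv L w₀ hw₀C ⟨n, hnN⟩
  have hne := hfix n hnN
  obtain ⟨u, t, hu, -, ht, hmap⟩ := S.exists_E_map Φ.he Φ.hf Φ.hef (r := R.ρ n Φ.f)
    (by rw [R.isom, Φ.hf]) (by conv_lhs => arg 3; rw [← hne]
                               rw [R.isom, Φ.hfe])
  obtain ⟨q, hq, hqρ⟩ := R.exists_mem_Q Φ.he hu ht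
  refine ⟨n, ?_, rfl⟩
  suffices h : q⁻¹ * n = 1 by rwa [← inv_mul_eq_one.1 h]
  refine R.inj (LinearMap.ext fun y => ?_)
  have hqe : R.ρ q⁻¹ Φ.e = Φ.e := by
    conv_lhs => rw [← S.E_apply_self Φ.he hu t, ← hqρ, R.ρ_inv_apply]
  have hme : R.ρ (q⁻¹ * n) Φ.e = Φ.e := by rw [map_mul, Module.End.mul_apply, hne, hqe]
  have hmf : R.ρ (q⁻¹ * n) Φ.f = Φ.f := by
    rw [map_mul, Module.End.mul_apply, ← hmap, ← hqρ, R.ρ_inv_apply]
  have hmW : ∀ w : Φ.W, R.ρ (q⁻¹ * n) w = w := by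
    intro w
    have hmem := R.ρ_apply_W Φ (g := q⁻¹ * n) (c := 1) (d := 1) (by rw [hme, one_smul])
      (by rw [hmf, one_smul]) w
    have hqW : ∀ x : V, S.h x Φ.e = 0 → Φ.π (R.ρ q⁻¹ x) = Φ.π x := by
      intro x hx
      have h1 : R.ρ q x = x - (S.ε * S.h x u) • Φ.e := by rw [hqρ, S.E_apply_of_perp t hx]
      have h2 : R.ρ q⁻¹ x = x + (S.ε * S.h x u) • Φ.e := by
        conv_rhs => arg 1; rw [← R.ρ_inv_apply q x, h1, map_sub, map_smul, hqe]
        rw [sub_add_cancel]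
      rw [h2, map_add, map_smul, Φ.π_e, smul_zero, add_zero]
    have hnw : S.h (R.ρ n w) Φ.e = 0 := by
      conv_lhs => arg 3; rw [← hne]
      rw [R.isom, w.2.1]
    have h := congrArg Subtype.val (Φ.π_W ⟨_, hmem⟩)
    simp only [map_mul, Module.End.mul_apply, hqW _ hnw, htriv w] at h
    rw [map_mul, Module.End.mul_apply]
    exact h.symm
  rw [map_one, Module.End.one_apply]
  conv_lhs => rw [Φ.decomp y]
  rw [map_add, map_add, map_smul, map_smul, hme, hmf, hmW, ← Φ.decomp y]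

/-- Two parameters correspond under `β`. -/
def Rel (β : MulAut (G ⧸ center G)) (u v : Φ.W) : Prop :=
  ∃ (g g' : G) (t t' : F), S.Valid (u : V) t ∧ R.ρ g = S.E Φ.e u t ∧ S.Valid (v : V) t' ∧
    R.ρ g' = S.E Φ.e v t' ∧ β (mkQ g) = mkQ g'

/-- `β` fixes the point `e`. -/
def FixesPt (β : MulAut (G ⧸ center G)) (v : V) : Prop :=
  (R.Tb v).map β.toMonoidHom = R.Tb v

variable {R Φ} {β : MulAut (G ⧸ center G)}

omit [Finite G] [Finite V] in
theorem FixesPt.inv {v : V} (h : R.FixesPt β v) : R.FixesPt β⁻¹ v := by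
  rw [FixesPt]
  conv_lhs => rw [← h, map_map]
  convert Subgroup.map_id _
  ext x
  exact β.symm_apply_apply x

omit [Finite G] [Finite V] in
theorem Rel.symm {u v : Φ.W} (h : R.Rel Φ β u v) : R.Rel Φ β⁻¹ v u := by
  obtain ⟨g, g', t, t', h1, h2, h3, h4, h5⟩ := h
  exact ⟨g', g, t', t, h3, h4, h1, h2, by rw [← h5]; exact β.symm_apply_apply _⟩

omit [Finite G] [Finite V] in
theorem Rel.add {u v u' v' : Φ.W} (h : R.Rel Φ β u v) (h' : R.Rel Φ β u' v') :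
    R.Rel Φ β (u + u') (v + v') := by
  obtain ⟨g, g', t, t', h1, h2, h3, h4, h5⟩ := h
  obtain ⟨k, k', s, s', k1, k2, k3, k4, k5⟩ := h'
  refine ⟨g * k, g' * k', _, _, (Space.Valid.mul S u.2.1 u'.2.1 h1 k1).2, ?_,
    (Space.Valid.mul S v.2.1 v'.2.1 h3 k3).2, ?_, by rw [map_mul, map_mul, h5, k5, map_mul]⟩
  · rw [map_mul, h2, k2, S.E_mul Φ.he u.2.1 u'.2.1]; rfl
  · rw [map_mul, h4, k4, S.E_mul Φ.he v.2.1 v'.2.1]; rfl

include p in
theorem exists_rel (hd : R.Dense Φ) (hβ : R.FixesPt β Φ.e) (u : Φ.W) : ∃ v, R.Rel Φ β u v := by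
  obtain ⟨t, ht⟩ := S.tr (u : V)
  obtain ⟨g, hg, hρ⟩ := R.exists_mem_Q Φ.he u.2.1 ht
  have hcore : β (mkQ g) ∈ R.core p Φ.e := by
    have hgc : mkQ g ∈ R.core p Φ.e := R.core_eq Φ p hd ▸ mem_map_of_mem _ hg
    refine mem_iInf.2 fun P => ?_
    have hc : R.Tb Φ.e ≤ cen ((β⁻¹ • P.1 : Sylow p (G ⧸ center G)) : Subgroup (G ⧸ center G)) := by
      change _ ≤ cen ((P.1 : Subgroup _).map (β⁻¹).toMonoidHom)
      rw [cen_map_equiv]
      exact hβ.inv.ge.trans (map_mono P.2)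
    obtain ⟨z, hz, hzg⟩ := (mem_iInf.1 hgc) ⟨β⁻¹ • P.1, hc⟩
    have hzg' : β⁻¹ z = mkQ g := hzg
    rw [← hzg']
    change β (β.symm z) ∈ _
    rwa [β.apply_symm_apply]
  rw [R.core_eq Φ p hd] at hcore
  obtain ⟨g', hg', hgg'⟩ := hcore
  obtain ⟨v, t', ht', hρ'⟩ := (R.mem_Q_iff Φ).1 hg'
  exact ⟨v, g, g', t, t', ht, hρ, ht', hρ', hgg'.symm⟩

omit [Finite V] in
include p in
theorem Rel.eq_zero (hβ : R.FixesPt β Φ.e) {v : Φ.W} (h : R.Rel Φ β 0 v) : v = 0 := by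
  obtain ⟨g, g', t, t', h1, h2, h3, h4, h5⟩ := h
  have hg : g ∈ R.T Φ.e := subset_closure ⟨t, h1, h2⟩
  have hmem : β (mkQ g) ∈ R.Tb Φ.e := hβ ▸ mem_map_of_mem β.toMonoidHom (mem_map_of_mem mkQ hg)
  obtain ⟨x, hx, hxg⟩ := hmem
  have heq := R.eq_of_mk_eq' p (R.isPGroup_T p Φ.he) (R.isPGroup_Q p Φ.he) hx
    (subset_closure ⟨_, t', v.2.1, h3, h4⟩) (hxg.trans h5)
  obtain ⟨s, -, hxρ⟩ := (R.mem_T Φ.he).1 hx
  rw [heq, h4] at hxρ
  exact Subtype.ext (S.eq_zero_of_E_eq Φ.hef v.2.2 (S.zero_left _) hxρ).1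

include p in
theorem Rel.unique (hd : R.Dense Φ) (hβ : R.FixesPt β Φ.e) {u v v' : Φ.W} (h : R.Rel Φ β u v)
    (h' : R.Rel Φ β u v') : v = v' := by
  obtain ⟨w, hw⟩ := exists_rel p hd hβ (-u)
  have h1 := h.add hw
  have h2 := h'.add hw
  rw [add_neg_cancel] at h1 h2
  exact add_right_cancel ((h1.eq_zero p hβ).trans (h2.eq_zero p hβ).symm)

include p in
/-- The additive map of `W` given by an automorphism fixing the point. -/
theorem exists_addEquiv (hd : R.Dense Φ) (hβ : R.FixesPt β Φ.e) :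
    ∃ A : Φ.W ≃+ Φ.W, ∀ u, R.Rel Φ β u (A u) := by
  choose f hf using exists_rel p hd hβ (β := β)
  choose f' hf' using exists_rel p hd hβ.inv (β := β⁻¹)
  refine ⟨{ toFun := f, invFun := f', left_inv := fun u => ?_, right_inv := fun u => ?_,
            map_add' := fun u v => ?_ }, hf⟩
  · exact ((hf u).symm.unique p hd hβ.inv (hf' (f u))).symm
  · have h := (hf' u).symm
    rw [inv_inv] at h
    exact (h.unique p hd hβ (hf (f' u))).symm
  · exact (hf (u + v)).unique p hd hβ ((hf u).add (hf v))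

include p in
theorem exists_op_rel (hd : R.Dense Φ) (hβ : R.FixesPt β Φ.e) (hβf : R.FixesPt β Φ.f)
    {A : Φ.W ≃+ Φ.W} (hA : ∀ u, R.Rel Φ β u (A u)) {g g' : G} {c : F} {L : Module.End F Φ.W}
    (hL : R.IsOp Φ g c L) (hgg' : β (mkQ g) = mkQ g') :
    ∃ c' L', R.IsOp Φ g' c' L' ∧ ∀ u, A (L u) = L' (A u) := by
  have hpt : ∀ v : V, S.h v v = 0 → v ≠ 0 → R.FixesPt β v → (∃ a : F, R.ρ g v = a • v) →
      ∃ a : F, R.ρ g' v = a • v := by
    rintro v hv hv0 hfv ⟨a, ha⟩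
    have ha0 : a ≠ 0 := fun h => R.ρ_ne_zero g hv0 (by rw [ha, h, zero_smul])
    have h : R.Tb (R.ρ g' v) = R.Tb v := by
      have h1 : (R.Tb v).map (MulAut.conj (mkQ g)).toMonoidHom = R.Tb v := by
        rw [R.Tb_map_conj hv, ha, Tb, R.T_smul ha0, ← Tb]
      rw [← R.Tb_map_conj hv]
      calc (R.Tb v).map (MulAut.conj (mkQ g')).toMonoidHom
          = ((R.Tb v).map β.toMonoidHom).map (MulAut.conj (mkQ g')).toMonoidHom := by rw [hfv]
        _ = ((R.Tb v).map (MulAut.conj (mkQ g)).toMonoidHom).map β.toMonoidHom := by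
          rw [map_map, map_map]
          congr 1
          ext x
          simp [← hgg']
        _ = R.Tb v := by rw [h1, hfv]
    obtain ⟨b, -, hb⟩ := R.point_eq p hv (by rw [R.isom, hv]) (R.ρ_ne_zero g' hv0) h.symm
    exact ⟨b, hb⟩
  obtain ⟨d, he, hf, hLu⟩ := hL
  obtain ⟨c', hc'⟩ := hpt _ Φ.he Φ.e_ne hβ ⟨c, he⟩
  obtain ⟨d', hd'⟩ := hpt _ Φ.hf Φ.f_ne hβf ⟨d, hf⟩
  obtain ⟨L', hL'⟩ := R.exists_isOp Φ hc' hd'
  refine ⟨c', L', hL', fun u => ?_⟩
  obtain ⟨x, x', t, t', h1, h2, h3, h4, h5⟩ := hA u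
  have hscale : ∀ (g : G) (c : F) (L : Module.End F Φ.W), R.IsOp Φ g c L → ∀ (u : Φ.W) (t : F),
      S.Valid (u : V) t → S.Valid ((L u : Φ.W) : V) (c * S.bar c * t) := by
    rintro g c L ⟨d, -, -, hu⟩ u t ht
    unfold Space.Valid at ht ⊢
    rw [hu, S.smul_left, S.smul_right, S.bar_bar, R.isom, map_mul, map_mul, S.bar_bar]
    linear_combination (c * S.bar c) * ht
  refine (hA (L u)).unique p hd hβ ⟨g * x * g⁻¹, g' * x' * g'⁻¹, _, _,
    hscale g c L ⟨d, he, hf, hLu⟩ u t h1, IsOp.conj R Φ ⟨d, he, hf, hLu⟩ h2,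
    hscale g' c' L' hL' _ t' h3, IsOp.conj R Φ hL' h4, ?_⟩
  simp only [map_mul, map_inv, h5, hgg']

end Rep

end CfsgLib.ClassicalAut
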