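import Cfsg.Agent.Lib.ClassicalAut.Perp

set_option autoImplicit false

/-!
Characteristic two, alternating forms: transvections are recognised among the involutions central
in a Sylow subgroup by the orders of products of two conjugates.
-/

namespace CfsgLib.ClassicalAut

open Subgroup

variable {F : Type*} [Field F] {V : Type*} [AddCommGroup V] [Module F V]
variable {S : Space F V} {G : Type*} [Group G] (R : Rep S G)

/-- No product with a conjugate has order divisible by four. -/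
def NoFour {H : Type*} [Group H] (x : H) : Prop := ∀ g : H, ¬ 4 ∣ orderOf (x * (g * x * g⁻¹))

theorem NoFour.map {H K : Type*} [Group H] [Group K] {x : H} (h : NoFour x) (e : H ≃* K) :
    NoFour (e x) := fun g => by
  have h' := h (e.symm g)
  rwa [← e.orderOf_eq, map_mul, map_mul, map_mul, map_inv, e.apply_symm_apply] at h'

theorem NoFour.conj {H : Type*} [Group H] {x : H} (h : NoFour x) (g : H) :
    NoFour (g * x * g⁻¹) := h.map (MulAut.conj g)

namespace Rep

theorem hA_two [CharP F 2] {e : V} (u : V) (t : F) (x : V) :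
    S.E e u t x = x + S.h x e • u + S.h x u • e + (t * S.h x e) • e := by
  rw [S.E_apply, ε_eq_one (S := S), one_mul, sub_eq_add_neg, ← neg_smul, CharTwo.neg_eq]

variable [CharP F 2]

include R in
theorem center_eq_bot (Φ : Frame S) (hbar : ∀ a, S.bar a = a) {z : G} (hz : z ∈ center G) :
    z = 1 := by
  obtain ⟨c, hc⟩ := (R.center_iff z).1 hz
  have h := R.isom z Φ.e Φ.f
  rw [hc, LinearMap.smul_apply, LinearMap.smul_apply, Module.End.one_apply, Module.End.one_apply,
    S.smul_left, S.smul_right, hbar, Φ.hef, mul_one] at h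
  have hc1 : c = 1 := by
    have h2 : (c + 1) ^ 2 = 0 := by rw [CharTwo.add_sq, one_pow, sq, h, CharTwo.add_self_eq_zero]
    exact CharTwo.add_eq_zero.1 (pow_eq_zero_iff two_ne_zero |>.1 h2)
  exact R.inj (by rw [hc, hc1, one_smul, map_one])

include R in
theorem mkQ_injective (Φ : Frame S) (hbar : ∀ a, S.bar a = a) :
    Function.Injective (mkQ (G := G)) := by
  intro a b h
  exact inv_mul_eq_one.1 (R.center_eq_bot Φ hbar (QuotientGroup.eq.1 h))

variable [Finite G]

theorem T_sq {a : V} (ha : S.h a a = 0) {x : G} (hx : x ∈ R.T a) :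
    x * x = 1 := by
  obtain ⟨t, -, hρ⟩ := (R.mem_T ha).1 hx
  refine R.inj ?_
  rw [map_mul, hρ, ← sq, E_zero_pow ha, Nat.cast_ofNat, CharTwo.two_eq_zero, zero_mul,
    S.E_zero_zero, map_one]

omit [Finite G] in
/-- The centraliser of a transvection fixes its centre. -/
theorem fixes_of_commute (hbar : ∀ a, S.bar a = a) {a : V} {t : F} (ha : S.h a a = 0)
    (ha0 : a ≠ 0) (ht : t ≠ 0) {x g : G} (hx : R.ρ x = S.E a 0 t) (hg : g * x = x * g) :
    R.ρ g a = a := by
  obtain ⟨f, -, haf⟩ := S.exists_partner ha ha0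
  have h := R.conj_eq_E (g := g) hx
  rw [hg, mul_inv_cancel_right, hx, map_zero] at h
  have h1 := LinearMap.congr_fun h f
  rw [S.E_zero_apply, S.E_zero_apply, add_left_cancel_iff] at h1
  have hfa : S.h f a = 1 := by rw [S.swap, haf, ε_eq_one (S := S), map_one, mul_one]
  rw [hfa, mul_one] at h1
  set d := t * S.h f (R.ρ g a)
  have hd : d ≠ 0 := fun h0 => by
    rw [h0, zero_smul] at h1
    exact ht ((smul_eq_zero.1 h1).resolve_right ha0)
  have hga : R.ρ g a = (d⁻¹ * t) • a := by rw [mul_smul, h1, inv_smul_smul₀ hd]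
  have h2 : d = t * (d⁻¹ * t) := by
    conv_lhs => rw [show d = t * S.h f (R.ρ g a) from rfl, hga, S.smul_right, hbar, hfa, mul_one]
  have h3 : (d⁻¹ * t + 1) ^ 2 = 0 := by
    rw [CharTwo.add_sq, one_pow]
    have : (d⁻¹ * t) ^ 2 = 1 := by
      field_simp at h2 ⊢
      linear_combination -h2
    rw [this, CharTwo.add_self_eq_zero]
  rw [hga, CharTwo.add_eq_zero.1 (pow_eq_zero_iff two_ne_zero |>.1 h3), one_smul]

/-- Transvections have no product with a conjugate of order divisible by four. -/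
theorem noFour_T (hbar : ∀ a, S.bar a = a) {a : V} (ha : S.h a a = 0) (ha0 : a ≠ 0) {x : G}
    (hx : x ∈ R.T a) (hx1 : x ≠ 1) : NoFour x := by
  intro g h4
  obtain ⟨t, -, hρ⟩ := (R.mem_T ha).1 hx
  have ht : t ≠ 0 := fun h0 => hx1 (R.inj (by rw [hρ, h0, S.E_zero_zero, map_one]))
  set b := R.ρ g a with hb
  have hbb : S.h b b = 0 := by rw [R.isom, ha]
  set y := g * x * g⁻¹
  have hy : y ∈ R.T b := R.conj_mem_T ha hx g
  have hyρ : R.ρ y = S.E b 0 t := by rw [R.conj_eq_E hρ, map_zero]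
  have hx2 := R.T_sq ha hx
  have hy2 := R.T_sq hbb hy
  by_cases hab : S.h a b = 0
  · have hc : y * x = x * y := by
      have h := R.conj_eq_E (g := y) hρ
      rw [map_zero, hyρ, S.E_zero_apply, hab, mul_zero, zero_smul, add_zero, ← hρ] at h
      exact mul_inv_eq_iff_eq_mul.1 (R.inj h)
    have h2 : (x * y) ^ 2 = 1 := by
      rw [sq, mul_assoc, ← mul_assoc y x, hc, mul_assoc x y y, hy2, mul_one, hx2]
    exact absurd (h4.trans (orderOf_dvd_of_pow_eq_one h2)) (by norm_num)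
  · set n := orderOf (x * y) with hn
    set i := (x * y) ^ (n / 2) with hi
    have hev : 2 ∣ n := (by norm_num : (2 : ℕ) ∣ 4).trans h4
    have hi2 : i * i = 1 := by
      rw [hi, ← pow_add, ← two_mul, Nat.mul_div_cancel' hev, hn, pow_orderOf_eq_one]
    have hinv : (x * y)⁻¹ = y * x := by
      rw [mul_inv_rev, inv_eq_of_mul_eq_one_right hx2, inv_eq_of_mul_eq_one_right hy2]
    have hconj : x * i * x⁻¹ = i := by
      rw [hi, ← conj_pow, inv_eq_of_mul_eq_one_right hx2, ← mul_assoc x x y, hx2, one_mul, ← hinv,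
        inv_pow, ← hi, inv_eq_of_mul_eq_one_right hi2]
    have hcx : i * x = x * i := by rw [mul_inv_eq_iff_eq_mul.1 hconj]
    have hcy : i * y = y * i := by
      have h1 : i * (x * y) = x * y * i := (Commute.pow_self _ _).eq
      rw [← mul_assoc, hcx, mul_assoc, mul_assoc] at h1
      exact mul_left_cancel h1
    have hia := R.fixes_of_commute hbar ha ha0 ht hρ hcx
    have hib := R.fixes_of_commute hbar hbb (R.ρ_ne_zero g ha0) ht hyρ hcy
    have hperp : ∀ w, S.h w a = 0 → S.h w b = 0 → R.ρ i w = w := by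
      intro w hwa hwb
      have h1 : R.ρ (x * y) w = w := by
        rw [map_mul, Module.End.mul_apply, hyρ, S.E_zero_apply, hwb, mul_zero, zero_smul, add_zero,
          hρ, S.E_zero_apply, hwa, mul_zero, zero_smul, add_zero]
      have h2 : ∀ k : ℕ, R.ρ ((x * y) ^ k) w = w := fun k => by
        induction k with
        | zero => simp
        | succ k ih => rw [pow_succ, map_mul, Module.End.mul_apply, h1, ih]
      exact h2 _
    have hi1 : i = 1 := by
      refine R.inj (LinearMap.ext fun v => ?_)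
      set b' := (S.h a b)⁻¹ • b with hb'
      have hb'b' : S.h b' b' = 0 := by rw [hb', S.smul_left, S.smul_right, hbb]; ring
      have hab' : S.h a b' = 1 := by
        rw [hb', S.smul_right, hbar, inv_mul_cancel₀ hab]
      rw [map_one, Module.End.one_apply]
      conv_lhs => rw [S.decomp a b' v]
      conv_rhs => rw [S.decomp a b' v]
      have h3 : S.h (S.proj a b' v) b = 0 := by
        have h := S.proj_right (x := v) hb'b' hab'
        rw [hb', S.smul_right, mul_eq_zero] at h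
        exact h.resolve_left (S.bar_ne_zero (inv_ne_zero hab))
      rw [map_add, map_add, map_smul, map_smul, hperp _ (S.proj_left ha hab') h3, hia, hb',
        map_smul, hib]
    rw [hi, ← orderOf_dvd_iff_pow_eq_one] at hi1
    have hpos : 0 < n := orderOf_pos _
    have := Nat.le_of_dvd (Nat.div_pos (Nat.le_of_dvd hpos hev) two_pos) hi1
    omega

omit [Finite G] in
/-- The exchange of two orthogonal hyperbolic pairs. -/
theorem exists_swap (hbar : ∀ a, S.bar a = a) (halt : ∀ v, S.h v v = 0) {e f w z : V}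
    (hef : S.h e f = 1) (hwz : S.h w z = 1) (hew : S.h e w = 0) (hez : S.h e z = 0)
    (hfw : S.h f w = 0) (hfz : S.h f z = 0) :
    ∃ g, R.ρ g e = w ∧ R.ρ g w = e ∧ R.ρ g f = z ∧ R.ρ g z = f ∧
      ∀ v, S.h v e = 0 → S.h v f = 0 → S.h v w = 0 → S.h v z = 0 → R.ρ g v = v := by
  have hfe : S.h f e = 1 := by rw [S.swap, hef, ε_eq_one (S := S), map_one, mul_one]
  have hzw : S.h z w = 1 := by rw [S.swap, hwz, ε_eq_one (S := S), map_one, mul_one]
  have hwe := S.eq_zero_symm hew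
  have hze := S.eq_zero_symm hez
  have hwf := S.eq_zero_symm hfw
  have hzf := S.eq_zero_symm hfz
  obtain ⟨A, hA⟩ := R.root e z 0 (halt e) hze (valid_of_alt hbar halt z 0)
  obtain ⟨B, hB⟩ := R.root w f 0 (halt w) hfw (valid_of_alt hbar halt f 0)
  have h2 : ∀ x : V, x + x = 0 := fun x => by
    rw [← two_smul F x, CharTwo.two_eq_zero, zero_smul]
  have cA : ∀ x, R.ρ A x = x + S.h x e • z + S.h x z • e := fun x => by
    rw [hA, hA_two, zero_mul, zero_smul, add_zero]
  have cB : ∀ x, R.ρ B x = x + S.h x w • f + S.h x f • w := fun x => by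
    rw [hB, hA_two, zero_mul, zero_smul, add_zero]
  have Ae : R.ρ A e = e := by simp [cA, halt, hez]
  have Aw : R.ρ A w = w + e := by simp [cA, hwe, hwz]
  have Af : R.ρ A f = f + z := by simp [cA, hfe, hfz]
  have Az : R.ρ A z = z := by simp [cA, hze, halt]
  have Be : R.ρ B e = e + w := by simp [cB, hew, hef]
  have Bw : R.ρ B w = w := by simp [cB, halt, hwf]
  have Bf : R.ρ B f = f := by simp [cB, halt, hfw]
  have Bz : R.ρ B z = z + f := by simp [cB, hzw, hzf]
  refine ⟨A * B * A, ?_, ?_, ?_, ?_, fun v h1 h2' h3 h4 => ?_⟩ <;>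
    simp only [map_mul, Module.End.mul_apply]
  · rw [Ae, Be, map_add, Ae, Aw, add_left_comm, h2, add_zero]
  · rw [Aw, map_add, Bw, Be, add_left_comm, h2, add_zero, Ae]
  · rw [Af, map_add, Bf, Bz, add_left_comm, h2, add_zero, Az]
  · rw [Az, Bz, map_add, Az, Af, add_left_comm, h2, add_zero]
  · simp [cA, cB, h1, h2', h3, h4]

omit [Finite G] in
theorem exists_transvection (hbar : ∀ a, S.bar a = a) (halt : ∀ v, S.h v v = 0) (a : V) :
    ∃ g, ∀ x, R.ρ g x = x + S.h x a • a := by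
  obtain ⟨g, hg⟩ := R.root a 0 1 (halt a) (S.zero_left a) (valid_of_alt hbar halt 0 1)
  exact ⟨g, fun x => by rw [hg, S.E_zero_apply, one_mul]⟩

omit [CharP F 2] [Finite G] in
theorem not_noFour {x y : G} {v : V} (hy : ∃ g, y = g * x * g⁻¹)
    (h1 : R.ρ (x * y) v ≠ v) (h2 : R.ρ (x * y) (R.ρ (x * y) v) ≠ v)
    (h3 : R.ρ (x * y) (R.ρ (x * y) (R.ρ (x * y) v)) ≠ v)
    (h4 : R.ρ (x * y) (R.ρ (x * y) (R.ρ (x * y) (R.ρ (x * y) v))) = v) : ¬ NoFour x := by
  intro hnf
  obtain ⟨g, rfl⟩ := hy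
  refine hnf g ?_
  set M := x * (g * x * g⁻¹)
  have hper : ∀ k : ℕ, R.ρ (M ^ (4 * k)) v = v := fun k => by
    induction k with
    | zero => simp
    | succ k ih =>
      rw [mul_add, mul_one, pow_add, map_mul, Module.End.mul_apply]
      rw [show R.ρ (M ^ 4) v = v by simpa [pow_succ, map_mul] using h4, ih]
  have hn : R.ρ (M ^ (orderOf M % 4)) v = v := by
    have h := congrArg (fun z => R.ρ z v) (pow_orderOf_eq_one M)
    simp only [map_one, Module.End.one_apply] at h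
    rwa [← Nat.mod_add_div (orderOf M) 4, pow_add, map_mul, Module.End.mul_apply, hper] at h
  have hlt := Nat.mod_lt (orderOf M) (by norm_num : 4 > 0)
  refine Nat.dvd_of_mod_eq_zero ?_
  by_contra hne
  rcases (show orderOf M % 4 = 1 ∨ orderOf M % 4 = 2 ∨ orderOf M % 4 = 3 by omega) with h | h | h <;>
    rw [h] at hn
  · exact h1 (by simpa using hn)
  · exact h2 (by simpa [pow_succ, map_mul] using hn)
  · exact h3 (by simpa [pow_succ, map_mul] using hn)

omit [Finite G] in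
/-- `E e w t` with `w`, `t` non-zero has a product with a conjugate of order divisible by four. -/
theorem not_noFour_mixed (Φ : Frame S) (hbar : ∀ a, S.bar a = a) (halt : ∀ v, S.h v v = 0)
    {x : G} {w : Φ.W} {t : F} (hw : w ≠ 0) (ht : t ≠ 0) (hx : R.ρ x = S.E Φ.e w t) :
    ¬ NoFour x := by
  obtain ⟨z, hz⟩ := Φ.exists_partner_W hw
  have hwz : S.h (w : V) z = 1 := by rw [S.swap, hz, ε_eq_one (S := S), map_one, mul_one]
  have hfe : S.h Φ.f Φ.e = 1 := by rw [Φ.hfe, ε_eq_one]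
  obtain ⟨s, hs1, hs2, -, -, -⟩ := R.exists_swap hbar halt Φ.hef hwz
    (S.eq_zero_symm w.2.1) (S.eq_zero_symm z.2.1) (S.eq_zero_symm w.2.2) (S.eq_zero_symm z.2.2)
  obtain ⟨τ, hτ⟩ := R.exists_transvection hbar halt (Φ.e + Φ.f)
  have h2 : ∀ y : V, y + y = 0 := fun y => by
    rw [← two_smul F y, CharTwo.two_eq_zero, zero_smul]
  have hτw : R.ρ τ (w : V) = w := by
    rw [hτ, S.add_right, w.2.1, w.2.2, add_zero, zero_smul, add_zero]
  have hτe : R.ρ τ Φ.e = Φ.f := by
    rw [hτ, S.add_right, Φ.he, Φ.hef, zero_add, one_smul, ← add_assoc, h2, zero_add]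
  set y := τ * s * x * (τ * s)⁻¹
  have hy : R.ρ y = S.E (w : V) Φ.f t := by
    rw [R.conj_eq_E hx]
    simp only [map_mul, Module.End.mul_apply, hs1, hs2, hτw, hτe]
  have cx : ∀ v, R.ρ x v = v + S.h v Φ.e • (w : V) + S.h v w • Φ.e + (t * S.h v Φ.e) • Φ.e :=
    fun v => by rw [hx, hA_two]
  have cy : ∀ v, R.ρ y v = v + S.h v w • Φ.f + S.h v Φ.f • (w : V) + (t * S.h v w) • (w : V) :=
    fun v => by rw [hy, hA_two]
  have hew := S.eq_zero_symm w.2.1
  have hfw := S.eq_zero_symm w.2.2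
  have xf : R.ρ x Φ.f = Φ.f + (w : V) + t • Φ.e := by simp [cx, hfe, hfw]
  have xe : R.ρ x Φ.e = Φ.e := by simp [cx, Φ.he, hew]
  have xw : R.ρ x (w : V) = w := by simp [cx, w.2.1, halt]
  have yf : R.ρ y Φ.f = Φ.f := by simp [cy, hfw, Φ.hf]
  have ye : R.ρ y Φ.e = Φ.e + (w : V) := by simp [cy, hew, Φ.hef]
  have yw : R.ρ y (w : V) = w := by simp [cy, halt, w.2.2]
  have Mf : R.ρ (x * y) Φ.f = Φ.f + (w : V) + t • Φ.e := by rw [map_mul, Module.End.mul_apply, yf, xf]
  have Me : R.ρ (x * y) Φ.e = Φ.e + (w : V) := by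
    rw [map_mul, Module.End.mul_apply, ye, map_add, xe, xw]
  have Mw : R.ρ (x * y) (w : V) = w := by rw [map_mul, Module.End.mul_apply, yw, xw]
  refine R.not_noFour (y := y) (v := Φ.f) ⟨τ * s, rfl⟩ ?_ ?_ ?_ ?_ <;>
    simp only [Mf, Me, Mw, map_add, map_smul]
  · intro h
    have h' := congrArg (fun v => S.h v z) h
    simp only [S.add_left, S.smul_left, hwz, S.eq_zero_symm z.2.1, S.eq_zero_symm z.2.2, mul_zero,
      add_zero, zero_add] at h'
    exact one_ne_zero h'
  · intro h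
    have h' := congrArg (fun v => S.h v z) h
    simp only [S.add_left, S.smul_left, hwz, S.eq_zero_symm z.2.1, S.eq_zero_symm z.2.2, mul_zero,
      add_zero, zero_add, mul_one] at h'
    rw [CharTwo.add_self_eq_zero, zero_add] at h'
    exact ht h'
  · intro h
    have h' := congrArg (fun v => S.h v Φ.f) h
    simp only [S.add_left, S.smul_left, Φ.hef, Φ.hf, w.2.2, add_zero, zero_add,
      mul_one] at h'
    exact ht (by linear_combination h' - t * CharTwo.two_eq_zero (R := F))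
  · have h4 : (4 : F) = 0 := by linear_combination 2 * CharTwo.two_eq_zero (R := F)
    have h6 : (6 : F) = 0 := by linear_combination 3 * CharTwo.two_eq_zero (R := F)
    match_scalars <;> ring_nf <;> simp [h4, h6]

omit [Finite G] in
/-- `E e w 0` has a product with a conjugate of order divisible by four in rank at least three. -/
theorem not_noFour_short (Φ : Frame S) (hbar : ∀ a, S.bar a = a) (halt : ∀ v, S.h v v = 0)
    {x : G} {w z u u' : Φ.W} (hwz : S.h (w : V) z = 1) (huu : S.h (u : V) u' = 1)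
    (hwu : S.h (w : V) u = 0) (hzu : S.h (z : V) u = 0)
    (hzu' : S.h (z : V) u' = 0) (hx : R.ρ x = S.E Φ.e w 0) : ¬ NoFour x := by
  have hew := S.eq_zero_symm w.2.1
  have hez := S.eq_zero_symm z.2.1
  have hfw := S.eq_zero_symm w.2.2
  have hfz := S.eq_zero_symm z.2.2
  have hzw : S.h (z : V) w = 1 := by rw [S.swap, hwz, ε_eq_one (S := S), map_one, mul_one]
  have hu'u : S.h (u' : V) u = 1 := by rw [S.swap, huu, ε_eq_one (S := S), map_one, mul_one]
  obtain ⟨s₁, hs1, hs2, -, -, -⟩ := R.exists_swap hbar halt Φ.hef hwz hew hez hfw hfz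
  obtain ⟨τ, hτ⟩ := R.exists_transvection hbar halt ((w : V) + z)
  obtain ⟨s₂, hr1, -, -, -, hr5⟩ := R.exists_swap hbar halt Φ.hef hu'u
    (S.eq_zero_symm u'.2.1) (S.eq_zero_symm u.2.1) (S.eq_zero_symm u'.2.2) (S.eq_zero_symm u.2.2)
  have h2 : ∀ y : V, y + y = 0 := fun y => by
    rw [← two_smul F y, CharTwo.two_eq_zero, zero_smul]
  have hτw : R.ρ τ (w : V) = z := by
    rw [hτ, S.add_right, halt, hwz, zero_add, one_smul, ← add_assoc, h2, zero_add]
  have hτe : R.ρ τ Φ.e = Φ.e := by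
    rw [hτ, S.add_right, hew, hez, add_zero, zero_smul, add_zero]
  have hr2 : R.ρ s₂ (z : V) = z := hr5 _ z.2.1 z.2.2 hzu' hzu
  set y := s₂ * τ * s₁ * x * (s₂ * τ * s₁)⁻¹
  have hy : R.ρ y = S.E (z : V) (u' : V) 0 := by
    rw [R.conj_eq_E hx]
    simp only [map_mul, Module.End.mul_apply, hs1, hs2, hτw, hτe, hr1, hr2]
  have cx : ∀ v, R.ρ x v = v + S.h v Φ.e • (w : V) + S.h v w • Φ.e := fun v => by
    rw [hx, hA_two, zero_mul, zero_smul, add_zero]
  have cy : ∀ v, R.ρ y v = v + S.h v z • (u' : V) + S.h v u' • (z : V) := fun v => by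
    rw [hy, hA_two, zero_mul, zero_smul, add_zero]
  have yu : R.ρ y (u : V) = (u : V) + z := by simp [cy, S.eq_zero_symm hzu, huu]
  have yz : R.ρ y (z : V) = z := by simp [cy, halt, hzu']
  have ye : R.ρ y Φ.e = Φ.e := by simp [cy, hez, S.eq_zero_symm u'.2.1]
  have xu : R.ρ x (u : V) = u := by simp [cx, u.2.1, S.eq_zero_symm hwu]
  have xz : R.ρ x (z : V) = (z : V) + Φ.e := by simp [cx, z.2.1, hzw]
  have xe : R.ρ x Φ.e = Φ.e := by simp [cx, Φ.he, hew]
  have Mu : R.ρ (x * y) (u : V) = (u : V) + ((z : V) + Φ.e) := by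
    rw [map_mul, Module.End.mul_apply, yu, map_add, xu, xz]
  have Mz : R.ρ (x * y) (z : V) = (z : V) + Φ.e := by rw [map_mul, Module.End.mul_apply, yz, xz]
  have Me : R.ρ (x * y) Φ.e = Φ.e := by rw [map_mul, Module.End.mul_apply, ye, xe]
  refine R.not_noFour (y := y) (v := (u : V)) ⟨s₂ * τ * s₁, rfl⟩ ?_ ?_ ?_ ?_ <;>
    simp only [Mu, Mz, Me, map_add]
  · intro h
    have h' := congrArg (fun v => S.h v w) h
    simp only [S.add_left, hzw, hew, S.eq_zero_symm hwu, zero_add, add_zero] at h'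
    exact one_ne_zero h'
  · intro h
    have h' := congrArg (fun v => S.h v Φ.f) h
    simp only [S.add_left, Φ.hef, u.2.2, z.2.2, zero_add] at h'
    exact one_ne_zero (show (1 : F) = 0 by linear_combination h' - CharTwo.two_eq_zero (R := F))
  · intro h
    have h' := congrArg (fun v => S.h v w) h
    simp only [S.add_left, hzw, hew, S.eq_zero_symm hwu, zero_add, add_zero] at h'
    exact one_ne_zero (show (1 : F) = 0 by linear_combination h' - CharTwo.two_eq_zero (R := F))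
  · abel_nf
    rw [show (4 : ℤ) = 2 + 2 from rfl, show (10 : ℤ) = 2 + 2 + (2 + 2) + 2 from rfl]
    simp only [add_smul, two_smul, h2, add_zero]


variable [Finite V]

omit [Finite V] in
/-- An element central in a Sylow subgroup fixing `e` is an elation at `e`. -/
theorem cen_le_Q (Φ : Frame S) (hbar : ∀ a, S.bar a = a) (halt : ∀ v, S.h v v = 0)
    (P : Sylow 2 G) (hfix : ∀ g ∈ P, R.ρ g Φ.e = Φ.e) : cen (P : Subgroup G) ≤ R.Q Φ.e := by
  rintro z ⟨hzP, hzC⟩
  have hze := hfix z hzP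
  have hmod : ∀ u, S.h u Φ.e = 0 → ∃ c : F, R.ρ z u = u + c • Φ.e := by
    intro u hu
    obtain ⟨g, hg, hρ⟩ := R.exists_mem_Q Φ.he hu (valid_of_alt hbar halt u 0)
    have h := R.conj_eq_E (g := z) hρ
    rw [← hzC g (R.Q_le_sylow 2 Φ.he P hfix hg), mul_inv_cancel_right, hρ, hze] at h
    have h1 := LinearMap.congr_fun h Φ.f
    have hfe : S.h Φ.f Φ.e = 1 := by rw [Φ.hfe, ε_eq_one]
    simp only [hA_two, hfe, one_smul, zero_mul, zero_smul, add_zero] at h1
    refine ⟨S.h Φ.f u - S.h Φ.f (R.ρ z u), ?_⟩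
    linear_combination (norm := module) -h1
  obtain ⟨u, t, hu, -, ht, hmap⟩ := S.exists_E_map Φ.he Φ.hf Φ.hef (r := R.ρ z Φ.f)
    (by rw [R.isom, Φ.hf]) (by conv_lhs => arg 3; rw [← hze]
                               rw [R.isom, Φ.hfe])
  obtain ⟨q, hq, hqρ⟩ := R.exists_mem_Q Φ.he hu ht
  suffices h : q⁻¹ * z = 1 by rwa [← inv_mul_eq_one.1 h]
  refine R.inj (LinearMap.ext fun y => ?_)
  have hqe : R.ρ q⁻¹ Φ.e = Φ.e := by
    conv_lhs => rw [← S.E_apply_self Φ.he hu t, ← hqρ, R.ρ_inv_apply]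
  have hme : R.ρ (q⁻¹ * z) Φ.e = Φ.e := by rw [map_mul, Module.End.mul_apply, hze, hqe]
  have hmf : R.ρ (q⁻¹ * z) Φ.f = Φ.f := by
    rw [map_mul, Module.End.mul_apply, ← hmap, ← hqρ, R.ρ_inv_apply]
  have hmW : ∀ w : Φ.W, R.ρ (q⁻¹ * z) w = w := by
    intro w
    have hmem := R.ρ_apply_W Φ (g := q⁻¹ * z) (c := 1) (d := 1) (by rw [hme, one_smul])
      (by rw [hmf, one_smul]) w
    obtain ⟨c, hc⟩ := hmod w w.2.1
    have h1 : R.ρ q (w : V) = w - (S.ε * S.h (w : V) u) • Φ.e := by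
      rw [hqρ, S.E_apply_of_perp t w.2.1]
    have h2 : R.ρ q⁻¹ (w : V) = w + (S.ε * S.h (w : V) u) • Φ.e := by
      conv_rhs => arg 1; rw [← R.ρ_inv_apply q (w : V), h1, map_sub, map_smul, hqe]
      rw [sub_add_cancel]
    have h3 : R.ρ (q⁻¹ * z) w = (w : V) + (S.ε * S.h (w : V) u + c) • Φ.e := by
      rw [map_mul, Module.End.mul_apply, hc, map_add, map_smul, h2, hqe, add_smul, add_assoc]
    have h4 := hmem.2
    rw [h3, S.add_left, w.2.2, S.smul_left, Φ.hef, zero_add, mul_one] at h4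
    rw [h3, h4, zero_smul, add_zero]
  rw [map_one, Module.End.one_apply]
  conv_lhs => rw [Φ.decomp y]
  rw [map_add, map_add, map_smul, map_smul, hme, hmf, hmW, ← Φ.decomp y]

/-- The image of a transvection: a transvection, or short root element at a point. -/
theorem exists_image_two (Φ : Frame S) (hbar : ∀ a, S.bar a = a) (halt : ∀ v, S.h v v = 0)
    (β : MulAut (G ⧸ center G)) {v : V} (hv0 : v ≠ 0) {x : G} (hx : x ∈ R.T v) (hx1 : x ≠ 1) :
    ∃ (g y : G) (w : Φ.W) (t : F), β (mkQ x) = mkQ (g⁻¹ * y * g) ∧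
      R.ρ y = S.E Φ.e w t ∧ NoFour y ∧ y ≠ 1 ∧ (w = 0 ∨ t = 0) := by
  obtain ⟨P, hP⟩ := R.exists_sylow_fixing 2 (halt v) hv0
  have hxc : mkQ x ∈ cen ((P.mapSurjective mkQ_surjective : Sylow 2 (G ⧸ center G)) :
      Subgroup (G ⧸ center G)) := by
    rw [Sylow.coe_mapSurjective, R.cen_map 2 P.isPGroup']
    exact mem_map_of_mem _ (R.T_le_cen 2 (halt v) P hP hx)
  obtain ⟨P', hP'⟩ := Sylow.mapSurjective_surjective mkQ_surjective 2
    (β • P.mapSurjective mkQ_surjective)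
  have hmem : β (mkQ x) ∈ (cen (P' : Subgroup G)).map mkQ := by
    rw [← R.cen_map 2 P'.isPGroup']
    have h := mem_map_of_mem β.toMonoidHom hxc
    rw [← cen_map_equiv] at h
    rw [← Sylow.coe_mapSurjective mkQ_surjective, hP']
    exact h
  obtain ⟨z, hz, hzx⟩ := hmem
  obtain ⟨v', hv'0, hv', hfix⟩ := R.sylow_fixes 2 (halt v) hv0 P'
  obtain ⟨g, a, ha, hg⟩ := R.exists_map hv' hv'0 Φ.he Φ.e_ne
  have hfix2 : ∀ h ∈ g • P', R.ρ h Φ.e = Φ.e := by
    intro h hh
    obtain ⟨k, hk, rfl⟩ := exists_of_mem_smul 2 hh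
    refine smul_right_injective V ha ?_
    change a • R.ρ _ Φ.e = a • Φ.e
    rw [← map_smul, ← hg, ← Module.End.mul_apply, ← map_mul, inv_mul_cancel_right, map_mul,
      Module.End.mul_apply, hfix k hk]
  have hzg : g * z * g⁻¹ ∈ cen ((g • P' : Sylow 2 G) : Subgroup G) := by
    have h := mem_map_of_mem (MulAut.conj g).toMonoidHom hz
    rw [← cen_map_equiv] at h
    exact h
  obtain ⟨w, t, -, hyρ⟩ := (R.mem_Q_iff Φ).1 (R.cen_le_Q Φ hbar halt _ hfix2 hzg)
  have hne : g * z * g⁻¹ ≠ 1 := fun h => hx1 (R.mkQ_injective Φ hbar (β.injective (by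
    rw [← hzx, conj_eq_one_iff.1 h, map_one, map_one])))
  have hnf : NoFour (g * z * g⁻¹) := by
    refine NoFour.conj ?_ g
    have h1 : NoFour (β (mkQ x)) :=
      (((R.noFour_T hbar (halt v) hv0 hx hx1).map
        (MulEquiv.ofBijective mkQ ⟨R.mkQ_injective Φ hbar, mkQ_surjective⟩))).map β
    have h2 := h1.map (MulEquiv.ofBijective mkQ ⟨R.mkQ_injective Φ hbar, mkQ_surjective⟩).symm
    rw [← hzx] at h2
    rwa [show (MulEquiv.ofBijective mkQ ⟨R.mkQ_injective Φ hbar, mkQ_surjective⟩).symm (mkQ z) = z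
      from (MulEquiv.ofBijective mkQ ⟨R.mkQ_injective Φ hbar, mkQ_surjective⟩).symm_apply_apply z]
      at h2
  refine ⟨g, g * z * g⁻¹, w, t, ?_, hyρ, hnf, hne, ?_⟩
  · rw [← hzx]; congr 1; simp [mul_assoc]
  · by_contra hc
    push Not at hc
    exact R.not_noFour_mixed Φ hbar halt hc.1 hc.2 hyρ hnf

omit [Finite V] in
/-- If transvections map to transvections then points map to points. -/
theorem pointMap_two (Φ : Frame S) (hbar : ∀ a, S.bar a = a) (halt : ∀ v, S.h v v = 0)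
    {β : MulAut (G ⧸ center G)}
    (h : ∀ v, v ≠ 0 → ∀ x ∈ R.T v, x ≠ 1 → ∃ w, w ≠ 0 ∧ β (mkQ x) ∈ R.Tb w)
    (h' : ∀ v, v ≠ 0 → ∀ x ∈ R.T v, x ≠ 1 → ∃ w, w ≠ 0 ∧ β⁻¹ (mkQ x) ∈ R.Tb w) :
    R.PointMap β := by
  have hpt : ∀ (γ : MulAut (G ⧸ center G)),
      (∀ v, v ≠ 0 → ∀ x ∈ R.T v, x ≠ 1 → ∃ w, w ≠ 0 ∧ γ (mkQ x) ∈ R.Tb w) →
      ∀ v, v ≠ 0 → ∃ w, w ≠ 0 ∧ (R.Tb v).map γ.toMonoidHom ≤ R.Tb w := by
    intro γ hγ v hv0
    obtain ⟨x₀, hx₀, t₀, ht₀, hρ₀⟩ := R.exists_ne_mem_T (halt v)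
    have hne₀ : x₀ ≠ 1 := by
      intro h1
      obtain ⟨f, -, hvf⟩ := S.exists_partner (halt v) hv0
      rw [h1, map_one, ← S.E_zero_zero v] at hρ₀
      exact ht₀ (S.eq_zero_of_E_eq hvf (S.zero_left f) (S.zero_left f) hρ₀).2.symm
    obtain ⟨w, hw0, y₀, hy₀, hyx₀⟩ := hγ v hv0 x₀ hx₀ hne₀
    refine ⟨w, hw0, ?_⟩
    rintro _ ⟨_, ⟨x, hx, rfl⟩, rfl⟩
    rcases eq_or_ne x 1 with rfl | hx1
    · rw [map_one, map_one]; exact one_mem _
    obtain ⟨w', hw'0, y, hy, hyx⟩ := hγ v hv0 x hx hx1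
    suffices hww : ∃ c : F, c ≠ 0 ∧ w' = c • w by
      obtain ⟨c, hc, rfl⟩ := hww
      rw [SetLike.mem_coe, R.T_smul hc] at hy
      exact ⟨y, hy, hyx⟩
    obtain ⟨t, -, hρ⟩ := (R.mem_T (halt v)).1 hx
    obtain ⟨s₀, -, hσ₀⟩ := (R.mem_T (halt w)).1 hy₀
    obtain ⟨s, -, hσ⟩ := (R.mem_T (halt w')).1 hy
    have hs₀ : s₀ ≠ 0 := fun h0 => hne₀ (R.mkQ_injective Φ hbar (γ.injective (by
      rw [← hyx₀, map_one, map_one, R.inj (show R.ρ y₀ = R.ρ 1 by
        rw [hσ₀, h0, S.E_zero_zero, map_one]), map_one])))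
    have ht : t ≠ 0 := fun h0 => hx1 (R.inj (by rw [hρ, h0, S.E_zero_zero, map_one]))
    have hs : s ≠ 0 := fun h0 => hx1 (R.mkQ_injective Φ hbar (γ.injective (by
      rw [← show mkQ y = γ (mkQ x) from hyx, map_one, map_one, R.inj (show R.ρ y = R.ρ 1 by
        rw [hσ, h0, S.E_zero_zero, map_one]), map_one])))
    have hkey : ∀ g, R.ρ g w = w → R.ρ g w' = w' := by
      intro g hgw
      refine R.fixes_of_commute hbar (halt w') hw'0 hs hσ ?_
      have hgy : g * y₀ = y₀ * g := by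
        have h1 := R.conj_eq_E (g := g) hσ₀
        rw [hgw, map_zero, ← hσ₀] at h1
        exact mul_inv_eq_iff_eq_mul.1 (R.inj h1)
      obtain ⟨k, hk⟩ := mkQ_surjective (γ⁻¹ (mkQ g))
      have hk' : γ (mkQ k) = mkQ g := by rw [hk]; exact γ.apply_symm_apply _
      have hkx₀ : k * x₀ = x₀ * k := R.mkQ_injective Φ hbar (γ.injective (by
        rw [map_mul, map_mul, map_mul, map_mul, hk', ← hyx₀, ← map_mul, ← map_mul, hgy]))
      have hkv := R.fixes_of_commute hbar (halt v) hv0 ht₀ hρ₀ hkx₀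
      have hkx : k * x = x * k := by
        have h1 := R.conj_eq_E (g := k) hρ
        rw [hkv, map_zero, ← hρ] at h1
        exact mul_inv_eq_iff_eq_mul.1 (R.inj h1)
      refine R.mkQ_injective Φ hbar ?_
      rw [map_mul, map_mul, ← hk', show mkQ y = γ (mkQ x) from hyx, ← map_mul γ, ← map_mul γ,
        ← map_mul mkQ, ← map_mul mkQ, hkx]
    obtain ⟨f, -, hwf⟩ := S.exists_partner (halt w) hw0
    refine ⟨S.h w' f, fun h0 => ?_, ?_⟩
    all_goals
      have hzero : w' - S.h w' f • w = 0 := S.nondeg' fun a => by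
        set a' := a - S.h a w • f with ha'
        have ha'w : S.h a' w = 0 := by
          rw [ha', S.sub_left, S.smul_left, S.swap w f, hwf, ε_eq_one (S := S), map_one]; ring
        obtain ⟨g, hg⟩ := R.exists_transvection hbar halt a'
        have h1 := hkey g (by rw [hg, S.eq_zero_symm ha'w, zero_smul, add_zero])
        rw [hg, add_eq_left, smul_eq_zero] at h1
        have h2 : S.h w' a' = 0 := h1.elim id fun h => by rw [h, S.zero_right]
        have hswap : S.h w a = S.h a w := by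
          rw [S.swap, hbar, ε_eq_one (S := S), one_mul]
        rw [ha', S.sub_right, S.smul_right, hbar] at h2
        rw [S.sub_left, S.smul_left, hswap]
        linear_combination h2
      rw [sub_eq_zero] at hzero
    · rw [h0, zero_smul] at hzero
      exact hw'0 hzero
    · exact hzero
  intro v hv hv0
  obtain ⟨w, hw0, hle⟩ := hpt β h v hv0
  obtain ⟨v', hv'0, hle'⟩ := hpt β⁻¹ h' w hw0
  refine ⟨w, hw0, halt w, le_antisymm hle ?_⟩
  have hsub : R.Tb v ≤ R.Tb v' := fun z hz => by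
    have h1 := hle' (mem_map_of_mem (β⁻¹).toMonoidHom (hle (mem_map_of_mem β.toMonoidHom hz)))
    rwa [show (β⁻¹).toMonoidHom (β.toMonoidHom z) = z from β.symm_apply_apply z] at h1
  have hvv : R.Tb v' = R.Tb v := by
    obtain ⟨x, hx, t, ht, hρ⟩ := R.exists_ne_mem_T (halt v)
    obtain ⟨x', hx', hxx'⟩ := hsub (mem_map_of_mem mkQ hx)
    have := R.mkQ_injective Φ hbar hxx'
    subst this
    obtain ⟨t', -, hρ'⟩ := (R.mem_T (halt v')).1 hx'
    rw [hρ] at hρ'
    obtain ⟨f, -, hvf⟩ := S.exists_partner (halt v) hv0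
    have h1 := LinearMap.congr_fun hρ' f
    rw [S.E_zero_apply, S.E_zero_apply, add_left_cancel_iff] at h1
    have hc : t * S.h f v ≠ 0 := mul_ne_zero ht (S.h_swap_ne (by rw [hvf]; exact one_ne_zero))
    set d := t' * S.h f v'
    have hd : d ≠ 0 := fun h0 => by
      rw [h0, zero_smul] at h1
      exact hv0 ((smul_eq_zero.1 h1).resolve_left hc)
    rw [show v' = (d⁻¹ * (t * S.h f v)) • v by rw [mul_smul, h1, inv_smul_smul₀ hd], Tb, Tb,
      R.T_smul (mul_ne_zero (inv_ne_zero hd) hc)]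
  intro z hz
  refine ⟨β⁻¹ z, ?_, β.apply_symm_apply z⟩
  exact hvv ▸ hle' (mem_map_of_mem (β⁻¹).toMonoidHom hz)

/-- In rank at least three transvections map to transvections. -/
theorem pointMap_of_rank_three (Φ : Frame S) (hbar : ∀ a, S.bar a = a)
    (halt : ∀ v, S.h v v = 0)
    (hrank : ∀ w z : Φ.W, S.h (w : V) z = 1 → ∃ u u' : Φ.W, S.h (u : V) u' = 1 ∧
      S.h (w : V) u = 0 ∧ S.h (z : V) u = 0 ∧ S.h (z : V) u' = 0)
    (β : MulAut (G ⧸ center G)) : R.PointMap β := by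
  have key : ∀ γ : MulAut (G ⧸ center G),
      ∀ v, v ≠ 0 → ∀ x ∈ R.T v, x ≠ 1 → ∃ w, w ≠ 0 ∧ γ (mkQ x) ∈ R.Tb w := by
    intro γ v hv0 x hx hx1
    obtain ⟨g, y, w, t, himg, hyρ, hnf, -, hwt⟩ := R.exists_image_two Φ hbar halt γ hv0 hx hx1
    have hw : w = 0 := by
      by_contra hw
      obtain ⟨z, hz⟩ := Φ.exists_partner_W hw
      have hwz : S.h (w : V) z = 1 := by rw [S.swap, hz, ε_eq_one (S := S), map_one, mul_one]
      obtain ⟨u, u', h1, h2, h4, h5⟩ := hrank w z hwz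
      rw [hwt.resolve_left hw] at hyρ
      exact R.not_noFour_short Φ hbar halt hwz h1 h2 h4 h5 hyρ hnf
    subst hw
    refine ⟨R.ρ g⁻¹ Φ.e, R.ρ_ne_zero _ Φ.e_ne, _, ?_, himg.symm⟩
    have hy : y ∈ R.T Φ.e := subset_closure ⟨t, valid_of_alt hbar halt 0 t, hyρ⟩
    have h := R.conj_mem_T Φ.he hy g⁻¹
    rwa [inv_inv] at h
  exact R.pointMap_two Φ hbar halt (key β) (key β⁻¹)

end Rep

end CfsgLib.ClassicalAut
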