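import Cfsg.Agent.Lib.ClassicalAut.Main

set_option autoImplicit false

/-!
Orthogonality of the points opposite to `e`; the two facts needed for alternating forms in
characteristic two.
-/

namespace CfsgLib.ClassicalAut

open Subgroup

variable {F : Type*} [Field F] {V : Type*} [AddCommGroup V] [Module F V]
variable {S : Space F V} {G : Type*} [Group G] (R : Rep S G) [Finite G] [Finite V] {Φ : Frame S}

omit [Finite G] [Finite V] in
theorem Frame.h_partner (Φ : Frame S) (u v : Φ.W) (t s : F) :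
    S.h (S.E Φ.e u t Φ.f) (S.E Φ.e v s Φ.f) = S.bar s + S.h (u : V) v + S.ε * t := by
  rw [S.E_apply_partner Φ.hef (S.eq_zero_symm u.2.2), S.E_apply_partner Φ.hef (S.eq_zero_symm v.2.2)]
  simp only [S.add_left, S.add_right, S.smul_left, S.smul_right, Φ.he, Φ.hf, Φ.hef, Φ.hfe,
    u.2.1, u.2.2, S.eq_zero_symm v.2.1, S.eq_zero_symm v.2.2, map_mul, S.bar_ε]
  linear_combination (S.bar s + S.h (u : V) v) * S.ε_sq

namespace Rep

variable (p : ℕ) [Fact p.Prime] [CharP F p] in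
include p in
omit [Finite V] in
/-- An automorphism fixing `e` and `f` preserves orthogonality of the points opposite to `e`. -/
theorem perp_opposite {γ : MulAut (G ⧸ center G)} (hf : R.FixesPt γ Φ.f) {q q' r r' : G}
    (hq : γ (mkQ q) = mkQ q') (hr : γ (mkQ r) = mkQ r')
    (h : S.h (R.ρ q Φ.f) (R.ρ r Φ.f) = 0) : S.h (R.ρ q' Φ.f) (R.ρ r' Φ.f) = 0 := by
  have him : ∀ a a', γ (mkQ a) = mkQ a' →
      (R.Tb (R.ρ a Φ.f)).map γ.toMonoidHom = R.Tb (R.ρ a' Φ.f) := by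
    intro a a' ha
    rw [← R.Tb_map_conj Φ.hf, ← R.Tb_map_conj Φ.hf, map_map]
    conv_rhs => rw [← hf, map_map]
    congr 1
    ext x
    have ha' : γ (a : G ⧸ center G) = a' := ha
    simp [ha']
  have hiso : ∀ a, S.h (R.ρ a Φ.f) (R.ρ a Φ.f) = 0 := fun a => by rw [R.isom, Φ.hf]
  have hne : ∀ a, R.ρ a Φ.f ≠ 0 := fun a => R.ρ_ne_zero a Φ.f_ne
  have hc := (R.commute_iff p (hiso q) (hne q) (hiso r)).2 h
  refine (R.commute_iff p (hiso q') (hne q') (hiso r')).1 ?_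
  rw [← him q q' hq, ← him r r' hr]
  rintro _ ⟨x, hx, rfl⟩ _ ⟨y, hy, rfl⟩
  rw [← map_mul, ← map_mul, hc hx y hy]

variable [CharP F 2]

omit [Finite G] [Finite V] in
theorem valid_of_alt (hbar : ∀ a, S.bar a = a) (halt : ∀ v, S.h v v = 0) (u : V) (t : F) :
    S.Valid u t := by
  unfold Space.Valid
  rw [halt, hbar, zero_add]
  rcases S.ε_cases with h | h <;> rw [h]
  · rw [one_mul, CharTwo.add_self_eq_zero]
  · rw [neg_one_mul, neg_add_cancel]

omit [Finite G] [Finite V] in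
theorem ε_eq_one : S.ε = 1 := by
  rcases S.ε_cases with h | h
  · exact h
  · rw [h, CharTwo.neg_eq]

omit [Finite V] in
/-- The parameter zero is preserved. -/
theorem exists_rel_zero (hbar : ∀ a, S.bar a = a) (halt : ∀ v, S.h v v = 0)
    {γ : MulAut (G ⧸ center G)} (he : R.FixesPt γ Φ.e) (hf : R.FixesPt γ Φ.f) {u v : Φ.W}
    (huv : R.Rel Φ γ u v) :
    ∃ q q', R.ρ q = S.E Φ.e u 0 ∧ R.ρ q' = S.E Φ.e v 0 ∧ γ (mkQ q) = mkQ q' := by
  obtain ⟨g, g', t, t', h1, h2, h3, h4, h5⟩ := huv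
  obtain ⟨z, hz, hzρ⟩ := R.exists_mem_T Φ.he (valid_of_alt hbar halt (0 : V) (-t))
  obtain ⟨z', hz', hzz'⟩ : γ (mkQ z) ∈ R.Tb Φ.e :=
    he ▸ mem_map_of_mem γ.toMonoidHom (mem_map_of_mem mkQ hz)
  obtain ⟨r, -, hzρ'⟩ := (R.mem_T Φ.he).1 hz'
  have hq : R.ρ (g * z) = S.E Φ.e u 0 := by
    rw [map_mul, h2, hzρ, S.E_mul Φ.he u.2.1 (S.zero_left _), add_zero, S.zero_left, mul_zero,
      sub_zero, add_neg_cancel]
  have hq' : R.ρ (g' * z') = S.E Φ.e v (t' + r) := by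
    rw [map_mul, h4, hzρ', S.E_mul Φ.he v.2.1 (S.zero_left _), add_zero, S.zero_left, mul_zero,
      sub_zero]
  have hqq : γ (mkQ (g * z)) = mkQ (g' * z') := by rw [map_mul, map_mul, h5, ← hzz', map_mul]
  have hone : γ (mkQ 1) = mkQ 1 := by simp
  have h := R.perp_opposite 2 hf hqq hone (by
    rw [map_one, Module.End.one_apply, hq]
    conv_lhs => arg 3; rw [← show S.E Φ.e ((0 : Φ.W) : V) 0 Φ.f = Φ.f by
      rw [ZeroMemClass.coe_zero, S.E_zero_zero]; rfl]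
    rw [Φ.h_partner, map_zero, ZeroMemClass.coe_zero, S.zero_right, mul_zero, add_zero, add_zero])
  rw [map_one, Module.End.one_apply, hq'] at h
  conv_lhs at h => arg 3; rw [← show S.E Φ.e ((0 : Φ.W) : V) 0 Φ.f = Φ.f by
      rw [ZeroMemClass.coe_zero, S.E_zero_zero]; rfl]
  rw [Φ.h_partner, map_zero, ZeroMemClass.coe_zero, S.zero_right, zero_add, zero_add,
    ε_eq_one, one_mul] at h
  rw [h] at hq'
  exact ⟨_, _, hq, hq', hqq⟩

omit [Finite V] in
theorem perp_two (hbar : ∀ a, S.bar a = a) (halt : ∀ v, S.h v v = 0)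
    {γ : MulAut (G ⧸ center G)} {A : Φ.W ≃+ Φ.W} (he : R.FixesPt γ Φ.e) (hf : R.FixesPt γ Φ.f)
    (hA : ∀ u, R.Rel Φ γ u (A u)) (u v : Φ.W) (huv : S.h (u : V) v = 0) :
    S.h (A u : V) (A v) = 0 := by
  obtain ⟨q, q', hq, hq', hqq⟩ := R.exists_rel_zero hbar halt he hf (hA u)
  obtain ⟨r, r', hr, hr', hrr⟩ := R.exists_rel_zero hbar halt he hf (hA v)
  have h := R.perp_opposite 2 hf hqq hrr (by
    rw [hq, hr, Φ.h_partner, huv, map_zero, mul_zero, add_zero, add_zero])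
  rwa [hq', hr', Φ.h_partner, map_zero, mul_zero, add_zero, zero_add] at h

omit [Finite V] in
theorem T_fixed_two (hbar : ∀ a, S.bar a = a) (halt : ∀ v, S.h v v = 0)
    {γ : MulAut (G ⧸ center G)} (he : R.FixesPt γ Φ.e) (hf : R.FixesPt γ Φ.f)
    (hA : ∀ u, R.Rel Φ γ u u) : ∀ z ∈ R.T Φ.e, γ (mkQ z) = mkQ z := by
  intro z hz
  obtain ⟨t, -, hzρ⟩ := (R.mem_T Φ.he).1 hz
  obtain ⟨z', hz', hzz'⟩ : γ (mkQ z) ∈ R.Tb Φ.e :=
    he ▸ mem_map_of_mem γ.toMonoidHom (mem_map_of_mem mkQ hz)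
  obtain ⟨t', -, hzρ'⟩ := (R.mem_T Φ.he).1 hz'
  obtain ⟨w, hw⟩ := exists_ne (0 : Φ.W)
  obtain ⟨x, hx⟩ : ∃ x : Φ.W, S.h (x : V) w = 1 := Φ.exists_partner_W hw
  obtain ⟨q, q', hq, hq', hqq⟩ := R.exists_rel_zero hbar halt he hf (hA (t • x))
  obtain ⟨r, r', hr, hr', hrr⟩ := R.exists_rel_zero hbar halt he hf (hA w)
  have hrz : R.ρ (r * z) = S.E Φ.e w t := by
    rw [map_mul, hr, hzρ, S.E_mul Φ.he w.2.1 (S.zero_left _), add_zero, S.zero_left, mul_zero,
      sub_zero, zero_add]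
  have hrz' : R.ρ (r' * z') = S.E Φ.e w t' := by
    rw [map_mul, hr', hzρ', S.E_mul Φ.he w.2.1 (S.zero_left _), add_zero, S.zero_left, mul_zero,
      sub_zero, zero_add]
  have h := R.perp_opposite 2 hf hqq
    (show γ (mkQ (r * z)) = mkQ (r' * z') by rw [map_mul, map_mul, hrr, ← hzz', map_mul]) (by
      rw [hq, hrz, Φ.h_partner, hbar, mul_zero, add_zero, Submodule.coe_smul, S.smul_left, hx,
        mul_one, CharTwo.add_self_eq_zero])
  rw [hq', hrz', Φ.h_partner, hbar, mul_zero, add_zero, Submodule.coe_smul, S.smul_left, hx,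
    mul_one, CharTwo.add_eq_zero] at h
  subst h
  rw [← hzz', R.inj (hzρ'.trans hzρ.symm)]

/-- In characteristic two, an automorphism mapping points to points is induced by a
semisimilarity. -/
theorem exists_semi_two [Finite F] (hbar : ∀ a, S.bar a = a) (halt : ∀ v, S.h v v = 0)
    (hd : R.Dense Φ) (hk : R.Kill Φ) {β : MulAut (G ⧸ center G)} (hβ : R.PointMap β) :
    ∃ m : S.Semi, R.Induced m β :=
  R.exists_semi_of_points 2 hd hk hβ
    (fun _ _ he hf hA _ _ => R.perp_two hbar halt he hf hA)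
    (fun _ he hf hA => R.T_fixed_two hbar halt he hf hA)

end Rep

end CfsgLib.ClassicalAut
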