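import Cfsg.Agent.Lib.ClassicalAut.Space

set_option autoImplicit false

/-!
Geometry of isotropic vectors: partners, common opposites, the action of elations on opposites.
-/

namespace CfsgLib.ClassicalAut

namespace Space

variable {F : Type*} [Field F] {V : Type*} [AddCommGroup V] [Module F V] (S : Space F V)

theorem bar_ne_zero {a : F} (ha : a ≠ 0) : S.bar a ≠ 0 := by simpa using ha

theorem h_swap_ne {u v : V} (h : S.h u v ≠ 0) : S.h v u ≠ 0 := fun h' => h (S.eq_zero_symm h')

/-- Some vector avoids two perpendicular hyperplanes. -/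
theorem exists_ne_ne {v w : V} (hv : v ≠ 0) (hw : w ≠ 0) : ∃ x, S.h x v ≠ 0 ∧ S.h x w ≠ 0 := by
  obtain ⟨a, ha⟩ := S.exists_ne v hv
  obtain ⟨b, hb⟩ := S.exists_ne w hw
  by_cases haw : S.h a w = 0
  · by_cases hbv : S.h b v = 0
    · exact ⟨a + b, by rw [S.add_left, ha, hbv, add_zero]; exact one_ne_zero,
        by rw [S.add_left, haw, hb, zero_add]; exact one_ne_zero⟩
    · exact ⟨b, hbv, by rw [hb]; exact one_ne_zero⟩
  · exact ⟨a, by rw [ha]; exact one_ne_zero, haw⟩

/-- A vector not perpendicular to the isotropic `v` can be corrected to an isotropic one. -/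
theorem exists_isotropic_add {v x : V} (hv : S.h v v = 0) (hx : S.h x v = S.ε) :
    ∃ a : F, S.h (x + a • v) (x + a • v) = 0 := by
  obtain ⟨t, ht⟩ := S.tr x
  refine ⟨S.ε * t, ?_⟩
  have hvx : S.h v x = 1 := by rw [S.swap x v, hx, S.bar_ε, S.ε_sq]
  rw [S.add_left, S.add_right, S.add_right, S.smul_left, S.smul_left, S.smul_right, S.smul_right,
    hx, hvx, hv, map_mul, S.bar_ε]
  linear_combination ht + S.bar t * S.ε_sq

theorem exists_partner {v : V} (hv : S.h v v = 0) (hv0 : v ≠ 0) :
    ∃ f, S.h f f = 0 ∧ S.h v f = 1 := by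
  obtain ⟨x, hx⟩ := S.exists_ne v hv0
  have hx' : S.h (S.ε • x) v = S.ε := by rw [S.smul_left, hx, mul_one]
  obtain ⟨a, ha⟩ := S.exists_isotropic_add hv hx'
  refine ⟨_, ha, ?_⟩
  rw [S.add_right, S.smul_right a, hv, S.swap _ v, hx', S.bar_ε, S.ε_sq]; ring

/-- Two isotropic vectors have a common opposite. -/
theorem exists_common_opposite {v w : V} (hv : S.h v v = 0) (hv0 : v ≠ 0) (hw : S.h w w = 0)
    (hw0 : w ≠ 0) : ∃ r, S.h r r = 0 ∧ S.h r v ≠ 0 ∧ S.h r w ≠ 0 := by
  by_cases hvw : S.h v w = 0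
  · obtain ⟨x, hxv, hxw⟩ := S.exists_ne_ne hv0 hw0
    have hx' : S.h ((S.ε * (S.h x v)⁻¹) • x) v = S.ε := by
      rw [S.smul_left, inv_mul_cancel_right₀ hxv]
    obtain ⟨a, ha⟩ := S.exists_isotropic_add hv hx'
    refine ⟨_, ha, ?_, ?_⟩
    · rw [S.add_left, hx', S.smul_left, hv, mul_zero, add_zero]; exact S.ε_ne_zero
    · rw [S.add_left, S.smul_left _ v, hvw, mul_zero, add_zero, S.smul_left]
      exact mul_ne_zero (mul_ne_zero S.ε_ne_zero (inv_ne_zero hxv)) hxw
  · obtain ⟨t, ht0, ht⟩ := S.skew_ne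
    set c := t / S.bar (S.h v w) with hc
    have hb : S.bar (S.h v w) ≠ 0 := S.bar_ne_zero hvw
    refine ⟨v + c • w, ?_, ?_, ?_⟩
    · have hcb : c * S.bar (S.h v w) = t := div_mul_cancel₀ t hb
      have hcb' : S.bar c * S.h v w = S.bar t := by rw [← hcb, map_mul, S.bar_bar]
      rw [S.add_left, S.add_right, S.add_right, S.smul_left, S.smul_left, S.smul_right,
        S.smul_right, hv, hw, S.swap v w]
      linear_combination ht + hcb' + S.ε * hcb
    · rw [S.add_left, hv, S.smul_left, zero_add]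
      exact mul_ne_zero (div_ne_zero ht0 hb) (S.h_swap_ne hvw)
    · rwa [S.add_left, S.smul_left, hw, mul_zero, add_zero]

/-- The elations at `v` are transitive on the isotropic vectors with prescribed product with
`v`. -/
theorem exists_E_map {v f r : V} (hv : S.h v v = 0) (hf : S.h f f = 0) (hvf : S.h v f = 1)
    (hr : S.h r r = 0) (hrv : S.h r v = S.ε) :
    ∃ u t, S.h u v = 0 ∧ S.h u f = 0 ∧ S.Valid u t ∧ S.E v u t f = r := by
  have hfv : S.h f v = S.ε := by rw [S.swap, hvf, map_one, mul_one]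
  obtain ⟨d, rfl⟩ : ∃ d, r = f + d := ⟨r - f, by abel⟩
  have hdv : S.h d v = 0 := by rwa [S.add_left, hfv, add_eq_left] at hrv
  set c := S.h d f with hc
  have hvd : S.h v d = 0 := S.eq_zero_symm hdv
  have huf : S.h (S.ε • (d - c • v)) f = 0 := by
    rw [S.smul_left, S.sub_left, S.smul_left, hvf, ← hc]; ring
  refine ⟨S.ε • (d - c • v), S.ε * c, ?_, huf, ?_, ?_⟩
  · rw [S.smul_left, S.sub_left, hdv, S.smul_left, hv]; ring
  · have hexp : S.h d d + c + S.ε * S.bar c = 0 := by
      have : S.h (f + d) (f + d) = 0 := hr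
      rw [S.add_left, S.add_right, S.add_right, hf, S.swap d f, ← hc] at this
      linear_combination this
    unfold Valid
    rw [S.smul_left, S.smul_right, S.bar_ε, S.sub_left, S.sub_right, S.sub_right, S.smul_left,
      S.smul_left, S.smul_right, S.smul_right, hv, hdv, hvd, map_mul, S.bar_ε]
    linear_combination hexp + (S.h d d + c) * S.ε_sq
  · rw [S.E_apply_partner hvf (S.eq_zero_symm huf), smul_smul, S.ε_sq, one_smul,
      mul_comm S.ε c, mul_assoc, S.ε_sq, mul_one]
    abel

/-- A vector fixed by the parameters of an elation. -/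
theorem eq_zero_of_E_eq {v f u u' : V} (hvf : S.h v f = 1)
    (hu : S.h u f = 0) (hu' : S.h u' f = 0) {t t' : F}
    (h : S.E v u t = S.E v u' t') : u = u' ∧ t = t' := by
  have h1 := LinearMap.congr_fun h f
  rw [S.E_apply_partner hvf (S.eq_zero_symm hu), S.E_apply_partner hvf (S.eq_zero_symm hu'),
    add_assoc, add_assoc, add_left_cancel_iff] at h1
  have h2 := congrArg (fun x => S.h x f) h1
  simp only [S.add_left, S.smul_left, hu, hu', hvf, mul_zero, zero_add, mul_one] at h2
  have ht := mul_right_cancel₀ S.ε_ne_zero h2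
  subst ht
  rw [add_right_cancel_iff] at h1
  exact ⟨smul_right_injective V S.ε_ne_zero h1, rfl⟩

/-- The projection onto the perpendicular of the hyperbolic pair `e, f`. -/
def proj (e f : V) : V →ₗ[F] V where
  toFun x := x - S.h x f • e - (S.ε * S.h x e) • f
  map_add' x y := by simp only [S.add_left]; module
  map_smul' a x := by simp only [S.smul_left, RingHom.id_apply]; module

theorem proj_apply (e f x : V) : S.proj e f x = x - S.h x f • e - (S.ε * S.h x e) • f := rfl

theorem decomp (e f x : V) : x = S.h x f • e + (S.ε * S.h x e) • f + S.proj e f x := by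
  rw [proj_apply]; abel

theorem proj_left {e f x : V} (he : S.h e e = 0) (hef : S.h e f = 1) :
    S.h (S.proj e f x) e = 0 := by
  rw [proj_apply, S.sub_left, S.sub_left, S.smul_left, S.smul_left, he, S.swap e f, hef, map_one]
  linear_combination -(S.h x e) * S.ε_sq

theorem proj_right {e f x : V} (hf : S.h f f = 0) (hef : S.h e f = 1) :
    S.h (S.proj e f x) f = 0 := by
  rw [proj_apply, S.sub_left, S.sub_left, S.smul_left, S.smul_left, hf, hef]; ring

theorem proj_of_perp {e f x : V} (h1 : S.h x e = 0) (h2 : S.h x f = 0) : S.proj e f x = x := by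
  simp [proj_apply, h1, h2]

/-- Products with a vector perpendicular to `e` and `f` only see the projection. -/
theorem h_proj {e f x w : V} (h1 : S.h w e = 0) (h2 : S.h w f = 0) :
    S.h (S.proj e f x) w = S.h x w := by
  rw [proj_apply, S.sub_left, S.sub_left, S.smul_left, S.smul_left, S.eq_zero_symm h1,
    S.eq_zero_symm h2]
  ring

/-- An isometry fixing `v⊥` pointwise is a transvection at `v`. -/
theorem eq_E_of_fixes_perp {v : V} (hv : S.h v v = 0) (hv0 : v ≠ 0) {z : Module.End F V}
    (hz : ∀ x y, S.h (z x) (z y) = S.h x y) (hfix : ∀ u, S.h u v = 0 → z u = u) :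
    ∃ c, S.Valid 0 c ∧ z = S.E v 0 c := by
  obtain ⟨x, hx⟩ := S.exists_ne v hv0
  set c := S.ε * S.h (z x - x) x with hc
  have hperp : ∀ y, S.h (y - S.h y v • x) v = 0 := fun y => by
    rw [S.sub_left, S.smul_left, hx, mul_one, sub_self]
  have hzx : z x = x + c • v := by
    rw [← sub_eq_iff_eq_add']
    rw [← sub_eq_zero]
    refine S.nondeg' fun y => ?_
    have h1 : S.h (z x - x) (y - S.h y v • x) = 0 := by
      rw [S.sub_left]
      conv_lhs => arg 1; rw [← hfix _ (hperp y), hz]
      rw [sub_self]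
    have h2 : S.h (z x - x) y = S.bar (S.h y v) * S.h (z x - x) x := by
      rw [S.sub_right, S.smul_right] at h1; linear_combination h1
    rw [S.sub_left, h2, S.smul_left, hc, S.swap y v]
    linear_combination (-(S.bar (S.h y v) * S.h (z x - x) x)) * S.ε_sq
  have hz' : z = S.E v 0 c := by
    refine LinearMap.ext fun y => ?_
    rw [S.E_zero_apply]
    have h3 := hfix _ (hperp y)
    rw [map_sub, map_smul, hzx, smul_add, smul_smul, sub_eq_iff_eq_add] at h3
    rw [h3, mul_comm c]
    module
  refine ⟨c, ?_, hz'⟩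
  rw [S.valid_zero_iff]
  have h4 := hz x x
  rw [hzx, S.add_left, S.add_right, S.add_right, S.smul_left, S.smul_left, S.smul_right,
    S.smul_right, hv, hx, S.swap x v, hx, map_one] at h4
  linear_combination h4

/-- Elations are isometries. -/
theorem h_E {e u : V} (he : S.h e e = 0) (hu : S.h u e = 0) {t : F} (ht : S.Valid u t) (x y : V) :
    S.h (S.E e u t x) (S.E e u t y) = S.h x y := by
  unfold Valid at ht
  simp only [E_apply, S.add_left, S.sub_left, S.smul_left, S.add_right, S.sub_right,
    S.smul_right, he, hu, S.eq_zero_symm hu, map_mul, S.bar_ε]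
  rw [S.swap y u, S.swap y e]
  linear_combination (S.h x e * S.bar (S.h y e)) * ht - (S.bar (S.h y e) * S.h x u) * S.ε_sq

/-- An isometric automorphism as a semisimilarity. -/
def semiOfIsometry (M : V ≃ₗ[F] V) (hM : ∀ x y, S.h (M x) (M y) = S.h x y) : S.Semi where
  M := M.toAddEquiv
  κ := RingEquiv.refl F
  k := 1
  k_ne := one_ne_zero
  bar_k := map_one _
  bar_κ _ := rfl
  map_smul a x := M.map_smul a x
  map_h x y := by rw [one_mul]; exact hM x y

end Space

end CfsgLib.ClassicalAut
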