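import Cfsg.Agent.Lib.ClassicalAut.Points

set_option autoImplicit false

/-!
Groups containing all elations of a space: the elation groups, transitivity on isotropic points,
unique lifts of `p`-elements modulo the centre.
-/

namespace CfsgLib.ClassicalAut

open Subgroup

variable {F : Type*} [Field F] {V : Type*} [AddCommGroup V] [Module F V]

/-- A faithful representation by isometries whose image contains all elations and is invariant
under semisimilarities. -/
structure Rep (S : Space F V) (G : Type*) [Group G] where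
  ρ : G →* Module.End F V
  inj : Function.Injective ρ
  isom : ∀ g x y, S.h (ρ g x) (ρ g y) = S.h x y
  center_iff : ∀ g, g ∈ Subgroup.center G ↔ ∃ c : F, ρ g = c • 1
  root : ∀ e u t, S.h e e = 0 → S.h u e = 0 → S.Valid u t → ∃ g, ρ g = S.E e u t
  conjMem : ∀ m : S.Semi, ∀ g, ∃ g', ∀ x, ρ g' (m.M x) = m.M (ρ g x)

namespace Rep

variable {S : Space F V} {G : Type*} [Group G] (R : Rep S G)

/-- The quotient map onto the projective group. -/
abbrev mkQ : G →* G ⧸ center G := QuotientGroup.mk' (center G)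

theorem mkQ_surjective : Function.Surjective (mkQ (G := G)) := QuotientGroup.mk'_surjective _

theorem ρ_inv_apply (g : G) (x : V) : R.ρ g⁻¹ (R.ρ g x) = x := by
  rw [← Module.End.mul_apply, ← map_mul, inv_mul_cancel, map_one, Module.End.one_apply]

theorem ρ_apply_inv (g : G) (x : V) : R.ρ g (R.ρ g⁻¹ x) = x := by
  rw [← Module.End.mul_apply, ← map_mul, mul_inv_cancel, map_one, Module.End.one_apply]

theorem ρ_injective (g : G) : Function.Injective (R.ρ g) := fun x y h => by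
  simpa [R.ρ_inv_apply] using congrArg (R.ρ g⁻¹) h

theorem ρ_ne_zero (g : G) {v : V} (hv : v ≠ 0) : R.ρ g v ≠ 0 := fun h =>
  hv (R.ρ_injective g (by rw [h, map_zero]))

/-- An element of the group as a linear isometry. -/
def toEquiv (g : G) : V ≃ₗ[F] V :=
  { R.ρ g with
    invFun := R.ρ g⁻¹
    left_inv := R.ρ_inv_apply g
    right_inv := R.ρ_apply_inv g }

/-- An element of the group as a semisimilarity. -/
def toSemi (g : G) : S.Semi := S.semiOfIsometry (R.toEquiv g) (R.isom g)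

theorem toSemi_M (g : G) (x : V) : (R.toSemi g).M x = R.ρ g x := rfl

theorem conj_eq_E {x g : G} {e u : V} {t : F} (hx : R.ρ x = S.E e u t) :
    R.ρ (g * x * g⁻¹) = S.E (R.ρ g e) (R.ρ g u) t := by
  refine LinearMap.ext fun y => ?_
  rw [map_mul, map_mul, Module.End.mul_apply, Module.End.mul_apply, hx]
  have h := (R.toSemi g).map_E (S := S) e u t (R.ρ g⁻¹ y)
  simpa [toSemi, Space.semiOfIsometry, toEquiv, R.ρ_apply_inv] using h

/-- The elation group at `e`. -/
def Q (e : V) : Subgroup G :=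
  closure {g | ∃ u t, S.h u e = 0 ∧ S.Valid u t ∧ R.ρ g = S.E e u t}

/-- The transvection group at `e`. -/
def T (e : V) : Subgroup G := closure {g | ∃ t, S.Valid 0 t ∧ R.ρ g = S.E e 0 t}

variable [Finite G]

theorem mem_Q {e : V} (he : S.h e e = 0) {g : G} :
    g ∈ R.Q e ↔ ∃ u t, S.h u e = 0 ∧ S.Valid u t ∧ R.ρ g = S.E e u t := by
  refine ⟨fun hg => ?_, fun hg => subset_closure hg⟩
  induction hg using closure_induction with
  | mem x hx => exact hx
  | one => exact ⟨0, 0, S.zero_left e, S.valid_zero_zero, by rw [map_one, S.E_zero_zero]⟩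
  | mul x y _ _ hx hy =>
    obtain ⟨u, t, hu, ht, hx⟩ := hx
    obtain ⟨v, s, hv, hs, hy⟩ := hy
    exact ⟨_, _, (Space.Valid.mul S hu hv ht hs).1, (Space.Valid.mul S hu hv ht hs).2,
      by rw [map_mul, hx, hy, S.E_mul he hu hv]⟩
  | inv x _ hx =>
    obtain ⟨u, t, hu, ht, hx⟩ := hx
    obtain ⟨s, hs, hv⟩ := S.E_pow he hu ht (orderOf x - 1)
    have hinv : x⁻¹ = x ^ (orderOf x - 1) := by
      refine inv_eq_of_mul_eq_one_right ?_
      rw [← pow_succ', Nat.sub_add_cancel (orderOf_pos x), pow_orderOf_eq_one]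
    exact ⟨_, s, by rw [S.smul_left, hu, mul_zero], hv, by rw [hinv, map_pow, hx, hs]⟩

theorem mem_T {e : V} (he : S.h e e = 0) {g : G} :
    g ∈ R.T e ↔ ∃ t, S.Valid 0 t ∧ R.ρ g = S.E e 0 t := by
  refine ⟨fun hg => ?_, fun hg => subset_closure hg⟩
  induction hg using closure_induction with
  | mem x hx => exact hx
  | one => exact ⟨0, S.valid_zero_zero, by rw [map_one, S.E_zero_zero]⟩
  | mul x y _ _ hx hy =>
    obtain ⟨t, ht, hx⟩ := hx
    obtain ⟨s, hs, hy⟩ := hy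
    refine ⟨t + s, ht.add_skew S hs, ?_⟩
    rw [map_mul, hx, hy, S.E_mul he (S.zero_left e) (S.zero_left e), add_zero, S.zero_left,
      mul_zero, sub_zero]
  | inv x _ hx =>
    obtain ⟨t, ht, hx⟩ := hx
    obtain ⟨s, hs, hv⟩ := S.E_pow he (S.zero_left e) ht (orderOf x - 1)
    rw [smul_zero] at hs hv
    have hinv : x⁻¹ = x ^ (orderOf x - 1) := by
      refine inv_eq_of_mul_eq_one_right ?_
      rw [← pow_succ', Nat.sub_add_cancel (orderOf_pos x), pow_orderOf_eq_one]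
    exact ⟨s, hv, by rw [hinv, map_pow, hx, hs]⟩

omit [Finite G] in
theorem T_le_Q (e : V) : R.T e ≤ R.Q e := by
  refine closure_mono ?_
  rintro g ⟨t, ht, hg⟩
  exact ⟨0, t, S.zero_left e, ht, hg⟩

omit [Finite G] in
theorem exists_mem_Q {e u : V} {t : F} (he : S.h e e = 0) (hu : S.h u e = 0) (ht : S.Valid u t) :
    ∃ g ∈ R.Q e, R.ρ g = S.E e u t := by
  obtain ⟨g, hg⟩ := R.root e u t he hu ht
  exact ⟨g, subset_closure ⟨u, t, hu, ht, hg⟩, hg⟩

omit [Finite G] in
theorem exists_mem_T {e : V} {t : F} (he : S.h e e = 0) (ht : S.Valid 0 t) :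
    ∃ g ∈ R.T e, R.ρ g = S.E e 0 t := by
  obtain ⟨g, hg⟩ := R.root e 0 t he (S.zero_left e) ht
  exact ⟨g, subset_closure ⟨t, ht, hg⟩, hg⟩

theorem conj_mem_Q {e : V} (he : S.h e e = 0) {x : G} (hx : x ∈ R.Q e) (g : G) :
    g * x * g⁻¹ ∈ R.Q (R.ρ g e) := by
  obtain ⟨u, t, hu, ht, hx⟩ := (R.mem_Q he).1 hx
  refine subset_closure ⟨R.ρ g u, t, by rw [R.isom, hu], ?_, R.conj_eq_E hx⟩
  unfold Space.Valid
  rw [R.isom]
  exact ht

theorem conj_mem_T {e : V} (he : S.h e e = 0) {x : G} (hx : x ∈ R.T e) (g : G) :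
    g * x * g⁻¹ ∈ R.T (R.ρ g e) := by
  obtain ⟨t, ht, hx⟩ := (R.mem_T he).1 hx
  exact subset_closure ⟨t, ht, by rw [R.conj_eq_E hx, map_zero]⟩

theorem map_conj_Q {e : V} (he : S.h e e = 0) (g : G) :
    (R.Q e).map (MulAut.conj g).toMonoidHom = R.Q (R.ρ g e) := by
  refine le_antisymm ?_ fun y hy => ?_
  · rintro _ ⟨x, hx, rfl⟩
    exact R.conj_mem_Q he hx g
  · refine ⟨g⁻¹ * y * g, ?_, by simp [mul_assoc]⟩
    have h := R.conj_mem_Q (by rwa [R.isom]) hy g⁻¹
    rwa [inv_inv, R.ρ_inv_apply] at h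

theorem map_conj_T {e : V} (he : S.h e e = 0) (g : G) :
    (R.T e).map (MulAut.conj g).toMonoidHom = R.T (R.ρ g e) := by
  refine le_antisymm ?_ fun y hy => ?_
  · rintro _ ⟨x, hx, rfl⟩
    exact R.conj_mem_T he hx g
  · refine ⟨g⁻¹ * y * g, ?_, by simp [mul_assoc]⟩
    have h := R.conj_mem_T (by rwa [R.isom]) hy g⁻¹
    rwa [inv_inv, R.ρ_inv_apply] at h

omit [Finite G] in
theorem Q_smul {a : F} (ha : a ≠ 0) {e : V} : R.Q (a • e) = R.Q e := by
  have key : ∀ (b : F) (v : V), b ≠ 0 → R.Q (b • v) ≤ R.Q v := by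
    intro b v hb
    refine closure_mono ?_
    rintro g ⟨u, t, hu, ht, hg⟩
    refine ⟨S.bar b • u, b * S.bar b * t, ?_, ?_, by rw [hg, S.E_smul]⟩
    · rw [S.smul_right] at hu
      rw [S.smul_left, hu]
    · unfold Space.Valid at ht ⊢
      rw [S.smul_left, S.smul_right, S.bar_bar, map_mul, map_mul, S.bar_bar]
      linear_combination (b * S.bar b) * ht
  refine le_antisymm (key a e ha) ?_
  have h := key a⁻¹ (a • e) (inv_ne_zero ha)
  rwa [smul_smul, inv_mul_cancel₀ ha, one_smul] at h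

omit [Finite G] in
theorem T_smul {a : F} (ha : a ≠ 0) {e : V} : R.T (a • e) = R.T e := by
  have key : ∀ (b : F) (v : V), R.T (b • v) ≤ R.T v := by
    intro b v
    refine closure_mono ?_
    rintro g ⟨t, ht, hg⟩
    refine ⟨b * S.bar b * t, ?_, by rw [hg, S.E_smul, smul_zero]⟩
    rw [S.valid_zero_iff] at ht ⊢
    rw [map_mul, map_mul, S.bar_bar]
    linear_combination (b * S.bar b) * ht
  refine le_antisymm (key a e) ?_
  have h := key a⁻¹ (a • e)
  rwa [smul_smul, inv_mul_cancel₀ ha, one_smul] at h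

omit [Finite G] in
theorem exists_fix_map {e f r : V} (he : S.h e e = 0) (hf : S.h f f = 0) (hef : S.h f e ≠ 0)
    (hr : S.h r r = 0) (hre : S.h r e ≠ 0) :
    ∃ g ∈ R.Q e, R.ρ g e = e ∧ ∃ a : F, a ≠ 0 ∧ R.ρ g f = a • r := by
  set cf := S.ε * (S.h f e)⁻¹ with hcf
  set cr := S.ε * (S.h r e)⁻¹ with hcr
  have hcf0 : cf ≠ 0 := mul_ne_zero S.ε_ne_zero (inv_ne_zero hef)
  have h1 : S.h (cf • f) (cf • f) = 0 := by rw [S.smul_left, S.smul_right, hf]; ring
  have h2 : S.h (cf • f) e = S.ε := by rw [S.smul_left, hcf, inv_mul_cancel_right₀ hef]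
  have h3 : S.h e (cf • f) = 1 := by rw [S.swap _ e, h2, S.bar_ε, S.ε_sq]
  have h4 : S.h (cr • r) (cr • r) = 0 := by rw [S.smul_left, S.smul_right, hr]; ring
  have h5 : S.h (cr • r) e = S.ε := by rw [S.smul_left, hcr, inv_mul_cancel_right₀ hre]
  obtain ⟨u, t, hu, huf, ht, hmap⟩ := S.exists_E_map he h1 h3 h4 h5
  obtain ⟨g, hg, hgρ⟩ := R.exists_mem_Q he hu ht
  refine ⟨g, hg, by rw [hgρ, S.E_apply_self he hu], cf⁻¹ * cr,
    mul_ne_zero (inv_ne_zero hcf0) (mul_ne_zero S.ε_ne_zero (inv_ne_zero hre)), ?_⟩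
  rw [← hgρ, map_smul] at hmap
  rw [mul_smul, ← hmap, smul_smul, inv_mul_cancel₀ hcf0, one_smul]

omit [Finite G] in
theorem exists_map {v w : V} (hv : S.h v v = 0) (hv0 : v ≠ 0) (hw : S.h w w = 0) (hw0 : w ≠ 0) :
    ∃ g, ∃ a : F, a ≠ 0 ∧ R.ρ g v = a • w := by
  obtain ⟨r, hr, hrv, hrw⟩ := S.exists_common_opposite hv hv0 hw hw0
  obtain ⟨g, -, -, a, ha, h⟩ :=
    R.exists_fix_map hr hv (S.h_swap_ne hrv) hw (S.h_swap_ne hrw)
  exact ⟨g, a, ha, h⟩

variable (p : ℕ) [Fact p.Prime] [CharP F p]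

omit [Finite G] in
theorem E_zero_pow {e : V} (he : S.h e e = 0) (t : F) (k : ℕ) :
    S.E e 0 t ^ k = S.E e 0 ((k : F) * t) := by
  induction k with
  | zero => simp [S.E_zero_zero]
  | succ k ih =>
    rw [pow_succ, ih, S.E_mul he (S.zero_left e) (S.zero_left e), add_zero, S.zero_left, mul_zero,
      sub_zero, Nat.cast_succ]
    ring_nf

omit [Fact p.Prime] in
theorem isPGroup_Q {e : V} (he : S.h e e = 0) : IsPGroup p (R.Q e) := by
  rintro ⟨g, hg⟩
  obtain ⟨u, t, hu, ht, hg⟩ := (R.mem_Q he).1 hg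
  refine ⟨2, Subtype.ext (R.inj ?_)⟩
  obtain ⟨s, hs, -⟩ := S.E_pow he hu ht p
  rw [SubgroupClass.coe_pow, OneMemClass.coe_one, map_one, pow_two, pow_mul, map_pow, map_pow, hg,
    hs, CharP.cast_eq_zero, zero_smul, E_zero_pow he, CharP.cast_eq_zero, zero_mul, S.E_zero_zero]

omit [Fact p.Prime] in
theorem isPGroup_T {e : V} (he : S.h e e = 0) : IsPGroup p (R.T e) :=
  (R.isPGroup_Q p he).to_le (R.T_le_Q e)

omit [Finite G] in
include R in
/-- A central `p`-element is trivial. -/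
theorem eq_one_of_mem_center {z : G} (hz : z ∈ center G) {k : ℕ} (hk : z ^ p ^ k = 1) : z = 1 := by
  obtain ⟨c, hc⟩ := (R.center_iff z).1 hz
  refine R.inj ?_
  have h := congrArg R.ρ hk
  rw [map_pow, hc, smul_pow, one_pow, map_one] at h
  rw [map_one, hc]
  refine LinearMap.ext fun x => ?_
  rcases eq_or_ne x 0 with rfl | hx
  · simp
  · have hcp : c ^ p ^ k = 1 := by
      have h' := LinearMap.congr_fun h x
      exact smul_left_injective F hx (by simpa using h')
    have hc1 : c = 1 := by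
      refine sub_eq_zero.1 (pow_eq_zero_iff (pow_ne_zero k (Fact.out : p.Prime).ne_zero) |>.1 ?_)
      rw [sub_pow_char_pow, hcp, one_pow, sub_self]
    simp [hc1]

omit [Finite G] in
include R in
/-- Lifts of `p`-elements are unique. -/
theorem eq_of_mk_eq {x y : G} {i j : ℕ} (hx : x ^ p ^ i = 1) (hy : y ^ p ^ j = 1)
    (h : mkQ x = mkQ y) : x = y := by
  have hz : x⁻¹ * y ∈ center G := QuotientGroup.eq.1 h
  have hcomm : Commute x⁻¹ y := by
    have h1 : Commute x⁻¹ (x⁻¹ * y) := mem_center_iff.1 hz x⁻¹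
    have h2 := ((Commute.refl x).inv_left).mul_right h1
    rwa [mul_inv_cancel_left] at h2
  refine inv_mul_eq_one.1 (R.eq_one_of_mem_center p hz (k := i + j) ?_)
  rw [hcomm.mul_pow, pow_add, pow_mul, pow_mul', inv_pow, hx, hy]
  simp

omit [Finite G] in
include R in
theorem eq_of_mk_eq' {H K : Subgroup G} (hH : IsPGroup p H) (hK : IsPGroup p K) {x y : G}
    (hx : x ∈ H) (hy : y ∈ K) (h : mkQ x = mkQ y) : x = y := by
  obtain ⟨i, hi⟩ := hH ⟨x, hx⟩
  obtain ⟨j, hj⟩ := hK ⟨y, hy⟩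
  exact R.eq_of_mk_eq p (congrArg Subtype.val hi) (congrArg Subtype.val hj) h

end Rep

end CfsgLib.ClassicalAut
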