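import Cfsg.Agent.Lib.ClassicalAut.Coord

set_option autoImplicit false

/-!
The map of `W` attached to an automorphism is a semisimilarity, and extends to the whole space.
-/

namespace CfsgLib.ClassicalAut

open Subgroup

theorem ringEquiv_commute {F : Type*} [Field F] [Finite F] (σ τ : F ≃+* F) (a : F) :
    σ (τ a) = τ (σ a) := by
  rcases eq_or_ne a 0 with rfl | ha
  · simp
  obtain ⟨ζ, hζ⟩ := IsCyclic.exists_monoid_generator (α := Fˣ)
  have key : ∀ ρ : F ≃+* F, ∃ i : ℕ, ∀ b : Fˣ, ρ (b : F) = (b : F) ^ i := by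
    intro ρ
    obtain ⟨i, hi⟩ := Submonoid.mem_powers_iff _ _ |>.1 (hζ (Units.map (ρ : F →* F) ζ))
    refine ⟨i, fun b => ?_⟩
    obtain ⟨k, rfl⟩ := Submonoid.mem_powers_iff _ _ |>.1 (hζ b)
    have h : ρ (ζ : F) = (ζ : F) ^ i := by
      rw [← Units.val_pow_eq_pow_val, hi]; rfl
    rw [Units.val_pow_eq_pow_val, map_pow, h, ← pow_mul, ← pow_mul, mul_comm]
  obtain ⟨i, hi⟩ := key σ
  obtain ⟨j, hj⟩ := key τ
  have h1 : τ a = a ^ j := hj (Units.mk0 a ha)
  have h2 : σ a = a ^ i := hi (Units.mk0 a ha)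
  rw [h1, map_pow, h2, map_pow, h1, ← pow_mul, ← pow_mul, mul_comm]

/-- An additive bijection normalising all linear maps is semilinear. -/
theorem exists_semilinear {F : Type*} [Field F] {U : Type*} [AddCommGroup U] [Module F U]
    [Nontrivial U] (A : U ≃+ U) (h₁ : ∀ L : Module.End F U, ∃ L' : Module.End F U,
      ∀ u, A (L u) = L' (A u))
    (h₂ : ∀ L : Module.End F U, ∃ L' : Module.End F U, ∀ u, A.symm (L u) = L' (A.symm u)) :
    ∃ κ : F ≃+* F, ∀ (a : F) (u : U), A (a • u) = κ a • A u := by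
  obtain ⟨w₀, hw₀⟩ := exists_ne (0 : U)
  obtain ⟨φ, hφ⟩ := Module.Projective.exists_dual_ne_zero F hw₀
  have key : ∀ B : U ≃+ U, (∀ L : Module.End F U, ∃ L' : Module.End F U,
      ∀ u, B (L u) = L' (B u)) → (∀ L : Module.End F U, ∃ L' : Module.End F U,
      ∀ u, B.symm (L u) = L' (B.symm u)) → ∀ a : F, ∃ c : F, ∀ u, B (a • u) = c • B u := by
    intro B hB hB' a
    obtain ⟨C, hC⟩ := hB (a • 1)
    have hcomm : ∀ L : Module.End F U, ∀ x, C (L x) = L (C x) := by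
      intro L x
      obtain ⟨L', hL'⟩ := hB' L
      obtain ⟨y, rfl⟩ := B.surjective x
      have h1 : ∀ z, L (B z) = B (L' z) := fun z => by
        rw [← B.apply_symm_apply (L (B z)), hL', B.symm_apply_apply]
      rw [h1, ← hC, ← hC]
      show B (a • L' y) = L (B (a • y))
      rw [h1 (a • y), map_smul L']
    refine ⟨(φ w₀)⁻¹ * φ (C w₀), fun u => ?_⟩
    have h := hcomm (φ.smulRight (B u)) w₀
    rw [LinearMap.smulRight_apply, LinearMap.smulRight_apply, map_smul] at h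
    rw [show B (a • u) = C (B u) from hC u, mul_smul, ← h, inv_smul_smul₀ hφ]
  choose κ hκ using key A h₁ h₂
  choose κ' hκ' using key A.symm h₂ (by simpa using h₁)
  have huniq : ∀ a b : F, a • A w₀ = b • A w₀ → a = b := fun a b h =>
    smul_left_injective F (by simpa using hw₀) h
  refine ⟨{ toFun := κ, invFun := κ', left_inv := fun a => ?_, right_inv := fun a => ?_,
            map_mul' := fun a b => ?_, map_add' := fun a b => ?_ }, hκ⟩
  · refine smul_left_injective F hw₀ ?_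
    have h := hκ' (κ a) (A w₀)
    rw [← hκ, A.symm_apply_apply, A.symm_apply_apply] at h
    exact h.symm
  · refine huniq _ _ ?_
    rw [← hκ, ← A.symm_apply_apply w₀, ← hκ', A.apply_symm_apply, A.apply_symm_apply]
  · refine huniq _ _ ?_
    rw [← hκ, mul_smul, hκ, hκ, mul_smul]
  · refine huniq _ _ ?_
    rw [← hκ, add_smul, map_add, hκ, hκ, add_smul]

variable {F : Type*} [Field F] {V : Type*} [AddCommGroup V] [Module F V]
variable {S : Space F V} (Φ : Frame S)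

namespace Frame

theorem exists_partner_W {u : Φ.W} (hu : u ≠ 0) : ∃ x : Φ.W, S.h (x : V) u = 1 := by
  obtain ⟨x, hx⟩ := S.exists_ne (u : V) (fun h => hu (Subtype.ext h))
  exact ⟨Φ.π x, by rw [Φ.π_coe, S.h_proj u.2.1 u.2.2, hx]⟩

theorem exists_ne_ne_W {u v : Φ.W} (hu : u ≠ 0) (hv : v ≠ 0) :
    ∃ x : Φ.W, S.h (x : V) u ≠ 0 ∧ S.h (x : V) v ≠ 0 := by
  obtain ⟨x, h1, h2⟩ := S.exists_ne_ne (v := (u : V)) (w := (v : V))
    (fun h => hu (Subtype.ext h)) (fun h => hv (Subtype.ext h))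
  refine ⟨Φ.π x, ?_, ?_⟩
  · rwa [Φ.π_coe, S.h_proj u.2.1 u.2.2]
  · rwa [Φ.π_coe, S.h_proj v.2.1 v.2.2]

theorem nondeg_W {u : Φ.W} (h : ∀ x : Φ.W, S.h (x : V) u = 0) : u = 0 := by
  by_contra hu
  obtain ⟨x, hx⟩ := Φ.exists_partner_W hu
  rw [h x] at hx
  exact zero_ne_one hx

/-- A semilinear bijection of `W` preserving equalities between the commutator values preserves
orthogonality. -/
theorem perp_of_commutator {A : Φ.W ≃+ Φ.W} {κ : F ≃+* F} (hsk : S.SkewSurj)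
    (hκ : ∀ (a : F) u, A (a • u) = κ a • A u)
    (hσ : ∀ u v u' v' : Φ.W, S.h (u : V) v - S.h (v : V) u = S.h (u' : V) v' - S.h (v' : V) u' →
      S.h (A u : V) (A v) - S.h (A v : V) (A u) = S.h (A u' : V) (A v') - S.h (A v' : V) (A u')) :
    ∀ u v : Φ.W, S.h (u : V) v = 0 → S.h (A u : V) (A v) = 0 := by
  intro u v huv
  by_contra hX
  obtain ⟨y, hy⟩ := S.exists_not_fixed hsk
  have h := hσ (κ.symm (y / S.h (A u : V) (A v)) • u) v 0 0 (by
    simp [S.smul_left, S.smul_right, huv, S.eq_zero_symm huv, S.zero_left])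
  rw [hκ, map_zero, κ.apply_symm_apply, Submodule.coe_smul, S.smul_left, S.smul_right,
    div_mul_cancel₀ _ hX, S.swap (A u : V) (A v), ← mul_left_comm, ← map_mul,
    div_mul_cancel₀ _ hX] at h
  simp [S.zero_left] at h
  exact hy h

/-- A semilinear bijection of `W` preserving orthogonality is a semisimilarity. -/
theorem exists_factor [Finite F] {A : Φ.W ≃+ Φ.W} {κ : F ≃+* F}
    (hκ : ∀ (a : F) u, A (a • u) = κ a • A u)
    (hperp : ∀ u v : Φ.W, S.h (u : V) v = 0 → S.h (A u : V) (A v) = 0) :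
    ∃ c : F, c ≠ 0 ∧ S.bar c = c ∧ ∀ u v : Φ.W, S.h (A u : V) (A v) = c * κ (S.h (u : V) v) := by
  have hbar : ∀ a, S.bar (κ a) = κ (S.bar a) := fun a => ringEquiv_commute _ _ _
  have hcu : ∀ u : Φ.W, u ≠ 0 → ∃ c, ∀ x : Φ.W, S.h (A x : V) (A u) = c * κ (S.h (x : V) u) := by
    intro u hu
    obtain ⟨x₀, hx₀⟩ := Φ.exists_partner_W hu
    refine ⟨S.h (A x₀ : V) (A u), fun x => ?_⟩
    have h := hperp (x - S.h (x : V) u • x₀) u (by
      rw [Submodule.coe_sub, Submodule.coe_smul, S.sub_left, S.smul_left, hx₀, mul_one, sub_self])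
    rw [map_sub, hκ, Submodule.coe_sub, Submodule.coe_smul, S.sub_left, S.smul_left,
      sub_eq_zero] at h
    rw [h, mul_comm]
  choose c hc using hcu
  have hsymm : ∀ u x : Φ.W, ∀ (hu : u ≠ 0) (hx : x ≠ 0), S.h (u : V) x ≠ 0 →
      c x hx = S.bar (c u hu) := by
    intro u x hu hx hux
    have h1 := hc x hx u
    rw [S.swap (A x : V), hc u hu x, map_mul, hbar, S.swap (x : V) u, map_mul, S.map_ε] at *
    refine mul_right_cancel₀ (mul_ne_zero S.ε_ne_zero ?_) (h1.symm.trans (mul_left_comm _ _ _))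
    intro h0
    apply hux
    simp [(map_eq_zero κ).1 h0]
  have hne : ∀ u x : Φ.W, S.h (u : V) x ≠ 0 → u ≠ 0 ∧ x ≠ 0 := fun u x h =>
    ⟨fun h0 => h (by rw [h0, ZeroMemClass.coe_zero, S.zero_left]),
      fun h0 => h (by rw [h0, ZeroMemClass.coe_zero, S.zero_right])⟩
  obtain ⟨w₀, hw₀⟩ := exists_ne (0 : Φ.W)
  have hconst : ∀ u : Φ.W, ∀ hu : u ≠ 0, c u hu = c w₀ hw₀ := by
    intro u hu
    obtain ⟨x, h1, h2⟩ := Φ.exists_ne_ne_W hu hw₀
    have hx := (hne x u h1).1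
    rw [hsymm x u hx hu h1, hsymm x w₀ hx hw₀ h2]
  refine ⟨c w₀ hw₀, ?_, ?_, fun u v => ?_⟩
  · intro h0
    have hz : A w₀ = 0 := Φ.nondeg_W fun x => by
      obtain ⟨y, rfl⟩ := A.surjective x
      rw [hc w₀ hw₀, h0, zero_mul]
    exact hw₀ (by simpa using hz)
  · obtain ⟨x, hx⟩ := Φ.exists_partner_W hw₀
    have hx0 : S.h (x : V) w₀ ≠ 0 := by rw [hx]; exact one_ne_zero
    have h := hsymm x w₀ (hne x w₀ hx0).1 hw₀ hx0
    rw [hconst x] at h
    exact h.symm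
  · rcases eq_or_ne v 0 with rfl | hv
    · simp [S.zero_right]
    · rw [hc v hv u, hconst v hv]

/-- Extension of a semisimilarity of `W` to the whole space. -/
theorem exists_extend {A : Φ.W ≃+ Φ.W} {κ : F ≃+* F} {c : F}
    (hκ : ∀ (a : F) u, A (a • u) = κ a • A u) (hbar : ∀ a, S.bar (κ a) = κ (S.bar a)) (hc0 : c ≠ 0)
    (hc : S.bar c = c) (hA : ∀ u v : Φ.W, S.h (A u : V) (A v) = c * κ (S.h (u : V) v)) :
    ∃ m : S.Semi, m.k = c ∧ m.M Φ.e = c • Φ.e ∧ m.M Φ.f = Φ.f ∧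
      ∀ u : Φ.W, m.M (u : V) = A u := by
  let T : V →+ V :=
    { toFun := fun x => (κ (S.h x Φ.f) * c) • Φ.e + κ (S.ε * S.h x Φ.e) • Φ.f + (A (Φ.π x) : V)
      map_zero' := by simp [S.zero_left]
      map_add' := fun x y => by
        simp only [S.add_left, mul_add, map_add, Submodule.coe_add]
        module }
  have hT : ∀ x, T x =
      (κ (S.h x Φ.f) * c) • Φ.e + κ (S.ε * S.h x Φ.e) • Φ.f + (A (Φ.π x) : V) := fun x => rfl
  have hT1 : ∀ x, S.h (T x) Φ.e = κ (S.ε * S.h x Φ.e) * S.ε := fun x => by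
    rw [hT, S.add_left, S.add_left, S.smul_left, S.smul_left, Φ.he, Φ.hfe, (A (Φ.π x)).2.1]
    ring
  have hT2 : ∀ x, S.h (T x) Φ.f = κ (S.h x Φ.f) * c := fun x => by
    rw [hT, S.add_left, S.add_left, S.smul_left, S.smul_left, Φ.hef, Φ.hf, (A (Φ.π x)).2.2]
    ring
  have hTπ : ∀ x, Φ.π (T x) = A (Φ.π x) := fun x => by
    rw [hT, map_add, map_add, map_smul, map_smul, Φ.π_W, Φ.π_e,
      show Φ.π Φ.f = 0 from Subtype.ext (by
        rw [Φ.π_coe, S.proj_apply, Φ.hf, Φ.hfe, S.ε_sq]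
        simp)]
    simp
  have hTh : ∀ x y, S.h (T x) (T y) = c * κ (S.h x y) := fun x y => by
    conv_lhs => arg 3; rw [hT y]
    conv_rhs => arg 2; arg 2; arg 3; rw [Φ.decomp y]
    rw [S.add_right, S.add_right, S.smul_right, S.smul_right, hT1, hT2,
      S.add_right, S.add_right, S.smul_right, S.smul_right, map_mul, hbar, hbar, hc,
      ← S.h_proj (A (Φ.π y)).2.1 (A (Φ.π y)).2.2 (x := T x) (e := Φ.e) (f := Φ.f),
      ← S.h_proj (Φ.π y).2.1 (Φ.π y).2.2 (x := x) (e := Φ.e) (f := Φ.f),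
      ← Φ.π_coe, ← Φ.π_coe, hTπ, hA]
    simp only [map_add, map_mul, S.map_ε, ← hbar]
    linear_combination (c * S.bar (κ (S.h y Φ.f)) * κ (S.h x Φ.e)) * S.ε_sq
  have hinj : Function.Injective T := by
    intro x y hxy
    rw [← sub_eq_zero]
    refine S.nondeg' fun u => ?_
    have h := hTh (x - y) u
    rw [map_sub, hxy, sub_self, S.zero_left] at h
    simpa [hc0] using h.symm
  have hsurj : Function.Surjective T := fun y => by
    refine ⟨κ.symm (S.h y Φ.f / c) • Φ.e + κ.symm (S.ε * S.h y Φ.e) • Φ.f +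
      (A.symm (Φ.π y) : V), ?_⟩
    rw [hT]
    conv_rhs => rw [Φ.decomp y]
    simp only [map_add, map_smul, S.add_left, S.smul_left, Φ.he, Φ.hf, Φ.hef, Φ.hfe,
      (A.symm (Φ.π y)).2.1, (A.symm (Φ.π y)).2.2, Φ.π_W, Φ.π_e,
      show Φ.π Φ.f = 0 from Subtype.ext (by
        rw [Φ.π_coe, S.proj_apply, Φ.hf, Φ.hfe, S.ε_sq]
        simp)]
    simp only [mul_zero, add_zero, zero_add, mul_one, smul_zero, map_mul, S.map_ε, map_div₀,
      map_zero, κ.apply_symm_apply, A.apply_symm_apply, div_mul_cancel₀ _ hc0]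
    simp [S.ε_sq, mul_right_comm _ _ S.ε]
  refine ⟨{ M := AddEquiv.ofBijective T ⟨hinj, hsurj⟩
            κ := κ
            k := c
            k_ne := hc0
            bar_k := hc
            bar_κ := hbar
            map_smul := fun a x => ?_
            map_h := hTh }, rfl, ?_, ?_, fun u => ?_⟩
  · show T (a • x) = κ a • T x
    simp only [hT, S.smul_left, map_mul, map_smul, hκ, Submodule.coe_smul]
    module
  · show T Φ.e = _
    rw [hT, Φ.he, Φ.hef, Φ.π_e]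
    simp
  · show T Φ.f = _
    rw [hT, Φ.hf, Φ.hfe, S.ε_sq, show Φ.π Φ.f = 0 from Subtype.ext (by
        rw [Φ.π_coe, S.proj_apply, Φ.hf, Φ.hfe, S.ε_sq]
        simp)]
    simp
  · show T (u : V) = _
    rw [hT, u.2.1, u.2.2, Φ.π_W]
    simp

end Frame

namespace Rep

variable {G : Type*} [Group G] [Finite G] (R : Rep S G) (p : ℕ) [Fact p.Prime] [CharP F p]
  [Finite V]
variable {Φ} {β : MulAut (G ⧸ center G)}

include p in
theorem exists_conj_linear (hd : R.Dense Φ) (hβ : R.FixesPt β Φ.e) (hβf : R.FixesPt β Φ.f)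
    {A : Φ.W ≃+ Φ.W} (hA : ∀ u, R.Rel Φ β u (A u)) (L : Module.End F Φ.W) :
    ∃ L' : Module.End F Φ.W, ∀ u, A (L u) = L' (A u) := by
  have hL : L ∈ AddSubgroup.closure {L | ∃ g c, R.IsOp Φ g c L} := hd.symm ▸ AddSubgroup.mem_top L
  induction hL using AddSubgroup.closure_induction with
  | mem L hL =>
    obtain ⟨g, c, hg⟩ := hL
    obtain ⟨g', hg'⟩ := mkQ_surjective (β (mkQ g))
    obtain ⟨c', L', -, h⟩ := exists_op_rel p hd hβ hβf hA hg hg'.symm
    exact ⟨L', h⟩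
  | zero => exact ⟨0, fun u => by simp⟩
  | add L L' _ _ hL hL' =>
    obtain ⟨M, hM⟩ := hL
    obtain ⟨M', hM'⟩ := hL'
    exact ⟨M + M', fun u => by simp [hM, hM']⟩
  | neg L _ hL =>
    obtain ⟨M, hM⟩ := hL
    exact ⟨-M, fun u => by simp [hM]⟩

omit [Finite G] [Finite V] in
/-- The commutator of two elations at `e` as an element of the transvection group. -/
theorem exists_comm (u v : Φ.W) {x y : G} {t s : F} (ht : S.Valid (u : V) t)
    (hs : S.Valid (v : V) s) (hx : R.ρ x = S.E Φ.e u t) (hy : R.ρ y = S.E Φ.e v s) :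
    x * y * (y * x)⁻¹ ∈ R.T Φ.e ∧
      R.ρ (x * y * (y * x)⁻¹) = S.E Φ.e 0 (S.ε * (S.h (u : V) v - S.h (v : V) u)) := by
  have h1 := (Space.Valid.mul S u.2.1 v.2.1 ht hs).2
  have h2 := (Space.Valid.mul S v.2.1 u.2.1 hs ht).2
  rw [add_comm (v : V)] at h2
  have hskew : S.Valid 0 (S.ε * (S.h (u : V) v - S.h (v : V) u)) := by
    convert h1.skew_sub S h2 using 1
    ring
  obtain ⟨z, hz, hzρ⟩ := R.exists_mem_T Φ.he hskew
  have h : z * (y * x) = x * y := R.inj (by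
    rw [map_mul, map_mul, map_mul, hzρ, hx, hy, S.E_mul Φ.he v.2.1 u.2.1, S.E_mul Φ.he u.2.1 v.2.1,
      S.E_mul Φ.he (S.zero_left _) (by rw [S.add_left, u.2.1, v.2.1, add_zero]), zero_add,
      add_comm (v : V), S.zero_right, mul_zero, sub_zero]
    congr 1
    ring)
  rw [← h, mul_inv_cancel_right]
  exact ⟨hz, hzρ⟩

include p in
omit [Finite V] in
theorem rel_commutator {A : Φ.W ≃+ Φ.W} (hA : ∀ u, R.Rel Φ β u (A u)) (u v u' v' : Φ.W)
    (h : S.h (u : V) v - S.h (v : V) u = S.h (u' : V) v' - S.h (v' : V) u') :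
    S.h (A u : V) (A v) - S.h (A v : V) (A u) =
      S.h (A u' : V) (A v') - S.h (A v' : V) (A u') := by
  obtain ⟨x, x', t, t', hx1, hx2, hx3, hx4, hx5⟩ := hA u
  obtain ⟨y, y', s, s', hy1, hy2, hy3, hy4, hy5⟩ := hA v
  obtain ⟨a, a', r, r', ha1, ha2, ha3, ha4, ha5⟩ := hA u'
  obtain ⟨b, b', l, l', hb1, hb2, hb3, hb4, hb5⟩ := hA v'
  have c1 := R.exists_comm u v hx1 hy1 hx2 hy2
  have c2 := R.exists_comm u' v' ha1 hb1 ha2 hb2
  have c1' := R.exists_comm (A u) (A v) hx3 hy3 hx4 hy4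
  have c2' := R.exists_comm (A u') (A v') ha3 hb3 ha4 hb4
  have heq : x * y * (y * x)⁻¹ = a * b * (b * a)⁻¹ := R.inj (by rw [c1.2, c2.2, h])
  have hq := congrArg (fun g => β (mkQ g)) heq
  simp only [map_mul, map_inv, hx5, hy5, ha5, hb5] at hq
  have heq' : x' * y' * (y' * x')⁻¹ = a' * b' * (b' * a')⁻¹ :=
    R.eq_of_mk_eq' p (R.isPGroup_T p Φ.he) (R.isPGroup_T p Φ.he) c1'.1 c2'.1 (by simpa using hq)
  have hρ := c1'.2
  rw [heq', c2'.2] at hρ
  exact (mul_left_cancel₀ S.ε_ne_zero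
    (S.eq_zero_of_E_eq Φ.hef (S.zero_left _) (S.zero_left _) hρ).2).symm

end Rep

end CfsgLib.ClassicalAut
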