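import Cfsg.Agent.Lib.ClassicalAut.Symplectic
import Cfsg.Agent.Lib.ClassicalAut.Even

set_option autoImplicit false

/-!
Automorphisms of `PSp_{2m}(q)`.
-/

namespace CfsgLib.ClassicalAut

theorem Frame.exists_orth_pair {F : Type*} [Field F] {V : Type*} [AddCommGroup V] [Module F V]
    {S : Space F V} (Φ : Frame S) [FiniteDimensional F V] (h4 : 4 < Module.finrank F V)
    (halt : ∀ v, S.h v v = 0) (w z : Φ.W) (hwz : S.h (w : V) z = 1) :
    ∃ u u' : Φ.W, S.h (u : V) u' = 1 ∧ S.h (w : V) u = 0 ∧ S.h (z : V) u = 0 ∧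
      S.h (z : V) u' = 0 := by
  let L : V →ₗ[F] (Fin 4 → F) :=
    { toFun := fun x => ![S.h x Φ.e, S.h x Φ.f, S.h x (w : V), S.h x (z : V)]
      map_add' := fun x y => by ext i; fin_cases i <;> simp [S.add_left]
      map_smul' := fun a x => by ext i; fin_cases i <;> simp [S.smul_left] }
  have hker : LinearMap.ker L ≠ ⊥ := LinearMap.ker_ne_bot_of_finrank_lt (by simpa using h4)
  obtain ⟨v, hv, hv0⟩ := Submodule.exists_mem_ne_zero_of_ne_bot hker
  have h0 : S.h v Φ.e = 0 := congrFun (LinearMap.mem_ker.1 hv) 0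
  have h1 : S.h v Φ.f = 0 := congrFun (LinearMap.mem_ker.1 hv) 1
  have h2 : S.h v (w : V) = 0 := congrFun (LinearMap.mem_ker.1 hv) 2
  have h3 : S.h v (z : V) = 0 := congrFun (LinearMap.mem_ker.1 hv) 3
  let u : Φ.W := ⟨v, h0, h1⟩
  have hu : u ≠ 0 := fun h => hv0 (congrArg Subtype.val h)
  obtain ⟨x, hx⟩ := Φ.exists_partner_W hu
  have hy : Φ.sub.h (Φ.sub.proj w z x) u = 1 := by
    rw [Φ.sub.h_proj (show Φ.sub.h u w = 0 from h2) (show Φ.sub.h u z = 0 from h3)]; exact hx
  have hyu : S.h ((Φ.sub.proj w z x : Φ.W) : V) u = 1 := hy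
  refine ⟨u, S.ε • Φ.sub.proj w z x, ?_, S.eq_zero_symm h2, S.eq_zero_symm h3, ?_⟩
  · rw [Submodule.coe_smul, S.smul_right, S.bar_ε, S.swap ((Φ.sub.proj w z x : Φ.W) : V), hyu,
      map_one, mul_one, S.ε_sq]
  · rw [Submodule.coe_smul, S.smul_right, S.eq_zero_symm (show S.h ((Φ.sub.proj w z x : Φ.W) : V) z = 0
      from Φ.sub.proj_right (x := x) (halt _) hwz), mul_zero]

namespace Symp

open Matrix Cfsg

variable {F : Type*} [Field F] {m : ℕ}

variable [Finite F]

/-- Every automorphism of `PSp_{2m}(F)` is induced by a semisimilarity, unless `m = 2` and the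
characteristic is two. -/
theorem exists_semilinear (hm : 2 ≤ m) (h : 3 ≤ m ∨ (2 : F) ≠ 0) (β : MulAut (PSp m F)) :
    ∃ (g : GL (Fin m ⊕ Fin m) F) (σ : F ≃+* F),
      g ∈ GSp m F ∧ IsInducedBySemilinearPSp g σ β := by
  classical
  cases nonempty_fintype F
  by_cases h2 : (2 : F) ≠ 0
  · exact exists_semilinear_odd h2 hm β
  have : CharP F 2 := by
    push Not at h2
    exact CharP.charP_iff_prime_eq_zero Nat.prime_two |>.2 (by simpa using h2)
  have h3 : 3 ≤ m := h.resolve_right h2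
  obtain ⟨hd, hk⟩ := dense_and_kill (F := F) (m := m) hm 2
  have hpm := (rep (F := F) (m := m) 2).pointMap_of_rank_three (frame hm) (fun _ => rfl)
    sympForm_self (fun w z hwz => (frame hm).exists_orth_pair
      (by rw [Module.finrank_fintype_fun_eq_card]; simp; omega) sympForm_self w z hwz) β
  obtain ⟨s, hs⟩ :=
    (rep (F := F) (m := m) 2).exists_semi_two (fun _ => rfl) sympForm_self hd hk hpm
  obtain ⟨A, κ, k, hk0, -, hform, hind⟩ :=
    exists_matrix_form _ (rep (F := F) (m := m) 2) (toMat := toMat F m) (fun _ _ => rfl) hs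
  refine ⟨A, κ, ⟨Units.mk0 k hk0, fun u v => ?_⟩, hind⟩
  have h := hform (fun i => κ.symm (u i)) (fun i => κ.symm (v i))
  simp only [κ.apply_symm_apply] at h
  refine h.trans ?_
  congr 1
  show κ (sympForm m F _ _) = sympForm m F u v
  rw [sympForm_apply, sympForm_apply, map_sum]
  exact Finset.sum_congr rfl fun i _ => by simp

end Symp

end CfsgLib.ClassicalAut
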