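import Cfsg.Agent.Lib.ClassicalAut.TwistCarrier
import Cfsg.Agent.Lib.ClassicalAut.SymplecticEven
import Cfsg.Agent.Lib.AutPSL.Out

set_option autoImplicit false

/-!
The twisted structure of `Aut(PSp_{2m}(q))`: inner-diagonal automorphisms and the multiplier.
-/

namespace CfsgLib.ClassicalAut.Symp

open Matrix Cfsg

variable {F : Type*} [Field F] {m : ℕ}

theorem sympForm_map (σ : F ≃+* F) (x y : Fin m ⊕ Fin m → F) :
    sympForm m F (fun i => σ (x i)) (fun i => σ (y i)) = σ (sympForm m F x y) := by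
  rw [sympForm_apply, sympForm_apply, map_sum]
  exact Finset.sum_congr rfl fun i _ => by simp

theorem mem_GSp_iff {g : GL (Fin m ⊕ Fin m) F} : g ∈ GSp m F ↔
    ∃ c : Fˣ, ∀ u v, sympForm m F ((g : Matrix (Fin m ⊕ Fin m) (Fin m ⊕ Fin m) F) *ᵥ u) ((g : Matrix (Fin m ⊕ Fin m) (Fin m ⊕ Fin m) F) *ᵥ v) =
      (c : F) * sympForm m F u v := Iff.rfl

/-- An element of the symplectic group as an invertible matrix. -/
def toGL (s : symplecticGroup (Fin m) F) : GL (Fin m ⊕ Fin m) F :=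
  (Units.map (toMat F m : _ →* Matrix (Fin m ⊕ Fin m) (Fin m ⊕ Fin m) F)) (toUnits s)

theorem toGL_coe (s : symplecticGroup (Fin m) F) :
    ((toGL s : GL (Fin m ⊕ Fin m) F) : Matrix (Fin m ⊕ Fin m) (Fin m ⊕ Fin m) F) = toMat F m s := rfl

set_option maxHeartbeats 1000000 in
/-- The symplectic carrier. -/
def carrier (p : ℕ) [Fact p.Prime] [CharP F p] :
    Carrier (space (F := F) (m := m)) (symplecticGroup (Fin m) F) where
  rep := rep p
  toMat := toMat F m
  hρ _ _ := rfl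
  H := GSp m F
  sim g hg := let ⟨c, hc⟩ := hg; ⟨c, c.ne_zero, rfl, hc⟩
  mem_H s := ⟨toGL s, ⟨1, fun u v => by
    rw [Units.val_one, one_mul]; exact mem_symplecticGroup_iff_form.1 s.2 u v⟩, rfl⟩
  map_H σ g hg := by
    obtain ⟨c, hc⟩ := hg
    refine ⟨Units.map σ.toRingHom.toMonoidHom c, fun u v => ?_⟩
    obtain ⟨u, rfl⟩ : ∃ u' : Fin m ⊕ Fin m → F, (fun i => σ (u' i)) = u :=
      ⟨fun i => σ.symm (u i), funext fun i => σ.apply_symm_apply _⟩
    obtain ⟨v, rfl⟩ : ∃ v' : Fin m ⊕ Fin m → F, (fun i => σ (v' i)) = v :=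
      ⟨fun i => σ.symm (v i), funext fun i => σ.apply_symm_apply _⟩
    show sympForm m F ((g : Matrix (Fin m ⊕ Fin m) (Fin m ⊕ Fin m) F).map σ *ᵥ _) ((g : Matrix (Fin m ⊕ Fin m) (Fin m ⊕ Fin m) F).map σ *ᵥ _) = _
    rw [← map_comp_mulVec, ← map_comp_mulVec, sympForm_map, sympForm_map, hc, map_mul]
    rfl
  bar_comm _ _ := rfl
  h_map := sympForm_map
  factor s := by
    obtain ⟨A, hA⟩ := exists_matrix_of_semilinear s.M s.κ s.map_smul
    refine ⟨A, ⟨Units.mk0 s.k s.k_ne, fun u v => ?_⟩, 1, one_ne_zero, fun x => by rw [hA, one_smul]⟩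
    have h := s.map_h (fun i => s.κ.symm (u i)) (fun i => s.κ.symm (v i))
    rw [hA, hA] at h
    simp only [RingEquiv.apply_symm_apply] at h
    refine h.trans ?_
    show _ * s.κ (sympForm m F _ _) = _
    rw [← sympForm_map]
    simp only [RingEquiv.apply_symm_apply]
    rfl

theorem frame_form (hm : 2 ≤ m) :
    sympForm m F (frame (F := F) hm).e (frame (F := F) hm).f = 1 := (frame hm).hef

theorem exists_mult (hm : 2 ≤ m) (g : GSp m F) :
    ∃ c : Fˣ, sympForm m F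
        (((g : GL (Fin m ⊕ Fin m) F) : Matrix (Fin m ⊕ Fin m) (Fin m ⊕ Fin m) F) *ᵥ (frame (F := F) hm).e)
        (((g : GL (Fin m ⊕ Fin m) F) : Matrix (Fin m ⊕ Fin m) (Fin m ⊕ Fin m) F) *ᵥ (frame (F := F) hm).f)
          = (c : F) ∧
      ∀ u v, sympForm m F (((g : GL (Fin m ⊕ Fin m) F) : Matrix (Fin m ⊕ Fin m) (Fin m ⊕ Fin m) F) *ᵥ u)
        (((g : GL (Fin m ⊕ Fin m) F) : Matrix (Fin m ⊕ Fin m) (Fin m ⊕ Fin m) F) *ᵥ v) =
          (c : F) * sympForm m F u v := by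
  obtain ⟨c, hc⟩ := mem_GSp_iff.1 g.2
  exact ⟨c, by rw [hc, frame_form, mul_one], hc⟩

variable (F m) in
/-- The multiplier of a similitude. -/
noncomputable def mult (hm : 2 ≤ m) : GSp m F →* Fˣ :=
  MonoidHom.mk' (fun g => (exists_mult hm g).choose) fun g g' => by
    obtain ⟨h1, -⟩ := (exists_mult hm (g * g')).choose_spec
    obtain ⟨-, h2⟩ := (exists_mult hm g).choose_spec
    obtain ⟨h4, -⟩ := (exists_mult hm g').choose_spec
    refine Units.ext (h1.symm.trans ?_)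
    rw [Subgroup.coe_mul, Units.val_mul, ← mulVec_mulVec, ← mulVec_mulVec, Units.val_mul]
    exact (h2 _ _).trans (congrArg _ h4)

theorem mult_spec (hm : 2 ≤ m) (g : GSp m F) (u v : Fin m ⊕ Fin m → F) :
    sympForm m F (((g : GL (Fin m ⊕ Fin m) F) : Matrix (Fin m ⊕ Fin m) (Fin m ⊕ Fin m) F) *ᵥ u)
      (((g : GL (Fin m ⊕ Fin m) F) : Matrix (Fin m ⊕ Fin m) (Fin m ⊕ Fin m) F) *ᵥ v) =
      (mult F m hm g : F) * sympForm m F u v := (exists_mult hm g).choose_spec.2 u v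

theorem mult_unique (hm : 2 ≤ m) (g : GSp m F) (c : F)
    (h : ∀ u v, sympForm m F (((g : GL (Fin m ⊕ Fin m) F) : Matrix (Fin m ⊕ Fin m) (Fin m ⊕ Fin m) F) *ᵥ u)
      (((g : GL (Fin m ⊕ Fin m) F) : Matrix (Fin m ⊕ Fin m) (Fin m ⊕ Fin m) F) *ᵥ v) =
        c * sympForm m F u v) : (mult F m hm g : F) = c := by
  have h1 := (mult_spec hm g (frame (F := F) hm).e (frame (F := F) hm).f).symm.trans (h _ _)
  rwa [frame_form, mul_one, mul_one] at h1

theorem mult_surjective (hm : 2 ≤ m) : Function.Surjective (mult F m hm) := by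
  intro c
  let D : GL (Fin m ⊕ Fin m) F :=
    { val := Matrix.diagonal (Sum.elim (fun _ => (c : F)) fun _ => 1)
      inv := Matrix.diagonal (Sum.elim (fun _ => ((c⁻¹ : Fˣ) : F)) fun _ => 1)
      val_inv := by
        rw [diagonal_mul_diagonal, ← diagonal_one]; congr 1; funext i; cases i <;> simp
      inv_val := by
        rw [diagonal_mul_diagonal, ← diagonal_one]; congr 1; funext i; cases i <;> simp }
  have hD : ∀ u v, sympForm m F ((D : Matrix (Fin m ⊕ Fin m) (Fin m ⊕ Fin m) F) *ᵥ u) ((D : Matrix (Fin m ⊕ Fin m) (Fin m ⊕ Fin m) F) *ᵥ v) =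
      (c : F) * sympForm m F u v := fun u v => by
    rw [sympForm_apply, sympForm_apply, Finset.mul_sum]
    refine Finset.sum_congr rfl fun i _ => ?_
    simp only [D, mulVec_diagonal, Sum.elim_inl, Sum.elim_inr]
    ring
  exact ⟨⟨D, c, hD⟩, Units.ext (mult_unique hm _ _ hD)⟩

variable (F m) in
/-- The multiplier modulo squares. -/
noncomputable def nu (hm : 2 ≤ m) : GSp m F →* Fˣ ⧸ (powMonoidHom 2 : Fˣ →* Fˣ).range :=
  (QuotientGroup.mk' _).comp (mult F m hm)

theorem ind_eq_isInduced (p : ℕ) [Fact p.Prime] [CharP F p] (g : GL (Fin m ⊕ Fin m) F)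
    (σ : F ≃+* F) (β : MulAut (PSp m F)) :
    IsInducedBySemilinearPSp g σ β ↔ (carrier p).Ind g σ β := Iff.rfl

variable [Finite F] (p : ℕ) [Fact p.Prime] [CharP F p]

/-- The twisted structure. -/
noncomputable def twist (hm : 2 ≤ m) : Twist (PSp m F) (GSp m F) (F ≃+* F) :=
  (carrier p).twist p (frame hm)

theorem full_twist (hm : 2 ≤ m) (h : 3 ≤ m ∨ (2 : F) ≠ 0) : (twist (F := F) p hm).Full := by
  intro β
  obtain ⟨g, σ, hg, hβ⟩ := exists_semilinear hm h β
  exact ⟨⟨g, hg⟩, σ, ((carrier p).ind_eq (g := ⟨g, hg⟩)).1 hβ⟩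

theorem inndiag_eq (hm : 2 ≤ m) : inndiagPSp m F = (twist (F := F) p hm).δ.range := by
  refine le_antisymm ((Subgroup.closure_le _).2 ?_) ?_
  · rintro β ⟨g, hg, hβ⟩
    refine ⟨⟨g, hg⟩, ?_⟩
    exact ((carrier p).ind_unique hg 1 hβ ((carrier p).delta_spec ⟨g, hg⟩)).symm
  · rintro _ ⟨g, rfl⟩
    exact Subgroup.subset_closure ⟨g, g.2, (carrier p).delta_spec g⟩

theorem std_iff (hm : 2 ≤ m) (σ : F ≃+* F) (β : MulAut (PSp m F)) :
    IsStdFieldAutPSp σ β ↔ β = (twist p hm).φ σ := by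
  have h0 : ∀ γ : MulAut (PSp m F), IsStdFieldAutPSp σ γ ↔ (carrier p).Ind 1 σ γ := fun γ => by
    unfold IsStdFieldAutPSp Carrier.Ind
    simp only [inv_one, Units.val_one, Matrix.one_mul, Matrix.mul_one]
    rfl
  rw [h0]
  exact ⟨fun h => (carrier p).ind_unique (Subgroup.one_mem _) σ h ((carrier p).fieldAut_spec σ),
    fun h => h ▸ (carrier p).fieldAut_spec σ⟩

theorem mult_map (hm : 2 ≤ m) (σ : F ≃+* F) (g : GSp m F) :
    mult F m hm ((twist (F := F) p hm).act σ g) =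
      Units.map σ.toRingHom.toMonoidHom (mult F m hm g) := by
  refine Units.ext (mult_unique hm _ _ fun u v => ?_)
  obtain ⟨u, rfl⟩ : ∃ u' : Fin m ⊕ Fin m → F, (fun i => σ (u' i)) = u :=
    ⟨fun i => σ.symm (u i), funext fun i => σ.apply_symm_apply _⟩
  obtain ⟨v, rfl⟩ : ∃ v' : Fin m ⊕ Fin m → F, (fun i => σ (v' i)) = v :=
    ⟨fun i => σ.symm (v i), funext fun i => σ.apply_symm_apply _⟩
  show sympForm m F (((g : GL (Fin m ⊕ Fin m) F) : Matrix (Fin m ⊕ Fin m) (Fin m ⊕ Fin m) F).map σ *ᵥ _)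
    (((g : GL (Fin m ⊕ Fin m) F) : Matrix (Fin m ⊕ Fin m) (Fin m ⊕ Fin m) F).map σ *ᵥ _) = _
  rw [← map_comp_mulVec, ← map_comp_mulVec, sympForm_map, sympForm_map, mult_spec hm, map_mul]
  rfl

theorem nu_eq_one_iff (hm : 2 ≤ m) (g : GSp m F) :
    nu F m hm g = 1 ↔ (twist p hm).δ g ∈ Cfsg.Inn (PSp m F) := by
  have key : nu F m hm g = 1 ↔ ∃ b : Fˣ, b ^ 2 = mult F m hm g :=
    QuotientGroup.eq_one_iff _
  rw [key]
  constructor
  · rintro ⟨b, hb⟩
    set A := ((b⁻¹ : Fˣ) : F) • ((g : GL (Fin m ⊕ Fin m) F) : Matrix (Fin m ⊕ Fin m) (Fin m ⊕ Fin m) F) with hA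
    have hA' : A ∈ symplecticGroup (Fin m) F := mem_symplecticGroup_iff_form.2 fun u v => by
      rw [hA, smul_mulVec, smul_mulVec]
      show (space (F := F) (m := m)).h _ _ = _
      rw [Space.smul_left, Space.smul_right]
      show ((b⁻¹ : Fˣ) : F) * (((b⁻¹ : Fˣ) : F) * _) = _
      rw [show (space (F := F) (m := m)).h = sympForm m F from rfl, mult_spec hm, ← hb,
        Units.val_pow_eq_pow_val, Units.val_inv_eq_inv_val]
      field_simp
    refine ⟨(⟨A, hA'⟩ : symplecticGroup (Fin m) F), ?_⟩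
    symm
    refine (carrier p).ind_unique g.2 1 ((carrier p).delta_spec g) fun t t' ht => ?_
    have hsA : ∀ s : symplecticGroup (Fin m) F, (carrier p).toMat s = toMat F m s := fun _ => rfl
    have htt : t' = ⟨A, hA'⟩ * t * (⟨A, hA'⟩ : symplecticGroup (Fin m) F)⁻¹ := by
      refine eq_mul_inv_iff_mul_eq.2 (Subtype.ext ?_)
      show (carrier p).toMat t' * A = A * (t : Matrix (Fin m ⊕ Fin m) (Fin m ⊕ Fin m) F)
      rw [ht, hA, Matrix.mul_smul, Matrix.mul_assoc, Units.inv_mul, Matrix.mul_one,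
        Matrix.smul_mul]
      rfl
    rw [htt, MulAut.conj_apply, QuotientGroup.mk_mul, QuotientGroup.mk_mul, QuotientGroup.mk_inv]
  · rintro ⟨y, hy⟩
    obtain ⟨s, rfl⟩ := QuotientGroup.mk_surjective y
    obtain ⟨gs, hgs, hs⟩ := (carrier p).mem_H s
    have hdel : (carrier p).delta ⟨gs, hgs⟩ = MulAut.conj (s : PSp m F) := by
      refine (carrier p).ind_unique hgs 1 ((carrier p).delta_spec ⟨gs, hgs⟩) ?_
      have h := (carrier p).rep.induced_toSemi s
      intro t t' ht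
      refine h t t' fun x => ?_
      rw [Rep.toSemi_M, Rep.toSemi_M, (carrier p).hρ, (carrier p).hρ, (carrier p).hρ,
        (carrier p).hρ, ht, ← hs, mulVec_mulVec, mulVec_mulVec, Matrix.mul_assoc, Units.inv_mul,
        Matrix.mul_one, show ((carrier p).toMat t).map (1 : F ≃+* F) = (carrier p).toMat t from rfl]
    have h1 : (carrier p).delta ((⟨gs, hgs⟩ : GSp m F)⁻¹ * g) = 1 := by
      erw [map_mul, map_inv, hdel]
      show _ * (twist p hm).δ g = 1
      rw [← hy, inv_mul_cancel]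
    obtain ⟨b, hb⟩ := ((carrier p).delta_eq_one_iff p (frame hm)).1 h1
    have hg : ((g : GL (Fin m ⊕ Fin m) F) : Matrix (Fin m ⊕ Fin m) (Fin m ⊕ Fin m) F) = b • (gs : Matrix (Fin m ⊕ Fin m) (Fin m ⊕ Fin m) F) := by
      have h2 := congrArg (fun M => (gs : Matrix (Fin m ⊕ Fin m) (Fin m ⊕ Fin m) F) * M) hb
      simp only [Subgroup.coe_mul, Subgroup.coe_inv, Units.val_mul, ← Matrix.mul_assoc,
        Units.mul_inv, Matrix.one_mul, Matrix.mul_smul, Matrix.mul_one] at h2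
      exact h2
    have hb0 : b ≠ 0 := by
      intro h0
      have hu : IsUnit (((g : GL (Fin m ⊕ Fin m) F)) : Matrix (Fin m ⊕ Fin m) (Fin m ⊕ Fin m) F) :=
        ⟨(g : GL (Fin m ⊕ Fin m) F), rfl⟩
      rw [hg, h0, zero_smul] at hu
      have : Nonempty (Fin m ⊕ Fin m) := ⟨.inl ⟨0, by omega⟩⟩
      exact not_isUnit_zero hu
    refine ⟨Units.mk0 b hb0, Units.ext ?_⟩
    rw [Units.val_pow_eq_pow_val, Units.val_mk0]
    refine (mult_unique hm g _ fun u v => ?_).symm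
    rw [hg, smul_mulVec, smul_mulVec, hs]
    show (space (F := F) (m := m)).h _ _ = _
    rw [Space.smul_left, Space.smul_right, sq, mul_assoc]
    show b * (b * sympForm m F _ _) = _
    rw [show sympForm m F ((carrier p).toMat s *ᵥ u) ((carrier p).toMat s *ᵥ v) = sympForm m F u v
      from mem_symplecticGroup_iff_form.1 s.2 u v]

/-- The inner-diagonal group has index `gcd(2, q - 1)` over the inner one. -/
theorem card_range (hm : 2 ≤ m) : Nat.card (twist (F := F) p hm).δ.range =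
    Nat.card (PSp m F) * Nat.gcd 2 (Nat.card F - 1) := by
  have h0 := Twist.card_range (A := Fˣ ⧸ (powMonoidHom 2 : Fˣ →* Fˣ).range) (twist (F := F) p hm)
    (nu F m hm) (fun g => nu_eq_one_iff p hm g)
  rw [h0, (carrier (F := F) (m := m) p).card_inn p (frame hm)]
  congr 1
  have hs : Function.Surjective (nu F m hm) :=
    (QuotientGroup.mk'_surjective _).comp (mult_surjective hm)
  rw [MonoidHom.range_eq_top.2 hs, Subgroup.card_top, ← Subgroup.index_eq_card,
    IsCyclic.index_powMonoidHom_range, Nat.card_units, Nat.gcd_comm]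

include p in
/-- The order of `Aut(PSp_{2m}(q))` outside the exceptional case. -/
theorem card_mulAut (hm : 2 ≤ m) (h : 3 ≤ m ∨ (2 : F) ≠ 0) :
    Nat.card (MulAut (PSp m F)) =
      Nat.card (PSp m F) * Nat.gcd 2 (Nat.card F - 1) * Nat.card (F ≃+* F) := by
  rw [Twist.card_eq (twist (F := F) p hm) (full_twist p hm h), card_range p hm]

end CfsgLib.ClassicalAut.Symp
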