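import Cfsg.Agent.Lib.ClassicalAut.Sp4Tau
import Cfsg.Agent.Lib.ClassicalAut.SympTwist

set_option autoImplicit false

/-!
Automorphisms of `PSp_4(2^f)`: the exceptional automorphism and the semilinear ones.
-/

namespace CfsgLib.ClassicalAut

open Subgroup

variable {F : Type*} [Field F] {V : Type*} [AddCommGroup V] [Module F V]
variable {S : Space F V} {G : Type*} [Group G]

theorem Space.exists_both_ne {W : Type*} [AddCommGroup W] {f g : W → F}
    (hf : ∀ x y, f (x + y) = f x + f y) (hg : ∀ x y, g (x + y) = g x + g y) {a b : W}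
    (ha : f a ≠ 0) (hb : g b ≠ 0) : ∃ z, f z ≠ 0 ∧ g z ≠ 0 := by
  by_cases h1 : g a = 0
  · by_cases h2 : f b = 0
    · exact ⟨a + b, by rw [hf, h2, add_zero]; exact ha, by rw [hg, h1, zero_add]; exact hb⟩
    · exact ⟨b, h2, hb⟩
  · exact ⟨a, ha, h1⟩

namespace Rep

variable (R : Rep S G) [CharP F 2]

theorem exists_move (hbar : ∀ a, S.bar a = a) (halt : ∀ v, S.h v v = 0) {v w : V}
    (hvw : S.h v w ≠ 0) :
    ∃ g, R.ρ g v = w ∧ ∀ x, S.h x (v + w) = 0 → R.ρ g x = x := by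
  obtain ⟨g, hg⟩ := R.root (v + w) 0 (S.h v w)⁻¹ (halt _) (S.zero_left _)
    (valid_of_alt hbar halt 0 _)
  refine ⟨g, ?_, fun x hx => ?_⟩
  · rw [hg, S.E_zero_apply, S.add_right, halt, zero_add, inv_mul_cancel₀ hvw, one_smul,
      ← add_assoc, show v + v = 0 by rw [← two_smul F v, CharTwo.two_eq_zero, zero_smul], zero_add]
  · rw [hg, S.E_zero_apply, hx, mul_zero, zero_smul, add_zero]

theorem exists_map_eq (hbar : ∀ a, S.bar a = a) (halt : ∀ v, S.h v v = 0) {v w : V}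
    (hv : v ≠ 0) (hw : w ≠ 0) : ∃ g, R.ρ g v = w := by
  obtain ⟨a, -, ha⟩ := S.exists_partner (halt v) hv
  obtain ⟨b, -, hb⟩ := S.exists_partner (halt w) hw
  obtain ⟨z, h1, h2⟩ := Space.exists_both_ne (f := fun x => S.h v x) (g := fun x => S.h w x)
    (fun x y => S.add_right v x y) (fun x y => S.add_right w x y) (a := a) (b := b)
    (by rw [ha]; exact one_ne_zero) (by rw [hb]; exact one_ne_zero)
  obtain ⟨g₁, hg₁, -⟩ := R.exists_move hbar halt h1
  obtain ⟨g₂, hg₂, -⟩ := R.exists_move hbar halt (show S.h z w ≠ 0 from fun h => h2 (S.eq_zero_symm h))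
  exact ⟨g₂ * g₁, by rw [map_mul, Module.End.mul_apply, hg₁, hg₂]⟩

theorem exists_map_W (Φ : Frame S) (hbar : ∀ a, S.bar a = a) (halt : ∀ v, S.h v v = 0)
    {w w' : Φ.W} (hw : w ≠ 0) (hw' : w' ≠ 0) :
    ∃ g, R.ρ g Φ.e = Φ.e ∧ R.ρ g (w : V) = w' := by
  obtain ⟨a, ha⟩ := Φ.exists_partner_W hw
  obtain ⟨b, hb⟩ := Φ.exists_partner_W hw'
  obtain ⟨z, h1, h2⟩ := Space.exists_both_ne (f := fun x : Φ.W => S.h (x : V) w)
    (g := fun x : Φ.W => S.h (x : V) w') (fun x y => S.add_left _ _ _) (fun x y => S.add_left _ _ _)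
    (a := a) (b := b) (by rw [ha]; exact one_ne_zero) (by rw [hb]; exact one_ne_zero)
  obtain ⟨g₁, hg₁, hf₁⟩ := R.exists_move hbar halt
    (show S.h (w : V) z ≠ 0 from fun h => h1 (S.eq_zero_symm h))
  obtain ⟨g₂, hg₂, hf₂⟩ := R.exists_move hbar halt h2
  refine ⟨g₂ * g₁, ?_, by rw [map_mul, Module.End.mul_apply, hg₁, hg₂]⟩
  rw [map_mul, Module.End.mul_apply, hf₁, hf₂] <;>
    rw [S.add_right, S.eq_zero_symm z.2.1] <;>
    simp [S.eq_zero_symm w.2.1, S.eq_zero_symm w'.2.1]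

variable [Finite F]

theorem exists_sq (t : F) : ∃ s, s * s = t := by
  obtain ⟨s, hs⟩ := FiniteField.isSquare_of_char_two (F := F) (ringChar.eq F 2) t
  exact ⟨s, hs.symm⟩

variable [Finite G]

/-- All transvections are conjugate. -/
theorem exists_conj_T (hbar : ∀ a, S.bar a = a) (halt : ∀ v, S.h v v = 0) {v v₀ : V}
    (hv : v ≠ 0) (hv₀ : v₀ ≠ 0) {x x₀ : G} (hx : x ∈ R.T v) (hx1 : x ≠ 1)
    (hx₀ : R.ρ x₀ = S.E v₀ 0 1) : ∃ g, x = g * x₀ * g⁻¹ := by
  obtain ⟨t, -, hρ⟩ := (R.mem_T (halt v)).1 hx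
  obtain ⟨s, hs⟩ := exists_sq t
  have hs0 : s ≠ 0 := fun h => hx1 (R.inj (by rw [hρ, ← hs, h, mul_zero, S.E_zero_zero, map_one]))
  obtain ⟨g, hg⟩ := R.exists_map_eq hbar halt hv₀ (smul_ne_zero hs0 hv)
  refine ⟨g, R.inj ?_⟩
  rw [R.conj_eq_E hx₀, map_zero, hg, hρ]
  refine LinearMap.ext fun y => ?_
  rw [S.E_zero_apply, S.E_zero_apply, S.smul_right, hbar, smul_smul, ← hs, one_mul]
  congr 2
  ring

/-- An automorphism maps transvections to transvections or to short root elements. -/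
theorem dichotomy (Φ : Frame S) [Finite V] (hbar : ∀ a, S.bar a = a) (halt : ∀ v, S.h v v = 0)
    {w₀ : Φ.W} (hw₀ : w₀ ≠ 0) {x₀ y₀ : G} (hx₀ : R.ρ x₀ = S.E Φ.e 0 1)
    (hy₀ : R.ρ y₀ = S.E Φ.e w₀ 0) (β : MulAut (G ⧸ center G)) :
    ∃ g, β (mkQ x₀) = mkQ g * mkQ x₀ * (mkQ g)⁻¹ ∨ β (mkQ x₀) = mkQ g * mkQ y₀ * (mkQ g)⁻¹ := by
  have hx₀T : x₀ ∈ R.T Φ.e := subset_closure ⟨1, valid_of_alt hbar halt 0 1, hx₀⟩
  have hx₀1 : x₀ ≠ 1 := fun h => one_ne_zero (α := F) ((S.eq_zero_of_E_eq Φ.hef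
    (S.zero_left _) (S.zero_left _) (show S.E Φ.e 0 1 = S.E Φ.e 0 0 by
      rw [← hx₀, h, map_one, S.E_zero_zero])).2)
  obtain ⟨g, y, w, t, himg, hyρ, -, hy1, hwt⟩ :=
    R.exists_image_two Φ hbar halt β Φ.e_ne hx₀T hx₀1
  rcases eq_or_ne w 0 with rfl | hw
  · have hy : y ∈ R.T Φ.e := subset_closure ⟨t, valid_of_alt hbar halt 0 t, hyρ⟩
    obtain ⟨k, rfl⟩ := R.exists_conj_T hbar halt Φ.e_ne Φ.e_ne hy hy1 hx₀
    refine ⟨g⁻¹ * k, Or.inl ?_⟩
    rw [himg]
    simp only [map_mul, map_inv, mul_inv_rev, inv_inv, mul_assoc]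
  · rw [hwt.resolve_left hw] at hyρ
    obtain ⟨k, hke, hkw⟩ := R.exists_map_W Φ hbar halt hw₀ hw
    have hy : y = k * y₀ * k⁻¹ := R.inj (by rw [R.conj_eq_E hy₀, hke, hkw, hyρ])
    refine ⟨g⁻¹ * k, Or.inr ?_⟩
    rw [himg, hy]
    simp only [map_mul, map_inv, mul_inv_rev, inv_inv, mul_assoc]

/-- An automorphism fixing the class of a transvection maps points to points. -/
theorem pointMap_of_class (Φ : Frame S) [Finite V] (hbar : ∀ a, S.bar a = a)
    (halt : ∀ v, S.h v v = 0) {x₀ : G} (hx₀ : R.ρ x₀ = S.E Φ.e 0 1)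
    {β : MulAut (G ⧸ center G)} {g : G} (hg : β (mkQ x₀) = mkQ g * mkQ x₀ * (mkQ g)⁻¹) :
    R.PointMap β := by
  have key : ∀ γ : MulAut (G ⧸ center G), (∃ g : G, γ (mkQ x₀) = mkQ g * mkQ x₀ * (mkQ g)⁻¹) →
      ∀ v, v ≠ 0 → ∀ x ∈ R.T v, x ≠ 1 → ∃ w, w ≠ 0 ∧ γ (mkQ x) ∈ R.Tb w := by
    rintro γ ⟨g, hg⟩ v hv x hx hx1
    obtain ⟨k, rfl⟩ := R.exists_conj_T hbar halt hv Φ.e_ne hx hx1 hx₀
    obtain ⟨k', hk'⟩ := mkQ_surjective (γ (mkQ k))
    refine ⟨R.ρ (k' * g) Φ.e, R.ρ_ne_zero _ Φ.e_ne, k' * g * x₀ * (k' * g)⁻¹,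
      R.conj_mem_T Φ.he (subset_closure ⟨1, valid_of_alt hbar halt 0 1, hx₀⟩) _, ?_⟩
    simp only [map_mul, map_inv, hk', hg, mul_inv_rev, mul_assoc]
  refine R.pointMap_two Φ hbar halt (key β ⟨g, hg⟩) (key β⁻¹ ?_)
  obtain ⟨k, hk⟩ := mkQ_surjective (β⁻¹ (mkQ g))
  refine ⟨k⁻¹, ?_⟩
  have h : mkQ x₀ = mkQ k * β⁻¹ (mkQ x₀) * (mkQ k)⁻¹ := by
    conv_lhs => rw [← β.symm_apply_apply (mkQ x₀), hg]
    rw [hk]
    show β⁻¹ _ = _
    rw [map_mul, map_mul, map_inv]
  rw [map_inv, inv_inv]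
  conv_rhs => rw [h]
  simp [mul_assoc]

end Rep

namespace Sp4

open Matrix Cfsg

variable (F : Type*) [Field F] [Finite F] [CharP F 2]

/-- The exceptional endomorphism as an automorphism. -/
noncomputable def tauEquiv : MulAut (symplecticGroup (Fin 2) F) :=
  MulEquiv.ofBijective tauHom (Finite.injective_iff_bijective.1 tauHom_injective)

/-- The exceptional automorphism of `PSp_4(2^f)`. -/
noncomputable def tau : MulAut (PSp 2 F) :=
  QuotientGroup.congr _ _ (tauEquiv F)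
    (Subgroup.characteristic_iff_map_eq.mp inferInstance (tauEquiv F))

variable {F}

theorem tau_mk (s : symplecticGroup (Fin 2) F) : tau F (s : PSp 2 F) = (tauHom s : PSp 2 F) := rfl

theorem tau_comm (σ : F ≃+* F) :
    Commute (tau F) ((Symp.twist 2 (le_refl 2)).φ σ) := by
  set φ := (Symp.twist (F := F) 2 (le_refl 2)).φ σ with hφ
  have hspec : ∀ s s' : symplecticGroup (Fin 2) F,
      (s' : Matrix I4 I4 F) = (s : Matrix I4 I4 F).map σ → φ (s : PSp 2 F) = (s' : PSp 2 F) :=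
    (Symp.std_iff 2 (le_refl 2) σ φ).2 rfl
  refine MulEquiv.ext fun x => ?_
  obtain ⟨s, rfl⟩ := QuotientGroup.mk_surjective x
  obtain ⟨s', hs'⟩ : ∃ s' : symplecticGroup (Fin 2) F,
      (s' : Matrix I4 I4 F) = (s : Matrix I4 I4 F).map σ := by
    refine ⟨⟨(s : Matrix I4 I4 F).map σ, Symp.mem_symplecticGroup_iff_form.2 fun u v => ?_⟩, rfl⟩
    obtain ⟨u, rfl⟩ : ∃ u' : I4 → F, (fun i => σ (u' i)) = u :=
      ⟨fun i => σ.symm (u i), funext fun i => σ.apply_symm_apply _⟩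
    obtain ⟨v, rfl⟩ : ∃ v' : I4 → F, (fun i => σ (v' i)) = v :=
      ⟨fun i => σ.symm (v i), funext fun i => σ.apply_symm_apply _⟩
    show sympForm 2 F ((s : Matrix I4 I4 F).map σ *ᵥ fun i => σ (u i))
      ((s : Matrix I4 I4 F).map σ *ᵥ fun i => σ (v i)) = _
    rw [← map_comp_mulVec, ← map_comp_mulVec, Symp.sympForm_map, Symp.sympForm_map,
      Symp.mem_symplecticGroup_iff_form.1 s.2]
  show tau F (φ s) = φ (tau F s)
  rw [hspec s s' hs', tau_mk, tau_mk]
  refine (hspec _ _ ?_).symm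
  rw [tauHom_coe, tauHom_coe, hs', tauMat_map]

variable (F) in
/-- The frame at `e_{l₀}`. -/
def frame : Frame (Symp.space (F := F) (m := 2)) where
  e := Pi.single (.inl 0) 1
  f := Pi.single (.inr 0) 1
  he := Symp.sympForm_self _
  hf := Symp.sympForm_self _
  hef := by
    show sympForm 2 F _ _ = 1
    rw [Symp.sympForm_single_inr, CharTwo.neg_eq]; simp
  nontriv := ⟨Pi.single (.inl 1) 1, by simp, by
    show sympForm 2 F _ _ = 0
    rw [Symp.sympForm_single_inl]; simp, by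
    show sympForm 2 F _ _ = 0
    rw [Symp.sympForm_single_inr]; simp⟩

/-- The short vector. -/
def shortVec : (frame F).W := ⟨Pi.single (.inl 1) 1, by
    show sympForm 2 F _ _ = 0
    rw [show (frame F).e = Pi.single (.inl 0) 1 from rfl, Symp.sympForm_single_inl]; simp, by
    show sympForm 2 F _ _ = 0
    rw [show (frame F).f = Pi.single (.inr 0) 1 from rfl, Symp.sympForm_single_inr]; simp⟩

theorem shortVec_ne : shortVec (F := F) ≠ 0 := fun h => by
  simpa [shortVec] using congrFun (congrArg Subtype.val h) (.inl 1)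

/-- A transvection matrix. -/
def long (t : F) : Matrix I4 I4 F := 1 + Matrix.single (.inl 0) (.inr 0) t

theorem long_mem (t : F) : long t ∈ symplecticGroup (Fin 2) F := by
  rw [SymplecticGroup.mem_iff]
  ext i j
  fin_cases i <;> fin_cases j <;>
    simp [long, Matrix.mul_apply, J, fromBlocks, Matrix.one_apply, Matrix.single_apply,
      Fintype.sum_sum_type, Fin.sum_univ_two, CharTwo.add_self_eq_zero, CharTwo.neg_eq]

/-- A transvection. -/
def longElt (t : F) : symplecticGroup (Fin 2) F := ⟨long t, long_mem t⟩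

theorem tau_long (t : F) : tauMat (long t) =
    1 + Matrix.single (.inl 0) (.inr 1) t + Matrix.single (.inl 1) (.inr 0) t := by
  ext i j
  fin_cases i <;> fin_cases j <;>
    simp [long, tauMat_apply, per, pair, Matrix.one_apply, Matrix.single_apply]

theorem tau_tau_long (t : F) : tauMat (tauMat (long t)) = long (t ^ 2) := by
  rw [tau_long]
  ext i j
  fin_cases i <;> fin_cases j <;>
    simp [long, tauMat_apply, per, pair, Matrix.one_apply, Matrix.single_apply, sq]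

theorem rho_long : (Symp.rep (F := F) (m := 2) 2).ρ (longElt 1) =
    (Symp.space (F := F) (m := 2)).E (frame F).e 0 1 := by
  refine LinearMap.ext fun x => ?_
  rw [Space.E_zero_apply]
  show long (1 : F) *ᵥ x = x + (1 * sympForm 2 F x (Pi.single (.inl 0) 1)) • Pi.single (.inl 0) 1
  rw [Symp.sympForm_single_inl, long, add_mulVec, one_mulVec, one_mul]
  ext i
  fin_cases i <;> simp [Matrix.mulVec, dotProduct, Matrix.single_apply]

theorem rho_short : (Symp.rep (F := F) (m := 2) 2).ρ (tauHom (longElt 1)) =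
    (Symp.space (F := F) (m := 2)).E (frame F).e (shortVec (F := F)) 0 := by
  refine LinearMap.ext fun x => ?_
  rw [Rep.hA_two, zero_mul, zero_smul, add_zero]
  show tauMat (long (1 : F)) *ᵥ x = x + sympForm 2 F x (Pi.single (.inl 0) 1) • Pi.single (.inl 1) 1 +
    sympForm 2 F x (Pi.single (.inl 1) 1) • Pi.single (.inl 0) 1
  rw [Symp.sympForm_single_inl, Symp.sympForm_single_inl, tau_long, add_mulVec, add_mulVec,
    one_mulVec]
  ext i
  fin_cases i <;> simp [Matrix.mulVec, dotProduct, Matrix.single_apply]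

theorem exists_semilinear_of_pointMap {β : MulAut (PSp 2 F)}
    (hβ : (Symp.rep (F := F) (m := 2) 2).PointMap β) :
    ∃ (h : GSp 2 F) (σ : F ≃+* F),
      β = (Symp.twist 2 (le_refl 2)).δ h * (Symp.twist 2 (le_refl 2)).φ σ := by
  obtain ⟨hd, hk⟩ := Symp.dense_and_kill (F := F) (m := 2) (le_refl 2) 2
  obtain ⟨s, hs⟩ := (Symp.rep (F := F) (m := 2) 2).exists_semi_two (fun _ => rfl)
    Symp.sympForm_self hd hk hβ
  exact Carrier.exists_form (C := Symp.carrier (F := F) (m := 2) 2) hs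

/-- Every automorphism of `PSp_4(2^f)` is semilinear or semilinear after the exceptional one. -/
theorem exists_decomp (β : MulAut (PSp 2 F)) :
    ∃ (h : GSp 2 F) (σ : F ≃+* F) (ω : MulAut (PSp 2 F)), (ω = 1 ∨ ω = (tau F)⁻¹) ∧
      β = (Symp.twist 2 (le_refl 2)).δ h * (Symp.twist 2 (le_refl 2)).φ σ * ω := by
  set R := Symp.rep (F := F) (m := 2) 2
  obtain ⟨g, hg | hg⟩ := R.dichotomy (frame F) (fun _ => rfl) Symp.sympForm_self shortVec_ne
    rho_long rho_short β⁻¹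
  · have hP := R.pointMap_of_class (frame F) (fun _ => rfl) Symp.sympForm_self rho_long hg
    obtain ⟨h, σ, hh⟩ := exists_semilinear_of_pointMap hP
    refine ⟨(Symp.twist 2 (le_refl 2)).act σ⁻¹ h⁻¹, σ⁻¹, 1, Or.inl rfl, ?_⟩
    rw [mul_one, ← Twist.φ_mul_δ, map_inv, map_inv, ← _root_.mul_inv_rev, ← hh, inv_inv]
  · have hP : R.PointMap ((tau F)⁻¹ * β⁻¹) := by
      obtain ⟨k, hk⟩ := Rep.mkQ_surjective ((tau F)⁻¹ (Rep.mkQ g))
      refine R.pointMap_of_class (frame F) (fun _ => rfl) Symp.sympForm_self rho_long (g := k) ?_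
      rw [MulAut.mul_apply, hg, map_mul, map_mul, map_inv, hk]
      congr 2
      exact (tau F).symm_apply_apply (Rep.mkQ (longElt 1))
    obtain ⟨h, σ, hh⟩ := exists_semilinear_of_pointMap hP
    refine ⟨(Symp.twist 2 (le_refl 2)).act σ⁻¹ h⁻¹, σ⁻¹, (tau F)⁻¹, Or.inr rfl, ?_⟩
    rw [← Twist.φ_mul_δ, map_inv, map_inv, ← _root_.mul_inv_rev, ← _root_.mul_inv_rev, ← hh,
      mul_inv_cancel_left, inv_inv]

theorem conj_mem (h : GSp 2 F) {L : Matrix I4 I4 F} (hL : L ∈ symplecticGroup (Fin 2) F) :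
    ((h : GL I4 F) : Matrix I4 I4 F) * L * ((((h : GL I4 F))⁻¹ : GL I4 F) : Matrix I4 I4 F) ∈
      symplecticGroup (Fin 2) F :=
  Symp.mem_symplecticGroup_iff_form.2 fun u v => by
    rw [← mulVec_mulVec, ← mulVec_mulVec, ← mulVec_mulVec, ← mulVec_mulVec,
      Symp.mult_spec (le_refl 2) h, Symp.mem_symplecticGroup_iff_form.1 hL,
      ← Symp.mult_spec (le_refl 2) h, mulVec_mulVec, mulVec_mulVec, Units.mul_inv, one_mulVec,
      one_mulVec]

/-- The exceptional automorphism is not semilinear. -/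
theorem tau_ne (h : GSp 2 F) (σ : F ≃+* F) :
    tau F ≠ (Symp.twist 2 (le_refl 2)).δ h * (Symp.twist 2 (le_refl 2)).φ σ := by
  intro e
  have hind := ((Symp.carrier (F := F) (m := 2) 2).ind_eq (g := h)).2 e
  set G : Matrix I4 I4 F := ((h : GL I4 F) : Matrix I4 I4 F)
  set G' : Matrix I4 I4 F := ((((h : GL I4 F))⁻¹ : GL I4 F) : Matrix I4 I4 F)
  have h1 : (long (1 : F)).map σ = long 1 := by
    ext i j
    simp only [long, map_apply, Matrix.add_apply, Matrix.one_apply, Matrix.single_apply, map_add]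
    split_ifs <;> simp
  obtain ⟨s', hs'⟩ : ∃ s' : symplecticGroup (Fin 2) F,
      (s' : Matrix I4 I4 F) = G * long 1 * G' := ⟨⟨_, conj_mem h (long_mem 1)⟩, rfl⟩
  have h2 := hind (longElt 1) s' (by
    show (s' : Matrix I4 I4 F) = _
    rw [hs']
    show G * long 1 * G' = G * (long (1 : F)).map σ * G'
    rw [h1])
  rw [tau_mk] at h2
  have h3 := (Symp.rep (F := F) (m := 2) 2).mkQ_injective (frame F) (fun _ => rfl) h2
  have h4 : (1 + Matrix.single (.inl 0) (.inr 1) (1 : F) + Matrix.single (.inl 1) (.inr 0) 1) * G =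
      G * long 1 := by
    rw [← tau_long, show tauMat (long (1 : F)) =
      ((tauHom (longElt 1) : symplecticGroup (Fin 2) F) : Matrix I4 I4 F) from rfl, h3, hs',
      Matrix.mul_assoc, Units.inv_mul,
      Matrix.mul_one]
  rw [long, Matrix.add_mul, Matrix.add_mul, Matrix.one_mul, Matrix.mul_add, Matrix.mul_one,
    add_assoc, add_left_cancel_iff] at h4
  have e1 : ∀ j, G (.inr 1) j = if j = .inr 0 then G (.inl 0) (.inl 0) else 0 := fun j => by
    have h5 := congrFun (congrFun h4 (.inl 0)) j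
    rw [Matrix.add_apply, Matrix.mul_apply, Matrix.mul_apply, Matrix.mul_apply] at h5
    simp only [Matrix.single_apply, Fintype.sum_sum_type, Fin.sum_univ_two] at h5
    fin_cases j <;> simp at h5 ⊢ <;> linear_combination h5
  have e2 : ∀ j, G (.inr 0) j = if j = .inr 0 then G (.inl 1) (.inl 0) else 0 := fun j => by
    have h5 := congrFun (congrFun h4 (.inl 1)) j
    rw [Matrix.add_apply, Matrix.mul_apply, Matrix.mul_apply, Matrix.mul_apply] at h5
    simp only [Matrix.single_apply, Fintype.sum_sum_type, Fin.sum_univ_two] at h5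
    fin_cases j <;> simp at h5 ⊢ <;> linear_combination h5
  have hGG : G * G' = 1 := Units.mul_inv _
  have f1 := congrFun (congrFun hGG (.inr 1)) (.inr 1)
  have f2 := congrFun (congrFun hGG (.inr 0)) (.inr 0)
  have f3 := congrFun (congrFun hGG (.inr 0)) (.inr 1)
  simp [Matrix.mul_apply, e1, e2, Matrix.one_apply] at f1 f2 f3
  rcases f3 with h0 | h0
  · simp [h0] at f2
  · simp [h0] at f1

/-- The square of the exceptional automorphism acts through the Frobenius. -/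
theorem sigma_of_tau_sq {h : GSp 2 F} {σ : F ≃+* F}
    (e : tau F * tau F = (Symp.twist 2 (le_refl 2)).δ h * (Symp.twist 2 (le_refl 2)).φ σ) (t : F) :
    σ t = t ^ 2 := by
  have hind := ((Symp.carrier (F := F) (m := 2) 2).ind_eq (g := h)).2 e
  set G : Matrix I4 I4 F := ((h : GL I4 F) : Matrix I4 I4 F)
  set G' : Matrix I4 I4 F := ((((h : GL I4 F))⁻¹ : GL I4 F) : Matrix I4 I4 F)
  have key : ∀ t : F, long (t ^ 2) * G = G * long (σ t) := by
    intro t
    have hmap : (long t).map σ = long (σ t) := by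
      ext i j
      simp only [long, map_apply, Matrix.add_apply, Matrix.one_apply, Matrix.single_apply, map_add]
      split_ifs <;> simp
    obtain ⟨s', hs'⟩ : ∃ s' : symplecticGroup (Fin 2) F,
        (s' : Matrix I4 I4 F) = G * long (σ t) * G' := ⟨⟨_, conj_mem h (long_mem _)⟩, rfl⟩
    have h2 := hind (longElt t) s' (by
      show (s' : Matrix I4 I4 F) = G * (long t).map σ * G'
      rw [hs', hmap])
    rw [MulAut.mul_apply, tau_mk, tau_mk] at h2
    have h3 := congrArg Subtype.val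
      ((Symp.rep (F := F) (m := 2) 2).mkQ_injective (frame F) (fun _ => rfl) h2)
    rw [tauHom_coe, tauHom_coe, show ((longElt t : symplecticGroup (Fin 2) F) : Matrix I4 I4 F) =
      long t from rfl, tau_tau_long, hs'] at h3
    rw [h3, Matrix.mul_assoc, Units.inv_mul, Matrix.mul_one]
  have hk : ∀ t j, t ^ 2 * G (.inr 0) j = if j = .inr 0 then σ t * G (.inl 0) (.inl 0) else 0 :=
    fun t j => by
    have h3 := key t
    rw [long, long, Matrix.add_mul, Matrix.one_mul, Matrix.mul_add, Matrix.mul_one,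
      add_left_cancel_iff] at h3
    have h4 := congrFun (congrFun h3 (.inl 0)) j
    rw [Matrix.mul_apply, Matrix.mul_apply] at h4
    simp only [Matrix.single_apply, Fintype.sum_sum_type, Fin.sum_univ_two] at h4
    fin_cases j <;> simp at h4 ⊢ <;> first | exact h4 | linear_combination h4
  have h1 := hk 1 (.inr 0)
  simp at h1
  have hne : G (.inl 0) (.inl 0) ≠ 0 := by
    intro h0
    have hrow : ∀ j, G (.inr 0) j = 0 := fun j => by
      have h5 := hk 1 j
      simpa [h0] using h5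
    have f := congrFun (congrFun (Units.mul_inv (h : GL I4 F)) (.inr 0)) (.inr 0)
    change (G * G') _ _ = _ at f
    simp [Matrix.mul_apply, hrow] at f
  have h2 := hk t (.inr 0)
  simp [h1, hne] at h2
  exact h2.symm

end Sp4

end CfsgLib.ClassicalAut
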