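import Cfsg.Agent.Lib.ClassicalAut.Symplectic

set_option autoImplicit false

/-!
The exceptional endomorphism of `Sp_4(F)` in characteristic two: the action on `ω^⊥ / ⟨ω⟩` inside
the exterior square, written in a basis of four decomposable vectors.
-/

namespace CfsgLib.ClassicalAut.Sp4

open Matrix

/-- Index set of `Sp_4`. -/
abbrev I4 : Type := Fin 2 ⊕ Fin 2

variable {F : Type*} [Field F]

/-- The four pairs of indices. -/
def pair : I4 → I4 × I4
  | .inl 0 => (.inl 0, .inl 1)
  | .inr 0 => (.inr 0, .inr 1)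
  | .inl 1 => (.inl 0, .inr 1)
  | .inr 1 => (.inl 1, .inr 0)

theorem pair_P : pair (.inl 0) = (.inl 0, .inl 1) := rfl
theorem pair_P' : pair (.inr 0) = (.inr 0, .inr 1) := rfl
theorem pair_R : pair (.inl 1) = (.inl 0, .inr 1) := rfl
theorem pair_R' : pair (.inr 1) = (.inl 1, .inr 0) := rfl

/-- A two by two minor, in characteristic two. -/
def per (A : Matrix I4 I4 F) (a b c d : I4) : F := A a c * A b d + A a d * A b c

/-- The matrix of minors. -/
def tauMat (A : Matrix I4 I4 F) : Matrix I4 I4 F :=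
  Matrix.of fun i j => per A (pair i).1 (pair i).2 (pair j).1 (pair j).2

theorem tauMat_apply (A : Matrix I4 I4 F) (i j : I4) :
    tauMat A i j = per A (pair i).1 (pair i).2 (pair j).1 (pair j).2 := rfl

theorem tauMat_transpose (A : Matrix I4 I4 F) : tauMat Aᵀ = (tauMat A)ᵀ := by
  ext i j
  simp only [tauMat_apply, per, transpose_apply]
  ring

theorem tauMat_map (σ : F ≃+* F) (A : Matrix I4 I4 F) :
    tauMat (A.map σ) = (tauMat A).map σ := by
  ext i j
  simp [tauMat_apply, per]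

theorem tauMat_one : tauMat (1 : Matrix I4 I4 F) = 1 := by
  ext i j
  fin_cases i <;> fin_cases j <;> simp [tauMat_apply, per, pair, Matrix.one_apply]

variable [CharP F 2]

theorem tauMat_J : tauMat (J (Fin 2) F) = J (Fin 2) F := by
  ext i j
  fin_cases i <;> fin_cases j <;>
    simp [tauMat_apply, per, pair, J, fromBlocks, CharTwo.neg_eq]

theorem row_sum {A : Matrix I4 I4 F} (hA : A ∈ symplecticGroup (Fin 2) F) (a b : I4) :
    per A a b (.inl 0) (.inr 0) + per A a b (.inl 1) (.inr 1) = J (Fin 2) F a b := by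
  have h := congrFun (congrFun (SymplecticGroup.mem_iff.1 hA) a) b
  rw [← h]
  simp [Matrix.mul_apply, J, per, fromBlocks, Fintype.sum_sum_type, Fin.sum_univ_two,
    Matrix.one_apply, CharTwo.neg_eq]
  ring

theorem col_sum {A : Matrix I4 I4 F} (hA : A ∈ symplecticGroup (Fin 2) F) (c d : I4) :
    per A (.inl 0) (.inr 0) c d + per A (.inl 1) (.inr 1) c d = J (Fin 2) F c d := by
  rw [← row_sum (SymplecticGroup.transpose_mem hA) c d]
  simp only [per, transpose_apply]
  ring

omit [CharP F 2] in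
theorem J_pair (i : I4) : J (Fin 2) F (pair i).1 (pair i).2 = 0 := by
  fin_cases i <;> simp [pair, J, fromBlocks]

theorem tauMat_mul {A B : Matrix I4 I4 F} (hA : A ∈ symplecticGroup (Fin 2) F)
    (hB : B ∈ symplecticGroup (Fin 2) F) : tauMat (A * B) = tauMat A * tauMat B := by
  ext i j
  have hr := (row_sum hA (pair i).1 (pair i).2).trans (J_pair i)
  have hc := (col_sum hB (pair j).1 (pair j).2).trans (J_pair j)
  simp only [tauMat_apply, Matrix.mul_apply, Fintype.sum_sum_type, Fin.sum_univ_two, pair_P,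
    pair_P', pair_R, pair_R', per] at hr hc ⊢
  set a := (pair i).1
  set b := (pair i).2
  set c := (pair j).1
  set d := (pair j).2
  linear_combination (B (.inl 0) c * B (.inr 0) d + B (.inl 0) d * B (.inr 0) c) * hr +
    (A a (.inl 1) * A b (.inr 1) + A a (.inr 1) * A b (.inl 1)) * hc +
    (A a (.inl 0) * A b (.inl 0) * B (.inl 0) c * B (.inl 0) d +
      A a (.inl 1) * A b (.inl 1) * B (.inl 1) c * B (.inl 1) d +
      A a (.inr 0) * A b (.inr 0) * B (.inr 0) c * B (.inr 0) d +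
      A a (.inr 1) * A b (.inr 1) * B (.inr 1) c * B (.inr 1) d -
      (A a (.inl 1) * A b (.inr 1) + A a (.inr 1) * A b (.inl 1)) *
        (B (.inl 0) c * B (.inr 0) d + B (.inl 0) d * B (.inr 0) c)) *
      CharTwo.two_eq_zero (R := F)

theorem tauMat_mem {A : Matrix I4 I4 F} (hA : A ∈ symplecticGroup (Fin 2) F) :
    tauMat A ∈ symplecticGroup (Fin 2) F := by
  have hJ := SymplecticGroup.J_mem (l := Fin 2) (R := F)
  have hT := SymplecticGroup.transpose_mem hA
  refine SymplecticGroup.mem_iff.2 ?_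
  conv_lhs => rw [← tauMat_J, ← tauMat_transpose, ← tauMat_mul hA hJ,
    ← tauMat_mul (mul_mem hA hJ) hT, SymplecticGroup.mem_iff.1 hA, tauMat_J]

/-- The exceptional endomorphism. -/
def tauHom : symplecticGroup (Fin 2) F →* symplecticGroup (Fin 2) F where
  toFun A := ⟨tauMat (A : Matrix I4 I4 F), tauMat_mem A.2⟩
  map_one' := Subtype.ext tauMat_one
  map_mul' A B := Subtype.ext (tauMat_mul A.2 B.2)

theorem tauHom_coe (A : symplecticGroup (Fin 2) F) :
    ((tauHom A : symplecticGroup (Fin 2) F) : Matrix I4 I4 F) = tauMat (A : Matrix I4 I4 F) := rfl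

theorem cramer {a b c d x y : F} (h : a * d + b * c = 1) (h₁ : a * y + b * x = 0)
    (h₂ : c * y + d * x = 0) : x = 0 ∧ y = 0 :=
  ⟨by linear_combination (-x) * h + a * h₂ + c * h₁ - a * c * y * CharTwo.two_eq_zero (R := F),
    by linear_combination (-y) * h + b * h₂ + d * h₁ - b * d * x * CharTwo.two_eq_zero (R := F)⟩

theorem plucker {a b c d a' b' c' d' : F} (h₁ : c * d' + c' * d = 0)
    (h₂ : a * d' + a' * d = 0) (hp : a * c' + a' * c + (b * d' + b' * d) = 0) :
    a * c' + a' * c = 0 ∧ b * d' + b' * d = 0 := by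
  have h : (a * c' + a' * c) ^ 2 = 0 := by
    linear_combination (a * c' + a' * c) * hp - (a * b' + a' * b) * h₁ -
      (b * c' + b' * c) * h₂ +
      (a * b' * c * d' + a' * b * c' * d) * CharTwo.two_eq_zero (R := F)
  have h0 := pow_eq_zero_iff two_ne_zero |>.1 h
  exact ⟨h0, by rw [h0, zero_add] at hp; exact hp⟩

theorem eq_one_of_tauMat {A : Matrix I4 I4 F} (hA : A ∈ symplecticGroup (Fin 2) F)
    (h : tauMat A = 1) : A = 1 := by
  have e := fun i j => congrFun (congrFun h i) j
  have hPP := e (.inl 0) (.inl 0)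
  have hQP := e (.inr 0) (.inl 0)
  have hRP := e (.inl 1) (.inl 0)
  have hSP := e (.inr 1) (.inl 0)
  have hPQ := e (.inl 0) (.inr 0)
  have hQQ := e (.inr 0) (.inr 0)
  have hRQ := e (.inl 1) (.inr 0)
  have hSQ := e (.inr 1) (.inr 0)
  have hRR := e (.inl 1) (.inl 1)
  have hSR := e (.inr 1) (.inl 1)
  have hRS := e (.inl 1) (.inr 1)
  have hSS := e (.inr 1) (.inr 1)
  have h01 := col_sum hA (.inl 0) (.inl 1)
  have h23 := col_sum hA (.inr 0) (.inr 1)
  have h03 := col_sum hA (.inl 0) (.inr 1)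
  have h12 := col_sum hA (.inl 1) (.inr 0)
  have h02 := col_sum hA (.inl 0) (.inr 0)
  simp [tauMat_apply, per, pair, J, fromBlocks, Matrix.one_apply, CharTwo.neg_eq]
    at hPP hQP hRP hSP hPQ hQQ hRQ hSQ hRR hSR hRS hSS h01 h23 h03 h12 h02
  obtain ⟨hu, hu'⟩ := plucker (b := A (.inl 1) (.inl 0)) (b' := A (.inl 1) (.inl 1)) hQP hRP h01
  obtain ⟨x20, x21⟩ := cramer hPP hu hSP
  obtain ⟨x30, x31⟩ := cramer hPP hRP hu'
  have hv : A (.inl 0) (.inr 0) * A (.inr 0) (.inr 1) + A (.inl 0) (.inr 1) * A (.inr 0) (.inr 0) = 0 ∧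
      A (.inl 1) (.inr 0) * A (.inr 1) (.inr 1) + A (.inl 1) (.inr 1) * A (.inr 1) (.inr 0) = 0 := by
    have hv0 : (A (.inl 0) (.inr 0) * A (.inr 0) (.inr 1) +
        A (.inl 0) (.inr 1) * A (.inr 0) (.inr 0)) ^ 2 = 0 := by
      linear_combination (A (.inl 0) (.inr 0) * A (.inr 0) (.inr 1) +
        A (.inl 0) (.inr 1) * A (.inr 0) (.inr 0)) * h23 -
        (A (.inr 0) (.inr 0) * A (.inr 1) (.inr 1) + A (.inr 0) (.inr 1) * A (.inr 1) (.inr 0)) * hPQ -
        (A (.inl 1) (.inr 0) * A (.inr 0) (.inr 1) + A (.inl 1) (.inr 1) * A (.inr 0) (.inr 0)) * hRQ +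
        (A (.inl 0) (.inr 0) * A (.inl 1) (.inr 1) * A (.inr 0) (.inr 0) * A (.inr 1) (.inr 1) +
          A (.inl 0) (.inr 1) * A (.inl 1) (.inr 0) * A (.inr 0) (.inr 1) * A (.inr 1) (.inr 0)) *
          CharTwo.two_eq_zero (R := F)
    have h0 := pow_eq_zero_iff two_ne_zero |>.1 hv0
    exact ⟨h0, by rw [h0, zero_add] at h23; exact h23⟩
  obtain ⟨x02, x03⟩ := cramer (x := A (.inl 0) (.inr 0)) (y := A (.inl 0) (.inr 1)) hQQ
    (by linear_combination hv.1) (by linear_combination hRQ)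
  obtain ⟨x12, x13⟩ := cramer (x := A (.inl 1) (.inr 0)) (y := A (.inl 1) (.inr 1)) hQQ
    (by linear_combination hSQ) (by linear_combination hv.2)
  simp only [x20, x21, x30, x31, x02, x03, x12, x13, mul_zero, zero_mul, add_zero, zero_add]
    at hRR hSR hRS hSS h03 h12 h02
  have hy : A (.inl 0) (.inl 0) * A (.inr 0) (.inr 1) = 0 := by
    rcases mul_eq_zero.1 hSR with h0 | h0
    · simpa [h0] using h03
    · simp [h0]
  have hy' : A (.inl 0) (.inl 1) * A (.inr 0) (.inr 0) = 0 := by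
    rcases mul_eq_zero.1 hRS with h0 | h0
    · simp [h0]
    · simpa [h0] using h12
  have x00 : A (.inl 0) (.inl 0) ≠ 0 := left_ne_zero_of_mul (by rw [hRR]; exact one_ne_zero)
  have x22 : A (.inr 0) (.inr 0) ≠ 0 := right_ne_zero_of_mul (by rw [hSS]; exact one_ne_zero)
  have x23 := (mul_eq_zero.1 hy).resolve_left x00
  have x01 := (mul_eq_zero.1 hy').resolve_right x22
  rw [x23, mul_zero, zero_add, mul_eq_zero] at h03
  have x10 := h03.resolve_right (right_ne_zero_of_mul (by rw [hRR]; exact one_ne_zero))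
  rw [x01, zero_mul, zero_add, mul_eq_zero] at h12
  have x32 := h12.resolve_left (left_ne_zero_of_mul (by rw [hSS]; exact one_ne_zero))
  simp only [x01, zero_mul, add_zero] at hPP
  simp only [x10, zero_mul, add_zero] at h02
  simp only [x23, zero_mul, add_zero] at hQQ
  have x11 : A (.inl 1) (.inl 1) = 1 := by
    have h1 : (A (.inl 1) (.inl 1) + 1) ^ 2 = 0 := by
      linear_combination hSS +
        A (.inl 1) (.inl 1) * (A (.inr 0) (.inr 0) * hPP - A (.inl 1) (.inl 1) * h02) +
        (A (.inl 1) (.inl 1) + 1) * CharTwo.two_eq_zero (R := F)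
    exact CharTwo.add_eq_zero.1 (pow_eq_zero_iff two_ne_zero |>.1 h1)
  simp only [x11, one_mul, mul_one] at hPP hSS
  simp only [hPP, one_mul] at hRR
  ext i j
  fin_cases i <;> fin_cases j <;>
    simp [x20, x21, x30, x31, x02, x03, x12, x13, x23, x01, x10, x32, x11, hPP, hSS, hRR,
      Matrix.one_apply]

theorem tauHom_injective : Function.Injective (tauHom (F := F)) := by
  rw [injective_iff_map_eq_one]
  exact fun A hA => Subtype.ext (eq_one_of_tauMat A.2 (congrArg Subtype.val hA))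

end CfsgLib.ClassicalAut.Sp4
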