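import Mathlib

set_option autoImplicit false

/-!
Reflexive sesquilinear spaces with enough isotropic vectors, the elations attached to an isotropic
vector and semisimilarities.
-/

namespace CfsgLib.ClassicalAut

/-- A nondegenerate alternating or Hermitian form, in the generality needed for the elations. -/
structure Space (F : Type*) [Field F] (V : Type*) [AddCommGroup V] [Module F V] where
  bar : F ≃+* F
  bar_bar : ∀ x, bar (bar x) = x
  ε : F
  ε_sq : ε * ε = 1
  h : V → V → F
  add_left : ∀ u v w, h (u + v) w = h u w + h v w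
  smul_left : ∀ (a : F) u v, h (a • u) v = a * h u v
  swap : ∀ u v, h v u = ε * bar (h u v)
  nondeg : ∀ v, (∀ u, h u v = 0) → v = 0
  tr : ∀ v, ∃ t, h v v + ε * t + bar t = 0
  skew_ne : ∃ t, t ≠ 0 ∧ ε * t + bar t = 0

namespace Space

variable {F : Type*} [Field F] {V : Type*} [AddCommGroup V] [Module F V] (S : Space F V)

theorem ε_cases : S.ε = 1 ∨ S.ε = -1 := mul_self_eq_one_iff.1 S.ε_sq

theorem bar_ε : S.bar S.ε = S.ε := by rcases S.ε_cases with h | h <;> simp [h]

theorem map_ε (κ : F ≃+* F) : κ S.ε = S.ε := by rcases S.ε_cases with h | h <;> simp [h]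

theorem ε_ne_zero : S.ε ≠ 0 := by rcases S.ε_cases with h | h <;> simp [h]

theorem add_right (u v w : V) : S.h u (v + w) = S.h u v + S.h u w := by
  rw [S.swap (v + w) u, S.add_left, map_add, mul_add, ← S.swap, ← S.swap]

theorem smul_right (a : F) (u v : V) : S.h u (a • v) = S.bar a * S.h u v := by
  rw [S.swap (a • v) u, S.smul_left, map_mul, mul_left_comm, ← S.swap]

theorem zero_left (v : V) : S.h 0 v = 0 := by rw [← zero_smul F (0 : V), S.smul_left, zero_mul]

theorem zero_right (v : V) : S.h v 0 = 0 := by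
  rw [← zero_smul F (0 : V), S.smul_right, map_zero, zero_mul]

theorem neg_left (u v : V) : S.h (-u) v = -S.h u v := by rw [← neg_one_smul F u, S.smul_left, neg_one_mul]

theorem sub_left (u v w : V) : S.h (u - v) w = S.h u w - S.h v w := by
  rw [sub_eq_add_neg, S.add_left, S.neg_left, sub_eq_add_neg]

theorem sub_right (u v w : V) : S.h u (v - w) = S.h u v - S.h u w := by
  rw [eq_sub_iff_add_eq, ← S.add_right, sub_add_cancel]

theorem eq_zero_symm {u v : V} (h : S.h u v = 0) : S.h v u = 0 := by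
  rw [S.swap, h, map_zero, mul_zero]

theorem nondeg' {v : V} (h : ∀ u, S.h v u = 0) : v = 0 :=
  S.nondeg v fun u => S.eq_zero_symm (h u)

theorem exists_ne (e : V) (he : e ≠ 0) : ∃ v, S.h v e = 1 := by
  by_contra hc
  refine he (S.nondeg e fun u => ?_)
  by_contra hu
  exact hc ⟨(S.h u e)⁻¹ • u, by rw [S.smul_left, inv_mul_cancel₀ hu]⟩

/-- Every skew parameter is of the form `y - ε ȳ`; this fails for alternating forms in
characteristic two. -/
def SkewSurj : Prop := ∀ t, S.ε * t + S.bar t = 0 → ∃ y, y - S.ε * S.bar y = t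

theorem exists_not_fixed (hs' : S.SkewSurj) : ∃ y, y - S.ε * S.bar y ≠ 0 := by
  obtain ⟨t, ht, hs⟩ := S.skew_ne
  obtain ⟨y, hy⟩ := hs' t hs
  exact ⟨y, by rwa [hy]⟩

/-- The parameters of an elation. -/
def Valid (u : V) (t : F) : Prop := S.h u u + S.ε * t + S.bar t = 0

theorem valid_zero_iff {t : F} : S.Valid 0 t ↔ S.ε * t + S.bar t = 0 := by
  rw [Valid, S.zero_left, zero_add]

theorem valid_zero_zero : S.Valid 0 0 := by simp [valid_zero_iff]

theorem Valid.skew_sub {u : V} {t t' : F} (h : S.Valid u t) (h' : S.Valid u t') :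
    S.Valid 0 (t - t') := by
  rw [valid_zero_iff, map_sub]
  unfold Valid at h h'
  linear_combination h - h'

theorem Valid.add_skew {u : V} {t s : F} (h : S.Valid u t) (h' : S.Valid 0 s) :
    S.Valid u (t + s) := by
  rw [valid_zero_iff] at h'
  unfold Valid at h ⊢
  rw [map_add]
  linear_combination h + h'

/-- The elation `x ↦ x + h(x,e) u - ε h(x,u) e + t h(x,e) e`. -/
def E (e u : V) (t : F) : Module.End F V where
  toFun x := x + S.h x e • u - (S.ε * S.h x u) • e + (t * S.h x e) • e
  map_add' x y := by simp only [S.add_left]; module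
  map_smul' a x := by simp only [S.smul_left, RingHom.id_apply]; module

theorem E_apply (e u : V) (t : F) (x : V) :
    S.E e u t x = x + S.h x e • u - (S.ε * S.h x u) • e + (t * S.h x e) • e := rfl

theorem E_zero_apply (e : V) (t : F) (x : V) : S.E e 0 t x = x + (t * S.h x e) • e := by
  rw [E_apply, S.zero_right, mul_zero, zero_smul, smul_zero, add_zero, sub_zero]

theorem E_zero_zero (e : V) : S.E e 0 0 = 1 :=
  LinearMap.ext fun x => by rw [E_zero_apply, zero_mul, zero_smul, add_zero]; rfl

theorem E_apply_of_perp {e u : V} (t : F) {x : V} (hx : S.h x e = 0) :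
    S.E e u t x = x - (S.ε * S.h x u) • e := by
  rw [E_apply, hx]; simp

theorem E_apply_self {e u : V} (he : S.h e e = 0) (hu : S.h u e = 0) (t : F) :
    S.E e u t e = e := by
  rw [S.E_apply_of_perp t he, S.eq_zero_symm hu]; simp

theorem E_apply_partner {e f u : V} (hef : S.h e f = 1) (hu : S.h f u = 0) (t : F) :
    S.E e u t f = f + S.ε • u + (t * S.ε) • e := by
  rw [E_apply, hu, S.swap e f, hef]; simp

theorem E_mul {e u v : V} (he : S.h e e = 0) (hu : S.h u e = 0) (hv : S.h v e = 0) (t s : F) :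
    S.E e u t * S.E e v s = S.E e (u + v) (t + s - S.ε * S.h v u) := by
  refine LinearMap.ext fun x => ?_
  show S.E e u t (S.E e v s x) = _
  simp only [E_apply, S.add_left, S.sub_left, S.smul_left, S.add_right, hv, he, S.eq_zero_symm hu]
  module

theorem E_smul (e u : V) (t a : F) :
    S.E (a • e) u t = S.E e (S.bar a • u) (a * S.bar a * t) := by
  refine LinearMap.ext fun x => ?_
  simp only [E_apply, S.smul_right, S.bar_bar]
  module

theorem E_add_self {e : V} (u : V) (t c : F) :
    S.E e (u + c • e) t = S.E e u (t + c - S.ε * S.bar c) := by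
  refine LinearMap.ext fun x => ?_
  simp only [E_apply, S.add_right, S.smul_right]
  module

theorem Valid.mul {e u v : V} (hu : S.h u e = 0) (hv : S.h v e = 0) {t s : F}
    (ht : S.Valid u t) (hs : S.Valid v s) :
    S.h (u + v) e = 0 ∧ S.Valid (u + v) (t + s - S.ε * S.h v u) := by
  refine ⟨by rw [S.add_left, hu, hv, add_zero], ?_⟩
  unfold Valid at ht hs ⊢
  rw [S.add_left, S.add_right, S.add_right, map_sub, map_add, map_mul, S.bar_ε, ← S.swap v u]
  linear_combination ht + hs - S.h v u * S.ε_sq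

theorem E_pow {e u : V} (he : S.h e e = 0) (hu : S.h u e = 0) {t : F} (ht : S.Valid u t) (k : ℕ) :
    ∃ s, S.E e u t ^ k = S.E e ((k : F) • u) s ∧ S.Valid ((k : F) • u) s := by
  induction k with
  | zero => exact ⟨0, by simp [E_zero_zero], by simpa using S.valid_zero_zero⟩
  | succ k ih =>
    obtain ⟨s, hs, hv⟩ := ih
    have hku : S.h ((k : F) • u) e = 0 := by rw [S.smul_left, hu, mul_zero]
    refine ⟨s + t - S.ε * S.h u ((k : F) • u), ?_, ?_⟩
    · rw [pow_succ, hs, S.E_mul he hku hu, Nat.cast_succ, add_smul, one_smul]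
    · have h := (Valid.mul S hku hu hv ht).2
      rwa [Nat.cast_succ, add_smul, one_smul]

/-- A bijective semisimilarity. -/
structure Semi where
  M : V ≃+ V
  κ : F ≃+* F
  k : F
  k_ne : k ≠ 0
  bar_k : S.bar k = k
  bar_κ : ∀ a, S.bar (κ a) = κ (S.bar a)
  map_smul : ∀ (a : F) x, M (a • x) = κ a • M x
  map_h : ∀ x y, S.h (M x) (M y) = k * κ (S.h x y)

variable {S}

theorem Semi.map_E (m : S.Semi) (e u : V) (t : F) (x : V) :
    m.M (S.E e u t x) = S.E (m.M e) (m.k⁻¹ • m.M u) (m.k⁻¹ * m.κ t) (m.M x) := by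
  have hk := m.k_ne
  simp only [E_apply, map_add, map_sub, m.map_smul, map_mul, S.map_ε, m.map_h, S.smul_right,
    map_inv₀, m.bar_k, smul_smul]
  match_scalars <;> field_simp

theorem Semi.isotropic (m : S.Semi) {e : V} (he : S.h e e = 0) : S.h (m.M e) (m.M e) = 0 := by
  rw [m.map_h, he, map_zero, mul_zero]

theorem Semi.perp (m : S.Semi) {u e : V} (hu : S.h u e = 0) :
    S.h (m.k⁻¹ • m.M u) (m.M e) = 0 := by
  rw [S.smul_left, m.map_h, hu, map_zero, mul_zero, mul_zero]

theorem Semi.valid (m : S.Semi) {u : V} {t : F} (h : S.Valid u t) :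
    S.Valid (m.k⁻¹ • m.M u) (m.k⁻¹ * m.κ t) := by
  have h' := congrArg m.κ h
  rw [map_add, map_add, map_mul, S.map_ε, map_zero] at h'
  unfold Valid
  rw [S.smul_left, S.smul_right, m.map_h, map_mul, map_inv₀, m.bar_k, m.bar_κ]
  have hk := m.k_ne
  field_simp
  linear_combination h'

/-- The inverse semisimilarity. -/
def Semi.symm (m : S.Semi) : S.Semi where
  M := m.M.symm
  κ := m.κ.symm
  k := m.κ.symm m.k⁻¹
  k_ne := by simp [m.k_ne]
  bar_k := m.κ.injective (by rw [← m.bar_κ, RingEquiv.apply_symm_apply, map_inv₀, m.bar_k])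
  bar_κ a := m.κ.injective (by rw [← m.bar_κ, RingEquiv.apply_symm_apply, RingEquiv.apply_symm_apply])
  map_smul a x := m.M.injective (by
    rw [m.map_smul, AddEquiv.apply_symm_apply, AddEquiv.apply_symm_apply, RingEquiv.apply_symm_apply])
  map_h x y := m.κ.injective (by
    have h := m.map_h (m.M.symm x) (m.M.symm y)
    rw [AddEquiv.apply_symm_apply, AddEquiv.apply_symm_apply] at h
    rw [map_mul, RingEquiv.apply_symm_apply, RingEquiv.apply_symm_apply, h,
      inv_mul_cancel_left₀ m.k_ne])

/-- Composition of semisimilarities. -/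
def Semi.trans (m n : S.Semi) : S.Semi where
  M := m.M.trans n.M
  κ := m.κ.trans n.κ
  k := n.k * n.κ m.k
  k_ne := mul_ne_zero n.k_ne (by simp [m.k_ne])
  bar_k := by rw [map_mul, n.bar_k, n.bar_κ, m.bar_k]
  bar_κ a := by simp [n.bar_κ, m.bar_κ]
  map_smul a x := by simp [m.map_smul, n.map_smul]
  map_h x y := by simp [n.map_h, m.map_h, mul_assoc]

end Space

end CfsgLib.ClassicalAut
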