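import Cfsg.Agent.Lib.ClassicalAut.Rep

set_option autoImplicit false

/-!
Points as centres of Sylow subgroups; the elation group as an intersection of Sylow subgroups.
-/

namespace CfsgLib.ClassicalAut

open Subgroup

variable {F : Type*} [Field F] {V : Type*} [AddCommGroup V] [Module F V]

/-- A hyperbolic pair with non-zero common perpendicular. -/
structure Frame (S : Space F V) where
  e : V
  f : V
  he : S.h e e = 0
  hf : S.h f f = 0
  hef : S.h e f = 1
  nontriv : ∃ w, w ≠ 0 ∧ S.h w e = 0 ∧ S.h w f = 0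

namespace Frame

variable {S : Space F V} (Φ : Frame S)

theorem e_ne : Φ.e ≠ 0 := fun h => by simpa [h, S.zero_left] using Φ.hef

theorem f_ne : Φ.f ≠ 0 := fun h => by simpa [h, S.zero_right] using Φ.hef

theorem hfe : S.h Φ.f Φ.e = S.ε := by rw [S.swap, Φ.hef, map_one, mul_one]

/-- The perpendicular of the pair. -/
def W : Submodule F V where
  carrier := {x | S.h x Φ.e = 0 ∧ S.h x Φ.f = 0}
  add_mem' {x y} hx hy := ⟨by rw [S.add_left, hx.1, hy.1, add_zero],
    by rw [S.add_left, hx.2, hy.2, add_zero]⟩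
  zero_mem' := ⟨S.zero_left _, S.zero_left _⟩
  smul_mem' a x hx := ⟨by rw [S.smul_left, hx.1, mul_zero], by rw [S.smul_left, hx.2, mul_zero]⟩

/-- The projection onto `W`. -/
def π : V →ₗ[F] Φ.W := (S.proj Φ.e Φ.f).codRestrict Φ.W fun _ =>
  ⟨S.proj_left Φ.he Φ.hef, S.proj_right Φ.hf Φ.hef⟩

theorem π_coe (x : V) : (Φ.π x : V) = S.proj Φ.e Φ.f x := rfl

theorem π_W (w : Φ.W) : Φ.π (w : V) = w := Subtype.ext (S.proj_of_perp w.2.1 w.2.2)

theorem π_e : Φ.π Φ.e = 0 := by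
  apply Subtype.ext
  rw [Φ.π_coe, S.proj_apply, Φ.he, Φ.hef]
  simp

theorem decomp (x : V) :
    x = S.h x Φ.f • Φ.e + (S.ε * S.h x Φ.e) • Φ.f + (Φ.π x : V) := S.decomp _ _ x

instance : Nontrivial Φ.W :=
  let ⟨w, hw, h1, h2⟩ := Φ.nontriv
  ⟨⟨⟨w, h1, h2⟩, 0, fun h => hw (congrArg Subtype.val h)⟩⟩

/-- Any vector of `W` goes to any other under a linear map, given it is not zero. -/
theorem exists_linear {w : Φ.W} (hw : w ≠ 0) (v : Φ.W) : ∃ L : Module.End F Φ.W, L w = v := by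
  obtain ⟨φ, hφ⟩ := Module.Projective.exists_dual_ne_zero F hw
  exact ⟨φ.smulRight ((φ w)⁻¹ • v), by
    rw [LinearMap.smulRight_apply, smul_smul, mul_inv_cancel₀ hφ, one_smul]⟩

end Frame

/-- The centre of a subgroup as a subgroup of the whole group. -/
def cen {H : Type*} [Group H] (P : Subgroup H) : Subgroup H := P ⊓ centralizer P

theorem cen_map_equiv {H K : Type*} [Group H] [Group K] (β : H ≃* K) (P : Subgroup H) :
    cen (P.map β.toMonoidHom) = (cen P).map β.toMonoidHom := by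
  ext x
  obtain ⟨y, rfl⟩ := β.surjective x
  simp [cen, mem_centralizer_iff, ← map_mul, -MulEquiv.toMonoidHom_eq_coe]

namespace Rep

variable {S : Space F V} {G : Type*} [Group G] (R : Rep S G)

/-- The image of the transvection group in the projective group. -/
def Tb (e : V) : Subgroup (G ⧸ center G) := (R.T e).map mkQ

/-- The image of the elation group in the projective group. -/
def Qb (e : V) : Subgroup (G ⧸ center G) := (R.Q e).map mkQ

/-- The linear map induced on `W` by an element fixing both points, twisted by the parameter. -/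
def IsOp (Φ : Frame S) (g : G) (c : F) (L : Module.End F Φ.W) : Prop :=
  ∃ d : F, R.ρ g Φ.e = c • Φ.e ∧ R.ρ g Φ.f = d • Φ.f ∧
    ∀ u : Φ.W, (L u : V) = S.bar c • R.ρ g u

/-- The operators generate all endomorphisms of `W`. -/
def Dense (Φ : Frame S) : Prop :=
  AddSubgroup.closure {L : Module.End F Φ.W | ∃ g c, R.IsOp Φ g c L} = ⊤

/-- The only twisted invariant functional is zero. -/
def Kill (Φ : Frame S) : Prop :=
  ∀ L : Φ.W →+ F, (∀ u, S.ε * L u + S.bar (L u) = 0) →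
    (∀ g c op, R.IsOp Φ g c op → ∀ u, L (op u) = c * S.bar c * L u) → L = 0

variable [Finite G] (p : ℕ) [Fact p.Prime] [CharP F p]

omit [Finite G] in
theorem exists_ne_mem_T {e : V} (he : S.h e e = 0) :
    ∃ g ∈ R.T e, ∃ t, t ≠ 0 ∧ R.ρ g = S.E e 0 t := by
  obtain ⟨t, ht0, ht⟩ := S.skew_ne
  obtain ⟨g, hg, hρ⟩ := R.exists_mem_T he (S.valid_zero_iff.2 ht)
  exact ⟨g, hg, t, ht0, hρ⟩

variable [Finite V]

omit [Finite G] in
/-- A `p`-subgroup acting non-trivially fixes an isotropic point. -/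
theorem exists_fixed {P : Subgroup G} (hP : IsPGroup p P) (hne : ∃ g ∈ P, R.ρ g ≠ 1) :
    ∃ v : V, v ≠ 0 ∧ S.h v v = 0 ∧ ∀ g ∈ P, R.ρ g v = v := by
  set C : AddSubgroup V :=
    AddSubgroup.closure {x | ∃ g ∈ P, ∃ w, R.ρ g w - w = x} with hC
  have hstab : ∀ g ∈ P, ∀ x ∈ C, R.ρ g x ∈ C := by
    intro g hg x hx
    induction hx using AddSubgroup.closure_induction with
    | mem y hy =>
      obtain ⟨g', hg', w, rfl⟩ := hy
      rw [map_sub, ← Module.End.mul_apply, ← map_mul,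
        show R.ρ (g * g') w - R.ρ g w = (R.ρ (g * g') w - w) - (R.ρ g w - w) by abel]
      exact C.sub_mem (AddSubgroup.subset_closure ⟨_, P.mul_mem hg hg', w, rfl⟩)
        (AddSubgroup.subset_closure ⟨_, hg, w, rfl⟩)
    | zero => simp
    | add y z _ _ hy hz => rw [map_add]; exact C.add_mem hy hz
    | neg y _ hy => rw [map_neg]; exact C.neg_mem hy
  let act : MulAction P C :=
    { smul := fun g x => ⟨R.ρ g x, hstab g g.2 x x.2⟩
      one_smul := fun x => Subtype.ext (by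
        change R.ρ (1 : G) x = x
        rw [map_one]; rfl)
      mul_smul := fun g g' x => Subtype.ext (by
        change R.ρ ((g : G) * g') x = R.ρ g (R.ρ g' x)
        rw [map_mul]; rfl) }
  have hC0 : ∃ x : C, x ≠ 0 := by
    obtain ⟨g, hg, hg1⟩ := hne
    obtain ⟨w, hw⟩ := not_forall.1 fun h => hg1 (LinearMap.ext h)
    exact ⟨⟨R.ρ g w - w, AddSubgroup.subset_closure ⟨g, hg, w, rfl⟩⟩,
      fun h => hw (sub_eq_zero.1 (congrArg Subtype.val h))⟩
  have hp : p ∣ Nat.card C := by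
    obtain ⟨x, hx⟩ := hC0
    have hord : addOrderOf x = p := addOrderOf_eq_prime (Subtype.ext (by
      rw [AddSubgroup.coe_nsmul, ← Nat.cast_smul_eq_nsmul F, CharP.cast_eq_zero, zero_smul]
      rfl)) hx
    exact hord ▸ addOrderOf_dvd_natCard x
  obtain ⟨x, hx, hx0⟩ := hP.exists_fixed_point_of_prime_dvd_card_of_fixed_point C hp (a := 0)
    fun g => Subtype.ext (map_zero _)
  have hfix : ∀ g ∈ P, R.ρ g (x : V) = x := fun g hg => congrArg Subtype.val (hx ⟨g, hg⟩)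
  have hperp : ∀ y ∈ C, S.h (x : V) y = 0 := by
    intro y hy
    induction hy using AddSubgroup.closure_induction with
    | mem y hy =>
      obtain ⟨g, hg, w, rfl⟩ := hy
      have h := R.isom g x w
      rw [hfix g hg] at h
      rw [S.sub_right, h, sub_self]
    | zero => exact S.zero_right _
    | add y z _ _ hy hz => rw [S.add_right, hy, hz, add_zero]
    | neg y _ hy => rw [← zero_sub y, S.sub_right, S.zero_right, hy, sub_zero]
  exact ⟨x, fun h => hx0 (Subtype.ext h.symm), hperp x x.2, hfix⟩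

omit [Finite G] [Fact p.Prime] [CharP F p] [Finite V] in
theorem exists_of_mem_smul {P : Sylow p G} {x y : G} (hy : y ∈ x • P) :
    ∃ z ∈ P, x * z * x⁻¹ = y := by
  have hy' : y ∈ ((x • P : Sylow p G) : Subgroup G) := hy
  rw [Sylow.coe_subgroup_smul, Subgroup.mem_pointwise_smul_iff_inv_smul_mem] at hy'
  exact ⟨_, hy', by simp [mul_assoc]⟩

theorem sylow_fixes {e : V} (he : S.h e e = 0) (he0 : e ≠ 0) (P : Sylow p G) :
    ∃ v : V, v ≠ 0 ∧ S.h v v = 0 ∧ ∀ g ∈ P, R.ρ g v = v := by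
  obtain ⟨P₀, hP₀⟩ := (R.isPGroup_T p he).exists_le_sylow
  obtain ⟨g, hg, t, ht, hρ⟩ := R.exists_ne_mem_T he
  have hne : R.ρ g ≠ 1 := by
    intro h
    obtain ⟨f, -, hef⟩ := S.exists_partner he he0
    rw [hρ, ← S.E_zero_zero e] at h
    exact ht (S.eq_zero_of_E_eq hef (S.zero_left f) (S.zero_left f) h).2
  obtain ⟨v, hv0, hv, hfix⟩ := R.exists_fixed p P₀.isPGroup' ⟨g, hP₀ hg, hne⟩
  obtain ⟨x, rfl⟩ := MulAction.exists_smul_eq G P₀ P
  refine ⟨R.ρ x v, R.ρ_ne_zero x hv0, by rw [R.isom, hv], fun y hy => ?_⟩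
  obtain ⟨z, hz, rfl⟩ := exists_of_mem_smul p hy
  rw [← Module.End.mul_apply, ← map_mul, inv_mul_cancel_right, map_mul, Module.End.mul_apply,
    hfix z hz]

omit [Finite V] [Fact p.Prime] in
theorem Q_le_sylow {v : V} (hv : S.h v v = 0) (P : Sylow p G)
    (hfix : ∀ g ∈ P, R.ρ g v = v) : R.Q v ≤ P := by
  have hn : (P : Subgroup G) ≤ normalizer (R.Q v : Set G) := by
    intro g hg
    rw [mem_normalizer_iff]
    refine fun x => ⟨fun hx => ?_, fun hx => ?_⟩
    · have h := R.conj_mem_Q hv hx g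
      rwa [hfix g hg] at h
    · have h := R.conj_mem_Q hv hx g⁻¹
      rw [hfix g⁻¹ (P.inv_mem hg)] at h
      simpa [mul_assoc] using h
  have h := P.is_maximal' ((P.isPGroup').to_sup_of_normal_right' (R.isPGroup_Q p hv) hn) le_sup_left
  exact h ▸ le_sup_right

omit [Finite V] [Fact p.Prime] in
theorem T_le_cen {v : V} (hv : S.h v v = 0) (P : Sylow p G)
    (hfix : ∀ g ∈ P, R.ρ g v = v) : R.T v ≤ cen (P : Subgroup G) := fun x hx => by
  refine ⟨R.Q_le_sylow p hv P hfix (R.T_le_Q v hx), ?_⟩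
  obtain ⟨t, ht, hρ⟩ := (R.mem_T hv).1 hx
  intro g hg
  have h := R.conj_eq_E (g := g) hρ
  rw [hfix g hg, map_zero, ← hρ] at h
  exact mul_inv_eq_iff_eq_mul.1 (R.inj h)

omit [Finite V] in
theorem cen_sylow (hsk : S.SkewSurj) {v : V} (hv : S.h v v = 0) (hv0 : v ≠ 0) (P : Sylow p G)
  (hfix : ∀ g ∈ P, R.ρ g v = v) : cen (P : Subgroup G) = R.T v := by
  refine le_antisymm ?_ (R.T_le_cen p hv P hfix)
  rintro z ⟨hzP, hzC⟩
  have hzv := hfix z hzP
  refine (R.mem_T hv).2 (S.eq_E_of_fixes_perp hv hv0 (R.isom z) fun u hu => ?_)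
  obtain ⟨t, ht⟩ := S.tr u
  obtain ⟨g, hg, hρ⟩ := R.exists_mem_Q hv hu ht
  have hc : z * g * z⁻¹ = g := by
    rw [← hzC g (R.Q_le_sylow p hv P hfix hg), mul_inv_cancel_right]
  obtain ⟨f, -, hvf⟩ := S.exists_partner hv hv0
  have hfv : S.h f v = S.ε := by rw [S.swap, hvf, map_one, mul_one]
  obtain ⟨c, hc'⟩ : ∃ c : F, R.ρ z u = u + c • v := by
    have h := R.conj_eq_E (g := z) hρ
    rw [hc, hρ, hzv] at h
    have h1 := LinearMap.congr_fun h f
    rw [S.E_apply, S.E_apply, hfv] at h1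
    refine ⟨S.h f (R.ρ z u) - S.h f u, smul_right_injective V S.ε_ne_zero ?_⟩
    change S.ε • R.ρ z u = S.ε • (u + _)
    linear_combination (norm := module) -h1
  have hkey : ∀ a : F, a * c - S.ε * S.bar (a * c) = 0 := by
    intro a
    obtain ⟨t, ht⟩ := S.tr (a • u)
    have hau : S.h (a • u) v = 0 := by rw [S.smul_left, hu, mul_zero]
    obtain ⟨g, hg, hρ⟩ := R.exists_mem_Q hv hau ht
    have hc1 : z * g * z⁻¹ = g := by
      rw [← hzC g (R.Q_le_sylow p hv P hfix hg), mul_inv_cancel_right]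
    have h := R.conj_eq_E (g := z) hρ
    rw [hc1, hρ, hzv, map_smul, hc', smul_add, smul_smul, S.E_add_self] at h
    have h1 := LinearMap.congr_fun h f
    rw [S.E_apply, S.E_apply, hfv, ← sub_eq_zero] at h1
    have h2 : ((-(a * c - S.ε * S.bar (a * c))) * S.ε) • v = 0 := by
      rw [← h1]; module
    have h3 := (mul_eq_zero.1 ((smul_eq_zero.1 h2).resolve_right hv0)).resolve_right S.ε_ne_zero
    exact neg_eq_zero.1 h3
  obtain ⟨y, hy⟩ := S.exists_not_fixed hsk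
  have hc0 : c = 0 := by
    by_contra hc0
    exact hy (by simpa [hc0] using hkey (y * c⁻¹))
  rw [hc', hc0, zero_smul, add_zero]

theorem exists_sylow_fixing {v : V} (hv : S.h v v = 0) (hv0 : v ≠ 0) :
    ∃ P : Sylow p G, ∀ g ∈ P, R.ρ g v = v := by
  obtain ⟨P⟩ : Nonempty (Sylow p G) := inferInstance
  obtain ⟨w, hw0, hw, hfix⟩ := R.sylow_fixes p hv hv0 P
  obtain ⟨x, a, ha, hx⟩ := R.exists_map hw hw0 hv hv0
  refine ⟨x • P, fun y hy => ?_⟩
  obtain ⟨z, hz, rfl⟩ := exists_of_mem_smul p hy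
  have hv' : v = a⁻¹ • R.ρ x w := by rw [hx, inv_smul_smul₀ ha]
  rw [hv', map_smul, ← Module.End.mul_apply, ← map_mul, inv_mul_cancel_right, map_mul,
    Module.End.mul_apply, hfix z hz]

omit [Finite V] [Finite G] in
include R in
theorem cen_map {P : Subgroup G} (hP : IsPGroup p P) : cen (P.map mkQ) = (cen P).map mkQ := by
  refine le_antisymm ?_ ?_
  · rintro _ ⟨⟨x, hx, rfl⟩, hxc⟩
    refine ⟨x, ⟨hx, fun y hy => ?_⟩, rfl⟩
    have h := hxc (mkQ y) (mem_map_of_mem _ hy)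
    rw [← map_mul, ← map_mul] at h
    exact R.eq_of_mk_eq' p hP hP (P.mul_mem hy hx) (P.mul_mem hx hy) h
  · rintro _ ⟨x, ⟨hx, hxc⟩, rfl⟩
    refine ⟨mem_map_of_mem _ hx, ?_⟩
    rintro _ ⟨y, hy, rfl⟩
    rw [← map_mul, ← map_mul, hxc y hy]

theorem exists_point (hsk : S.SkewSurj) {e : V} (he : S.h e e = 0) (he0 : e ≠ 0) (P : Sylow p (G ⧸ center G)) :
    ∃ v : V, v ≠ 0 ∧ S.h v v = 0 ∧ cen (P : Subgroup (G ⧸ center G)) = R.Tb v := by
  obtain ⟨P₀, rfl⟩ := Sylow.mapSurjective_surjective mkQ_surjective p P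
  obtain ⟨v, hv0, hv, hfix⟩ := R.sylow_fixes p he he0 P₀
  refine ⟨v, hv0, hv, ?_⟩
  rw [Sylow.coe_mapSurjective, R.cen_map p P₀.isPGroup', R.cen_sylow p hsk hv hv0 P₀ hfix]
  rfl

theorem exists_sylow_point (hsk : S.SkewSurj) {v : V} (hv : S.h v v = 0) (hv0 : v ≠ 0) :
    ∃ P : Sylow p (G ⧸ center G), cen (P : Subgroup (G ⧸ center G)) = R.Tb v := by
  obtain ⟨P₀, hfix⟩ := R.exists_sylow_fixing p hv hv0
  refine ⟨P₀.mapSurjective mkQ_surjective, ?_⟩
  rw [Sylow.coe_mapSurjective, R.cen_map p P₀.isPGroup', R.cen_sylow p hsk hv hv0 P₀ hfix]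
  rfl

include p in
omit [Finite V] in
theorem point_eq {v w : V} (hv : S.h v v = 0) (hw : S.h w w = 0) (hw0 : w ≠ 0)
    (h : R.Tb v = R.Tb w) : ∃ a : F, a ≠ 0 ∧ w = a • v := by
  obtain ⟨g, hg, t, ht, hρ⟩ := R.exists_ne_mem_T hw
  obtain ⟨g', hg', hgg'⟩ : mkQ g ∈ R.Tb v := h ▸ mem_map_of_mem _ hg
  have heq := R.eq_of_mk_eq' p (R.isPGroup_T p hv) (R.isPGroup_T p hw) hg' hg hgg'
  obtain ⟨s, -, hρ'⟩ := (R.mem_T hv).1 hg'
  rw [heq, hρ] at hρ'
  obtain ⟨f, -, hwf⟩ := S.exists_partner hw hw0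
  have h1 := LinearMap.congr_fun hρ' f
  rw [S.E_zero_apply, S.E_zero_apply, add_left_cancel_iff] at h1
  have hfw : t * S.h f w ≠ 0 := mul_ne_zero ht (S.h_swap_ne (by rw [hwf]; exact one_ne_zero))
  refine ⟨(t * S.h f w)⁻¹ * (s * S.h f v), ?_, ?_⟩
  · intro h0
    rcases mul_eq_zero.1 h0 with h0 | h0
    · exact hfw (inv_eq_zero.1 h0)
    · rw [h0, zero_smul] at h1
      exact hw0 ((smul_eq_zero.1 h1).resolve_left hfw)
  · rw [mul_smul, ← h1, inv_smul_smul₀ hfw]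

include p in
omit [Finite V] in
theorem commute_iff {v w : V} (hv : S.h v v = 0) (hv0 : v ≠ 0) (hw : S.h w w = 0) :
    R.Tb v ≤ centralizer (R.Tb w : Set (G ⧸ center G)) ↔ S.h v w = 0 := by
  constructor
  · intro h
    by_contra hvw
    obtain ⟨y, hy, t, ht, hρ⟩ := R.exists_ne_mem_T hw
    obtain ⟨x, hx, s, hs, hρx⟩ := R.exists_ne_mem_T hv
    have hc := h (mem_map_of_mem mkQ hx) (mkQ y) (mem_map_of_mem mkQ hy)
    have hconj : mkQ (y * x * y⁻¹) = mkQ x := by
      rw [map_mul, map_mul, map_inv, hc, mul_inv_cancel_right]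
    have hyv : S.h (R.ρ y v) (R.ρ y v) = 0 := by rw [R.isom, hv]
    have heq := R.eq_of_mk_eq' p (R.isPGroup_T p hyv) (R.isPGroup_T p hv) (R.conj_mem_T hv hx y)
      hx hconj
    have h1 := R.conj_eq_E (g := y) hρx
    rw [heq, hρx, map_zero] at h1
    obtain ⟨f, -, hvf⟩ := S.exists_partner hv hv0
    have h2 := LinearMap.congr_fun h1 f
    rw [S.E_zero_apply, S.E_zero_apply, add_left_cancel_iff] at h2
    have hfv : s * S.h f v ≠ 0 := mul_ne_zero hs (S.h_swap_ne (by rw [hvf]; exact one_ne_zero))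
    have h3 : S.h ((s * S.h f v) • v) v = S.h ((s * S.h f (R.ρ y v)) • R.ρ y v) v := by rw [h2]
    rw [S.smul_left, S.smul_left, hv, hρ, S.E_zero_apply, S.add_left, hv, S.smul_left,
      mul_zero, zero_add] at h3
    rcases mul_eq_zero.1 h3.symm with h4 | h4
    · rw [hρ, S.E_zero_apply] at h2
      rw [h4, zero_smul] at h2
      exact hfv ((smul_eq_zero.1 h2).resolve_right hv0)
    · exact mul_ne_zero (mul_ne_zero ht hvw) (S.h_swap_ne hvw) h4
  · intro hvw
    rintro _ ⟨x, hx, rfl⟩ _ ⟨y, hy, rfl⟩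
    rw [← map_mul, ← map_mul]
    obtain ⟨s, -, hρx⟩ := (R.mem_T hv).1 hx
    obtain ⟨t, -, hρ⟩ := (R.mem_T hw).1 hy
    have h := R.conj_eq_E (g := y) hρx
    rw [map_zero, hρ, S.E_zero_apply, hvw, mul_zero, zero_smul, add_zero, ← hρx] at h
    rw [mul_inv_eq_iff_eq_mul.1 (R.inj h)]

/-- The intersection of the Sylow subgroups belonging to a point. -/
def core (e : V) : Subgroup (G ⧸ center G) :=
  ⨅ P : {P : Sylow p (G ⧸ center G) // R.Tb e ≤ cen (P : Subgroup (G ⧸ center G))},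
    (P.1 : Subgroup (G ⧸ center G))

omit [Finite V] in
theorem Qb_le_core {e : V} (he : S.h e e = 0) (he0 : e ≠ 0) : R.Qb e ≤ R.core p e := by
  refine le_iInf ?_
  rintro ⟨P, hP⟩
  obtain ⟨P₀, rfl⟩ := Sylow.mapSurjective_surjective mkQ_surjective p P
  rw [Sylow.coe_mapSurjective, R.cen_map p P₀.isPGroup'] at hP
  rw [Sylow.coe_mapSurjective, Qb]
  refine map_mono (R.Q_le_sylow p he P₀ fun g hg => ?_)
  obtain ⟨x, hx, t, ht, hρ⟩ := R.exists_ne_mem_T he
  obtain ⟨x', ⟨hx'P, hx'c⟩, hxx'⟩ := hP (mem_map_of_mem mkQ hx)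
  have hxeq := R.eq_of_mk_eq' p P₀.isPGroup' (R.isPGroup_T p he) hx'P hx hxx'
  subst hxeq
  have hconj : g * x' * g⁻¹ = x' := by rw [hx'c g hg, mul_inv_cancel_right]
  have h := R.conj_eq_E (g := g) hρ
  rw [hconj, hρ, map_zero] at h
  obtain ⟨f, -, hef⟩ := S.exists_partner he he0
  have h1 := LinearMap.congr_fun h f
  rw [S.E_zero_apply, S.E_zero_apply, add_left_cancel_iff] at h1
  have hfe : t * S.h f e ≠ 0 := mul_ne_zero ht (S.h_swap_ne (by rw [hef]; exact one_ne_zero))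
  set b := t * S.h f (R.ρ g e) with hb
  have hb0 : b ≠ 0 := fun h0 => by
    rw [h0, zero_smul] at h1
    exact hfe ((smul_eq_zero.1 h1).resolve_right he0)
  obtain ⟨c, hc⟩ : ∃ c : F, R.ρ g e = c • e :=
    ⟨b⁻¹ * (t * S.h f e), by rw [mul_smul, h1, inv_smul_smul₀ hb0]⟩
  obtain ⟨k, hk⟩ := P₀.isPGroup' ⟨g, hg⟩
  have hk' : g ^ p ^ k = 1 := congrArg Subtype.val hk
  have hpow : ∀ n : ℕ, R.ρ (g ^ n) e = c ^ n • e := fun n => by
    induction n with
    | zero => simp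
    | succ n ih => rw [pow_succ', map_mul, Module.End.mul_apply, ih, map_smul, hc, smul_smul, pow_succ]
  have h2 := hpow (p ^ k)
  rw [hk', map_one, Module.End.one_apply] at h2
  have hc1 : c ^ p ^ k = 1 := smul_left_injective F he0 (h2.symm.trans (one_smul F e).symm)
  have hc0 : c = 1 := by
    refine sub_eq_zero.1 ((pow_eq_zero_iff (pow_ne_zero k (Fact.out : p.Prime).ne_zero)).1 ?_)
    rw [sub_pow_char_pow, hc1, one_pow, sub_self]
  rw [hc, hc0, one_smul]

end Rep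

end CfsgLib.ClassicalAut
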