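import Cfsg.Agent.Lib.ClassicalAut.SympCases
import Cfsg.Agent.Lib.ClassicalAut.TwistDescent
import Cfsg.Agent.Lib.AutPSL.Classes
import Cfsg.Agent.Lib.Classical.Forms

set_option autoImplicit false

/-!
Field automorphisms of prime order of `PSp_{2m}(q)`.
-/

namespace CfsgLib.ClassicalAut.Symp

open Matrix Cfsg CfsgLib.AutPSL

universe u v

variable {F : Type u} [Field F] {m : ℕ}

/-- The index set. -/
abbrev Idx (m : ℕ) : Type := Fin m ⊕ Fin m

theorem form_iff {A : Matrix (Idx m) (Idx m) F} {c : F} :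
    (∀ u v, sympForm m F (A *ᵥ u) (A *ᵥ v) = c * sympForm m F u v) ↔
      Aᵀ * J (Fin m) F * A = c • J (Fin m) F := by
  classical
  have h : ∀ u v, sympForm m F (A *ᵥ u) (A *ᵥ v) = u ⬝ᵥ ((Aᵀ * J (Fin m) F * A) *ᵥ v) := fun u v => by
    rw [sympForm, ← mulVec_mulVec, ← mulVec_mulVec, Matrix.dotProduct_mulVec u Aᵀ, vecMul_transpose]
  have h' : ∀ u v, c * sympForm m F u v = u ⬝ᵥ ((c • J (Fin m) F) *ᵥ v) := fun u v => by
    rw [sympForm, smul_mulVec, dotProduct_smul, smul_eq_mul]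
  constructor
  · intro hA
    ext i j
    have h1 := hA (Pi.single i 1) (Pi.single j 1)
    rw [h, h'] at h1
    simpa using h1
  · intro hA u v
    rw [h, h', hA]

theorem form_single {A : Matrix (Idx m) (Idx m) F} (i j : Idx m) :
    sympForm m F (A *ᵥ Pi.single i 1) (A *ᵥ Pi.single j 1) = (Aᵀ * J (Fin m) F * A) i j := by
  classical
  rw [sympForm, ← Matrix.vecMul_transpose A (Pi.single i 1), ← Matrix.dotProduct_mulVec,
    mulVec_mulVec, mulVec_mulVec]
  simp

theorem mem_GSp_mat {g : GL (Idx m) F} : g ∈ GSp m F ↔ ∃ c : Fˣ,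
    (g : Matrix (Idx m) (Idx m) F)ᵀ * J (Fin m) F * (g : Matrix (Idx m) (Idx m) F) =
      (c : F) • J (Fin m) F :=
  mem_GSp_iff.trans (exists_congr fun _ => form_iff)

theorem map_J {K : Type v} [Field K] (f : K →+* F) : (J (Fin m) K).map f = J (Fin m) F := by
  ext i j
  rcases i with i | i <;> rcases j with j | j <;>
    simp [J, fromBlocks, Matrix.one_apply, apply_ite f]

theorem scal_mem (c : Fˣ) : scal c ∈ GSp m F := by
  refine mem_GSp_mat.2 ⟨c * c, ?_⟩
  rw [scal_coe, Matrix.transpose_smul, Matrix.transpose_one, Matrix.smul_mul, Matrix.one_mul,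
    Matrix.smul_mul, Matrix.mul_smul, Matrix.mul_one, smul_smul, Units.val_mul]

theorem mult_scal (hm : 2 ≤ m) (c : Fˣ) : mult F m hm ⟨scal c, scal_mem c⟩ = c * c := by
  refine Units.ext (mult_unique hm _ _ fun u v => ?_)
  show sympForm m F (((scal c : GL (Idx m) F) : Matrix (Idx m) (Idx m) F) *ᵥ u) _ = _
  rw [scal_coe, smul_mulVec, smul_mulVec, one_mulVec, one_mulVec]
  show (space (F := F) (m := m)).h _ _ = _
  rw [Space.smul_left, Space.smul_right, Units.val_mul, mul_assoc]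
  rfl

variable [Fintype F] (p : ℕ) [Fact p.Prime] [CharP F p]

include p in
theorem exists_field_rep {f : ℕ} (hF : Fintype.card F = p ^ f) (hf : 1 ≤ f) (hm : 2 ≤ m)
    {x : MulAut (PSp m F)} (hx : IsFieldAutClassPSp x) :
    ∃ (a : GSp m F) (σ : F ≃+* F), σ ≠ 1 ∧
      x = (twist p hm).δ a * (twist p hm).φ σ * ((twist p hm).δ a)⁻¹ ∧
        orderOf x = orderOf σ := by
  obtain ⟨α, σ, hσ, hstd⟩ := hx
  obtain ⟨a, τ, ω, hα, hω⟩ := exists_decomp p hm α⁻¹
  have hc : Commute τ σ := by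
    obtain ⟨hcyc, -⟩ := card_ringAut_isCyclic hF hf
    obtain ⟨g, hg⟩ := hcyc.exists_generator
    obtain ⟨i, rfl⟩ := hg τ
    obtain ⟨j, rfl⟩ := hg σ
    exact (Commute.refl g).zpow_zpow i j
  have hx' := (twist p hm).exists_rep hc hα (hω σ) ((std_iff p hm σ _).1 hstd)
  refine ⟨a, σ, hσ, hx', ?_⟩
  rw [hx', ← (twist p hm).orderOf_φ σ]
  exact MulEquiv.orderOf_eq (MulAut.conj ((twist p hm).δ a)) _

include p in
/-- Vanishing of the first cohomology. -/
theorem exists_cobound_eq (hm : 2 ≤ m) {σ : F ≃+* F} {r : ℕ} (hr : 0 < r) (hσ : orderOf σ = r)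
    {d : GSp m F} (hd : (twist p hm).δ ((twist p hm).tnorm σ d r) = 1) :
    ∃ k : GSp m F, (twist p hm).δ d = (twist p hm).δ (k * ((twist p hm).act σ k)⁻¹) := by
  classical
  have : Nonempty (Idx m) := ⟨.inl ⟨0, by omega⟩⟩
  obtain ⟨d', h, hdd, hdh⟩ := (carrier (F := F) (m := m) p).exists_cobound p (frame hm) hr
    (fun c _ hc => let ⟨e, he⟩ := exists_unorm_eq hr hσ c hc; ⟨e, scal_mem e, he⟩) hσ hd
  set H := (h : Matrix (Idx m) (Idx m) F) with hH
  set μ := mult F m hm d'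
  have hσh : H.map σ = (((d' : GL (Idx m) F)⁻¹ : GL (Idx m) F) : Matrix (Idx m) (Idx m) F) * H := by
    rw [← Carrier.mapUnit_coe, hdh, _root_.mul_inv_rev, inv_inv, Units.val_mul, hH,
      Units.inv_mul_cancel_right]
  -- the pulled back form commutes with `σ` up to `μ`
  have hB : ∀ u v, σ (sympForm m F (H *ᵥ u) (H *ᵥ v)) = ((μ⁻¹ : Fˣ) : F) *
      sympForm m F (H *ᵥ fun i => σ (u i)) (H *ᵥ fun i => σ (v i)) := by
    intro u v
    rw [← sympForm_map, map_comp_mulVec, map_comp_mulVec, hσh, ← mulVec_mulVec, ← mulVec_mulVec]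
    have h1 := mult_spec hm d'⁻¹ (H *ᵥ fun i => σ (u i)) (H *ᵥ fun i => σ (v i))
    rw [show mult F m hm (d'⁻¹) = μ⁻¹ from map_inv (mult F m hm) d'] at h1
    exact h1
  have hinj : ∀ v, H *ᵥ v = 0 → v = 0 := fun v hv => by
    have := congrArg (fun w => ((h⁻¹ : GL (Idx m) F) : Matrix (Idx m) (Idx m) F) *ᵥ w) hv
    simpa [hH, mulVec_mulVec] using this
  set i₀ : Fin m := ⟨0, by omega⟩
  obtain ⟨j₀, hj₀⟩ : ∃ j : Idx m, sympForm m F (H *ᵥ Pi.single (.inl i₀) 1) (H *ᵥ Pi.single j 1) ≠ 0 := by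
    by_contra hc
    push Not at hc
    have h0 : H *ᵥ Pi.single (.inl i₀) 1 = 0 := (space (F := F) (m := m)).nondeg' fun w => by
      obtain ⟨w, rfl⟩ : ∃ w', H *ᵥ w' = w :=
        ⟨((h⁻¹ : GL (Idx m) F) : Matrix (Idx m) (Idx m) F) *ᵥ w, by simp [hH, mulVec_mulVec]⟩
      show sympForm m F _ _ = 0
      rw [pi_eq_sum_univ' w, mulVec_sum]
      simp only [mulVec_smul]
      rw [sympForm, mulVec_sum, dotProduct_sum]
      refine Finset.sum_eq_zero fun j _ => ?_
      rw [mulVec_smul, dotProduct_smul]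
      show _ • sympForm m F _ _ = 0
      rw [hc, smul_zero]
    exact one_ne_zero (α := F) (by simpa using congrFun (hinj _ h0) (.inl i₀))
  set ν := sympForm m F (H *ᵥ Pi.single (.inl i₀) 1) (H *ᵥ Pi.single j₀ 1) with hν
  have hνσ : σ ν = ((μ⁻¹ : Fˣ) : F) * ν := by
    rw [hν, hB]
    congr 3 <;> funext i <;> simp [Pi.single_apply, apply_ite σ]
  let K := fixedField σ
  let emb : (Idx m → K) → (Idx m → F) := fun x i => ((x i : K) : F)
  have hval : ∀ x y : Idx m → K, sympForm m F (H *ᵥ emb x) (H *ᵥ emb y) / ν ∈ K := fun x y => by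
    rw [mem_fixedField, map_div₀, hB, hνσ]
    rw [show (fun i => σ (emb x i)) = emb x from funext fun i => (x i).2,
      show (fun i => σ (emb y i)) = emb y from funext fun i => (y i).2]
    exact mul_div_mul_left _ _ (Units.ne_zero _)
  let B₀ : LinearMap.BilinForm K (Idx m → K) := LinearMap.mk₂ K
    (fun x y => ⟨_, hval x y⟩)
    (fun x y z => Subtype.ext (by
      show _ / ν = _ / ν + _ / ν
      rw [show emb (x + y) = emb x + emb y from rfl, mulVec_add, ← add_div]
      exact congrArg (· / ν) ((space (F := F) (m := m)).add_left _ _ _)))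
    (fun c x z => Subtype.ext (by
      show _ / ν = (c : F) * (_ / ν)
      rw [show emb (c • x) = (c : F) • emb x from rfl, mulVec_smul, ← mul_div_assoc]
      exact congrArg (· / ν) ((space (F := F) (m := m)).smul_left _ _ _)))
    (fun x y z => Subtype.ext (by
      show _ / ν = _ / ν + _ / ν
      rw [show emb (y + z) = emb y + emb z from rfl, mulVec_add, ← add_div]
      exact congrArg (· / ν) ((space (F := F) (m := m)).add_right _ _ _)))
    (fun c x z => Subtype.ext (by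
      show _ / ν = (c : F) * (_ / ν)
      rw [show emb (c • z) = (c : F) • emb z from rfl, mulVec_smul, ← mul_div_assoc]
      exact congrArg (· / ν) ((space (F := F) (m := m)).smul_right _ _ _)))
  have hA : B₀.IsAlt := fun x => Subtype.ext (by
    show sympForm m F _ _ / ν = 0
    rw [sympForm_self, zero_div])
  have hN : ∀ v, (∀ w, B₀ v w = 0) → v = 0 := fun v hv => by
    have h0 : H *ᵥ emb v = 0 := (space (F := F) (m := m)).nondeg' fun w => by
      obtain ⟨w, rfl⟩ : ∃ w', H *ᵥ w' = w :=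
        ⟨((h⁻¹ : GL (Idx m) F) : Matrix (Idx m) (Idx m) F) *ᵥ w, by simp [hH, mulVec_mulVec]⟩
      show sympForm m F _ _ = 0
      rw [pi_eq_sum_univ' w, mulVec_sum]
      simp only [mulVec_smul]
      rw [sympForm, mulVec_sum, dotProduct_sum]
      refine Finset.sum_eq_zero fun j _ => ?_
      rw [mulVec_smul, dotProduct_smul]
      show _ • sympForm m F _ _ = 0
      have h1 := congrArg Subtype.val (hv (Pi.single j 1))
      change sympForm m F (H *ᵥ emb v) (H *ᵥ emb (Pi.single j 1)) / ν = 0 at h1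
      rw [show emb (Pi.single j 1) = Pi.single j 1 from funext fun i => by
        by_cases hi : i = j <;> simp [emb, hi]] at h1
      rw [(div_eq_zero_iff.1 h1).resolve_right hj₀, smul_zero]
    funext i
    exact Subtype.ext (congrFun (hinj _ h0) i)
  obtain ⟨m', b, hb1, hb2, hb3⟩ := CfsgLib.Forms.exists_symplectic_basis_nondeg B₀ hA hN
  have hmm : m' = m := by
    have h1 := Module.finrank_eq_card_basis b
    rw [Module.finrank_fintype_fun_eq_card] at h1
    simp at h1
    omega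
  subst m'
  let k₀ : Matrix (Idx m) (Idx m) F := Matrix.of fun i j => ((b (Sum.swap j) i : K) : F)
  set A := H * k₀ with hAdef
  have hcol : ∀ j, k₀ *ᵥ Pi.single j 1 = emb (b (Sum.swap j)) := fun j => funext fun i => by
    rw [Matrix.mulVec_single_one]; rfl
  have hAJ : Aᵀ * J (Fin m) F * A = ν • J (Fin m) F := by
    ext i j
    have e : sympForm m F (A *ᵥ Pi.single i 1) (A *ᵥ Pi.single j 1) =
        ν * sympForm m F (Pi.single i 1) (Pi.single j 1) := by
      rw [hAdef, ← mulVec_mulVec, ← mulVec_mulVec, hcol, hcol]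
      have hBv : ∀ x y, sympForm m F (H *ᵥ emb x) (H *ᵥ emb y) = ν * ((B₀ x y : K) : F) :=
        fun x y => (mul_div_cancel₀ _ hj₀).symm
      rw [hBv]
      congr 1
      rcases i with i | i <;> rcases j with j | j <;>
        simp only [Sum.swap_inl, Sum.swap_inr, sympForm_single_inl, sympForm_single_inr]
      · rw [hb3]; simp
      · rw [← hA.neg_eq, hb1]
        by_cases hij : j = i <;> simp [hij]
      · rw [hb1]
        by_cases hij : i = j <;> simp [hij, eq_comm]
      · rw [hb2]; simp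
    rw [form_single, ← Matrix.one_mulVec (Pi.single i (1 : F)),
      ← Matrix.one_mulVec (Pi.single j (1 : F)), form_single] at e
    simpa using e
  have hdet : A.det ≠ 0 := by
    intro h0
    obtain ⟨v, hv0, hv⟩ := Matrix.exists_mulVec_eq_zero_iff.2 h0
    refine hv0 ((space (F := F) (m := m)).nondeg v fun u => ?_)
    have h1 := (form_iff.2 hAJ) u v
    rw [hv, show sympForm m F (A *ᵥ u) 0 = 0 from (space (F := F) (m := m)).zero_right _] at h1
    exact (mul_eq_zero.1 h1.symm).resolve_left hj₀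
  let k : GL (Idx m) F := Matrix.GeneralLinearGroup.mkOfDetNeZero A hdet
  have hk : k ∈ GSp m F := mem_GSp_mat.2 ⟨Units.mk0 ν hj₀, hAJ⟩
  refine ⟨⟨k, hk⟩, ?_⟩
  show (carrier p).delta d = _
  rw [← hdd]
  refine congrArg _ (eq_mul_inv_of_mul_eq (Subtype.ext (Units.ext ?_)))
  show ((d' : GL (Idx m) F) : Matrix (Idx m) (Idx m) F) * A.map σ = A
  have hk₀ : k₀.map σ = k₀ := Matrix.ext fun i j => (b (Sum.swap j) i).2
  rw [hAdef, Matrix.map_mul, hk₀, hσh, ← Matrix.mul_assoc, ← Matrix.mul_assoc, Units.mul_inv,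
    Matrix.one_mul]

include p in
/-- Elements of prime order in the coset of a field automorphism. -/
theorem coset {f : ℕ} (hF : Fintype.card F = p ^ f) (hf : 1 ≤ f) (hm : 2 ≤ m)
    {x δ : MulAut (PSp m F)} (hx : IsFieldAutClassPSp x) {r : ℕ} (hr : r.Prime)
    (hxr : orderOf x = r) (hδ : δ ∈ inndiagPSp m F) :
    orderOf (δ * x) = r ↔ IsConjUnder (inndiagPSp m F) x (δ * x) := by
  obtain ⟨a, σ, -, hxa, hord⟩ := exists_field_rep p hF hf hm hx
  rw [inndiag_eq p hm] at hδ ⊢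
  exact (twist p hm).coset_conjugacy hxa hxr
    (fun d hd => exists_cobound_eq p hm hr.pos (hord ▸ hxr) hd) hδ

theorem gcd_geom {p k r : ℕ} (hp : p.Prime) (hk : 1 ≤ k) (hr : 1 ≤ r) :
    Nat.gcd 2 (((p ^ k) ^ r - 1) / (p ^ k - 1)) = Nat.gcd (Nat.gcd 2 ((p ^ k) ^ r - 1)) r := by
  have hq : 2 ≤ p ^ k := hp.two_le.trans (Nat.le_self_pow (by omega) p)
  rcases hp.eq_two_or_odd' with rfl | hodd
  · have h1 : ¬ 2 ∣ (2 ^ k) ^ r - 1 := by
      have h5 : 2 ∣ (2 ^ k) ^ r := dvd_pow (dvd_pow_self 2 (by omega)) (by omega)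
      have := Nat.one_le_pow r _ (show 0 < 2 ^ k by omega)
      omega
    have h2 : ¬ 2 ∣ ((2 ^ k) ^ r - 1) / (2 ^ k - 1) := fun h =>
      h1 (h.trans (Nat.div_dvd_of_dvd (Nat.sub_one_dvd_pow_sub_one _ r)))
    rw [(Nat.prime_two.coprime_iff_not_dvd).2 h1, (Nat.prime_two.coprime_iff_not_dvd).2 h2,
      Nat.gcd_one_left]
  · have hq1 : (p ^ k) % 2 = 1 := Nat.odd_iff.1 hodd.pow
    have hsum : ∀ j, (∑ i ∈ Finset.range j, (p ^ k) ^ i) % 2 = j % 2 := by
      intro j
      induction j with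
      | zero => rfl
      | succ j ih =>
        rw [Finset.sum_range_succ, Nat.add_mod, ih, Nat.pow_mod, hq1, one_pow]
        omega
    rw [← Nat.geomSum_eq hq r]
    have h2 : 2 ∣ (p ^ k) ^ r - 1 := by
      have h6 : (p ^ k) ^ r % 2 = 1 := by rw [Nat.pow_mod, hq1, one_pow]; rfl
      omega
    rw [Nat.gcd_eq_left h2, Nat.gcd_rec 2, Nat.gcd_rec 2 r, hsum]

set_option maxHeartbeats 1000000 in
include p in
/-- Centraliser and splitting of a field automorphism of prime order. -/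
theorem field_centralizer {f : ℕ} (hF : Fintype.card F = p ^ f) (hf : 1 ≤ f) (hm : 2 ≤ m)
    {x : MulAut (PSp m F)} (hx : IsFieldAutClassPSp x) {r : ℕ} (hr : r.Prime)
    (hxr : orderOf x = r) (F₀ : Type v) [Field F₀] [Fintype F₀]
    (hF₀ : Fintype.card F₀ = p ^ (f / r)) :
    r ∣ f ∧ Nonempty (↥(inndiagPSp m F ⊓ Subgroup.centralizer {x}) ≃* PGSp m F₀) ∧
      splitClassCount (inndiagPSp m F) (Cfsg.Inn (PSp m F)) x =
        Nat.gcd (Nat.gcd 2 (p ^ f - 1)) r := by
  classical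
  have : Nonempty (Idx m) := ⟨.inl ⟨0, by omega⟩⟩
  obtain ⟨a, σ, -, hxa, hord⟩ := exists_field_rep p hF hf hm hx
  have hσ : orderOf σ = r := hord ▸ hxr
  obtain ⟨hrf, hK⟩ := card_fixedField_eq hF hr.pos hσ
  have : Fintype (fixedField σ) := Fintype.ofFinite _
  let e : F₀ ≃+* fixedField σ := FiniteField.ringEquivOfCardEq (by
    rw [hF₀, ← Nat.card_eq_fintype_card, hK])
  let ι : F₀ →+* F := (fixedField σ).subtype.comp e.toRingHom
  have hι : Function.Injective ι := Subtype.val_injective.comp e.injective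
  have hιfix : ∀ y, σ (ι y) = ι y := fun y => (e y).2
  have hιsurj : ∀ z, σ z = z → ∃ y, ι y = z := fun z hz => ⟨e.symm ⟨z, hz⟩, by
    show ((e (e.symm ⟨z, hz⟩) : fixedField σ) : F) = z
    rw [e.apply_symm_apply]⟩
  let θ₀ : GL (Idx m) F₀ →* GL (Idx m) F := Units.map ι.mapMatrix.toMonoidHom
  have hθmem : ∀ u : GSp m F₀, ∃ c : F₀ˣ, θ₀ u ∈ GSp m F ∧
      ∀ hu : θ₀ u ∈ GSp m F, (mult F m hm ⟨θ₀ u, hu⟩ : F) = ι c := by
    intro u
    obtain ⟨c, hc⟩ := mem_GSp_mat.1 u.2
    have h1 : ((θ₀ u : GL (Idx m) F) : Matrix (Idx m) (Idx m) F)ᵀ * J (Fin m) F *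
        ((θ₀ u : GL (Idx m) F) : Matrix (Idx m) (Idx m) F) = ι c • J (Fin m) F := by
      show (((u : GL (Idx m) F₀) : Matrix (Idx m) (Idx m) F₀).map ι)ᵀ * _ *
        ((u : GL (Idx m) F₀) : Matrix (Idx m) (Idx m) F₀).map ι = _
      rw [← map_J (F := F) ι, ← Matrix.transpose_map, ← Matrix.map_mul, ← Matrix.map_mul, hc,
        Matrix.map_smul' _ _ _ (map_mul ι), map_J]
    exact ⟨c, mem_GSp_mat.2 ⟨Units.map ι.toMonoidHom c, h1⟩,
      fun hu => mult_unique hm _ _ (form_iff.2 h1)⟩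
  let θ : GSp m F₀ →* GSp m F :=
    MonoidHom.codRestrict (θ₀.comp (GSp m F₀).subtype) _ fun u => (hθmem u).choose_spec.1
  have hθfix : ∀ u, (twist p hm).act σ (θ u) = θ u := fun u =>
    Subtype.ext (Units.ext (Matrix.ext fun i j => hιfix _))
  have hsurj : ∀ g : GSp m F, (twist p hm).δ ((twist p hm).act σ g) = (twist p hm).δ g →
      ∃ (c : Fˣ) (u : GSp m F₀), (g : GL (Idx m) F) = scal c * (θ u : GL (Idx m) F) := by
    intro g hg
    obtain ⟨c, g₁, hg₁, hfix⟩ :=
      (carrier (F := F) (m := m) p).exists_fixed p (frame hm)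
        (fun lam _ hlam =>
          let ⟨d, hd⟩ := exists_eq_div_map_of_unorm hr.pos hσ lam hlam; ⟨d, scal_mem d, hd⟩) hσ hg
    have he : ∀ i j, σ (((g₁ : GL (Idx m) F) : Matrix (Idx m) (Idx m) F) i j) =
        ((g₁ : GL (Idx m) F) : Matrix (Idx m) (Idx m) F) i j := fun i j =>
      congrFun (congrFun (congrArg (fun g : GL (Idx m) F => (g : Matrix (Idx m) (Idx m) F)) hfix) i) j
    choose M hM using fun i j => hιsurj _ (he i j)
    have hmap : (Matrix.of M).map ι = ((g₁ : GL (Idx m) F) : Matrix (Idx m) (Idx m) F) :=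
      Matrix.ext hM
    have hdet : (Matrix.of M).det ≠ 0 := fun h0 => by
      apply ((Matrix.isUnit_iff_isUnit_det _).1 (g₁ : GL (Idx m) F).isUnit).ne_zero
      rw [← hmap, ← RingHom.mapMatrix_apply, ← RingHom.map_det, h0, map_zero]
    obtain ⟨d, hd⟩ := mem_GSp_mat.1 g₁.2
    have hdfix : σ (d : F) = d := by
      have h2 := congrArg (fun X : Matrix (Idx m) (Idx m) F => σ (X (.inr ⟨0, by omega⟩) (.inl ⟨0, by omega⟩))) hd
      have h3 : σ ((((g₁ : GL (Idx m) F) : Matrix (Idx m) (Idx m) F)ᵀ * J (Fin m) F *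
          ((g₁ : GL (Idx m) F) : Matrix (Idx m) (Idx m) F)) (.inr ⟨0, by omega⟩) (.inl ⟨0, by omega⟩)) =
          (((g₁ : GL (Idx m) F) : Matrix (Idx m) (Idx m) F)ᵀ * J (Fin m) F *
          ((g₁ : GL (Idx m) F) : Matrix (Idx m) (Idx m) F)) (.inr ⟨0, by omega⟩) (.inl ⟨0, by omega⟩) := by
        rw [← hmap, ← map_J (F := F) ι, ← Matrix.transpose_map, ← Matrix.map_mul, ← Matrix.map_mul]
        exact hιfix _
      rw [h3, hd] at h2
      simpa [J, fromBlocks] using h2.symm
    obtain ⟨c₀, hc₀⟩ := hιsurj _ hdfix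
    have hu : (Matrix.GeneralLinearGroup.mkOfDetNeZero _ hdet) ∈ GSp m F₀ := by
      refine mem_GSp_mat.2 ⟨Units.mk0 c₀ (fun h0 => d.ne_zero (by rw [← hc₀, h0, map_zero])), ?_⟩
      apply Matrix.map_injective hι
      show ((Matrix.of M)ᵀ * J (Fin m) F₀ * Matrix.of M).map ι = (((Units.mk0 c₀ _ : F₀ˣ) : F₀) • J (Fin m) F₀).map ι
      rw [Matrix.map_mul, Matrix.map_mul, Matrix.transpose_map, hmap, map_J, hd,
        Matrix.map_smul' _ _ _ (map_mul ι), map_J, Units.val_mk0, hc₀]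
    refine ⟨c, ⟨_, hu⟩, hg₁.trans (congrArg _ (Units.ext ?_))⟩
    exact hmap.symm
  refine ⟨hrf, ?_, ?_⟩
  · rw [inndiag_eq p hm]
    refine (twist p hm).exists_centralizer_equiv hxa θ (fun u => by rw [hθfix]) (fun g hg => ?_)
      ((Geo.scalars (Idx m) F₀).subgroupOf (GSp m F₀)) fun u => ?_
    · obtain ⟨c, u, hu⟩ := hsurj g hg
      refine ⟨u, ?_⟩
      have hge : g = ⟨scal c, scal_mem c⟩ * θ u := Subtype.ext hu
      rw [hge, map_mul, show (twist p hm).δ ⟨scal c, scal_mem c⟩ = 1 from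
        (carrier p).delta_eq_one_of_scalar (scal_coe c), one_mul]
    · rw [Subgroup.mem_subgroupOf, Geo.mem_scalars_iff]
      refine Iff.trans ?_ (Iff.symm
        ((carrier (F := F) (m := m) p).delta_eq_one_iff p (frame hm) (g := θ u)))
      constructor
      · rintro ⟨c, hc⟩
        refine ⟨ι c, ?_⟩
        show ((u : GL (Idx m) F₀) : Matrix (Idx m) (Idx m) F₀).map ι = _
        rw [hc]
        ext i j
        by_cases h : i = j <;> simp [h]
      · rintro ⟨b, hb⟩
        have hb' : ∀ i j, ι (((u : GL (Idx m) F₀) : Matrix (Idx m) (Idx m) F₀) i j) =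
            if i = j then b else 0 := fun i j => by
          have h2 := congrFun (congrFun hb i) j
          change ι (((u : GL (Idx m) F₀) : Matrix (Idx m) (Idx m) F₀) i j) = _ at h2
          rw [h2]
          by_cases h : i = j <;> simp [h]
        set i₀ : Idx m := .inl ⟨0, by omega⟩
        have hval : ((u : GL (Idx m) F₀) : Matrix (Idx m) (Idx m) F₀) =
            ((u : GL (Idx m) F₀) : Matrix (Idx m) (Idx m) F₀) i₀ i₀ • 1 := by
          ext i j
          apply hι
          rw [hb']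
          by_cases h : i = j <;> simp [h, hb']
        obtain ⟨c, hc⟩ := exists_scal_of_smul hval
        exact ⟨c, by rw [hc, scal_coe]⟩
  · set q := Nat.card F
    have hq : q = p ^ f := by rw [show q = Nat.card F from rfl, Nat.card_eq_fintype_card, hF]
    rw [inndiag_eq p hm, Twist.splitClassCount_eq (A := Fˣ ⧸ (powMonoidHom 2 : Fˣ →* Fˣ).range)
      (twist p hm) (nu F m hm) (fun g => nu_eq_one_iff p hm g) hxa
      ((fixedUnits σ).map (QuotientGroup.mk' (powMonoidHom 2 : Fˣ →* Fˣ).range)) ?_ ?_]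
    · have hs : Function.Surjective (nu F m hm) :=
        (QuotientGroup.mk'_surjective _).comp (mult_surjective hm)
      rw [MonoidHom.range_eq_top.2 hs, Subgroup.relIndex_top_right, Subgroup.index_map,
        QuotientGroup.ker_mk', MonoidHom.range_eq_top.2 (QuotientGroup.mk'_surjective _),
        Subgroup.index_top, mul_one, sup_comm]
      set M := (p ^ f - 1) / (p ^ (f / r) - 1) with hM
      have hdvd : p ^ (f / r) - 1 ∣ p ^ f - 1 := by
        obtain ⟨k, hk⟩ := hrf
        conv_rhs => rw [hk, mul_comm r k, pow_mul]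
        rw [hk, Nat.mul_div_cancel_left k hr.pos]
        exact Nat.sub_one_dvd_pow_sub_one (p ^ k) r
      have hcardU : Nat.card Fˣ = p ^ f - 1 := by
        rw [Nat.card_units, ← hq]
      have hP : fixedUnits σ = (powMonoidHom M : Fˣ →* Fˣ).range :=
        eq_range_pow _ M (by rw [card_fixedUnits, hK, hcardU, hM, Nat.mul_div_cancel' hdvd])
      rw [hP, range_pow_sup, index_range_pow, hcardU,
        Nat.gcd_eq_right ((Nat.gcd_dvd_right 2 M).trans (Nat.div_dvd_of_dvd hdvd)), hM]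
      obtain ⟨k, rfl⟩ := hrf
      have hk : 1 ≤ k := by
        rcases Nat.eq_zero_or_pos k with rfl | hk
        · simp at hf
        · exact hk
      rw [Nat.mul_div_cancel_left k hr.pos, mul_comm r k, pow_mul]
      exact gcd_geom (Fact.out : p.Prime) hk hr.one_lt.le
    · intro g hg
      obtain ⟨c, u, hu⟩ := hsurj g hg
      have hge : g = ⟨scal c, scal_mem c⟩ * θ u := Subtype.ext hu
      refine ⟨mult F m hm (θ u), ?_, ?_⟩
      · show σ _ = _
        rw [show (mult F m hm (θ u) : F) = ι _ from (hθmem u).choose_spec.2 _]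
        exact hιfix _
      · rw [hge, map_mul, show nu F m hm ⟨scal c, scal_mem c⟩ = 1 from
          (QuotientGroup.eq_one_iff _).2 ⟨c, by rw [mult_scal, powMonoidHom_apply, sq]⟩, one_mul]
        rfl
    · rintro _ ⟨c, hc, rfl⟩
      obtain ⟨c₀, hc₀⟩ := hιsurj _ hc
      have hc0 : c₀ ≠ 0 := fun h0 => c.ne_zero (by rw [← hc₀, h0, map_zero])
      obtain ⟨u, hu⟩ := mult_surjective (F := F₀) hm (Units.mk0 c₀ hc0)
      refine ⟨θ u, congrArg _ (Units.ext ?_), by rw [hθfix]⟩
      refine mult_unique hm _ _ (form_iff.2 ?_)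
      have h1 := form_iff.1 (mult_spec (F := F₀) hm u)
      rw [hu, Units.val_mk0] at h1
      show (((u : GL (Idx m) F₀) : Matrix (Idx m) (Idx m) F₀).map ι)ᵀ * _ *
        ((u : GL (Idx m) F₀) : Matrix (Idx m) (Idx m) F₀).map ι = _
      rw [← map_J (F := F) ι, ← Matrix.transpose_map, ← Matrix.map_mul, ← Matrix.map_mul, h1,
        Matrix.map_smul' _ _ _ (map_mul ι), map_J, hc₀]

end CfsgLib.ClassicalAut.Symp
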