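import Cfsg.Agent.Lib.ClassicalAut.Balance
import Cfsg.Agent.Lib.ClassicalAut.SympField
import Cfsg.Agent.Lib.ClassicalAut.UnitaryTwist
import Cfsg.Agent.Lib.Classical.SympOrder
import Cfsg.Agent.S0246

set_option autoImplicit false

/-!
Local balance failure for `PSp_{2m}(q)`.
-/

namespace CfsgLib.ClassicalAut.Symp

open Matrix Cfsg CfsgLib.AutPSL

variable {F : Type*} [Field F] [Fintype F] {m : ℕ}

theorem eq_scalar_of_lines {A : Matrix (Idx m) (Idx m) F} (i₀ : Idx m)
    (h1 : ∀ i : Idx m, ∃ a : F, A *ᵥ Pi.single i 1 = a • Pi.single i 1)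
    (h2 : ∀ i : Idx m, i ≠ i₀ → ∃ a : F,
      A *ᵥ (Pi.single i₀ 1 + Pi.single i 1) = a • (Pi.single i₀ 1 + Pi.single i 1)) :
    A = A i₀ i₀ • 1 := by
  classical
  choose a ha using h1
  have hval : ∀ i, a i = A i i := fun i => by
    have := congrFun (ha i) i
    simpa using this.symm
  refine Matrix.ext_of_mulVec_single fun i => ?_
  rw [ha i, smul_mulVec, one_mulVec]
  congr 1
  by_cases hi : i = i₀
  · rw [hi, hval]
  obtain ⟨b, hb⟩ := h2 i hi
  rw [mulVec_add, ha, ha] at hb
  have e1 := congrFun hb i₀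
  have e2 := congrFun hb i
  simp [hi, Ne.symm hi] at e1 e2
  rw [← hval i₀, e1, e2]

theorem fixedField_fix_mem (σ τ : F ≃+* F) (h : ∀ c, σ c = c → τ c = c) :
    τ ∈ Subgroup.zpowers σ := by
  let G := Subgroup.zpowers σ
  have : FaithfulSMul G F := ⟨fun {a b} h => Subtype.ext (RingEquiv.ext h)⟩
  have : Finite (F ≃+* F) := Finite.of_injective (fun e => (e : F → F)) DFunLike.coe_injective
  have : Fintype G := Fintype.ofFinite G
  let t : F ≃ₐ[FixedPoints.subfield G F] F :=
    AlgEquiv.ofRingEquiv (f := τ) fun c => h c (c.2 ⟨σ, Subgroup.mem_zpowers σ⟩)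
  obtain ⟨g, hg⟩ := (FixedPoints.toAlgAutMulEquiv G F).surjective t
  have : (g : F ≃+* F) = τ := RingEquiv.ext fun x => congrArg (fun e : F ≃ₐ[FixedPoints.subfield G F] F => e x) hg
  exact this ▸ g.2

variable (p : ℕ) [Fact p.Prime] [CharP F p] (hm : 2 ≤ m)

/-- An element fixing all transvections over the fixed field of `σ` is a power of the field
automorphism. -/
theorem semilinear_fix_mem {σ τ : F ≃+* F} {a : GSp m F}
    (hg : ∀ (v : Idx m → F) (c : F), (∀ i, σ (v i) = v i) → σ c = c →
      ((twist p hm).δ a * (twist p hm).φ τ) (Classical.SympTrans.T v c : PSp m F) =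
        (Classical.SympTrans.T v c : PSp m F)) :
    (twist p hm).δ a * (twist p hm).φ τ ∈ Subgroup.zpowers ((twist p hm).φ σ) := by
  classical
  have hind : (carrier (F := F) (m := m) p).Ind a τ ((twist p hm).δ a * (twist p hm).φ τ) :=
    (carrier (F := F) (m := m) p).ind_eq.2 rfl
  set A : Matrix (Idx m) (Idx m) F := ((a : GL (Idx m) F) : Matrix (Idx m) (Idx m) F) with hA
  -- the effect on one transvection
  have key : ∀ (v : Idx m → F) (c : F), (∀ i, σ (v i) = v i) → σ c = c → (∀ i, τ (v i) = v i) →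
      v ≠ 0 → c ≠ 0 → (∃ b : F, A *ᵥ v = b • v) ∧
        ∀ x, (τ c * sympForm m F x v) • (A *ᵥ v) = (c * sympForm m F (A *ᵥ x) v) • v := by
    intro v c hv hc hτv hv0 hc0
    obtain ⟨t, ht⟩ := (carrier (F := F) (m := m) p).rep.conjMem
      ((carrier (F := F) (m := m) p).semi a.2 τ) (Classical.SympTrans.T v c)
    have h2 : ((twist p hm).δ a * (twist p hm).φ τ) (Classical.SympTrans.T v c : PSp m F) = (t : PSp m F) :=
      (((carrier (F := F) (m := m) p).ind_iff a.2 τ _).1 hind) _ t ht
    rw [hg v c hv hc, eq_comm, QuotientGroup.eq] at h2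
    obtain ⟨b, hb⟩ := (FormRep.Symplectic.center_iff _).1 h2
    have hT : (Classical.SympTrans.T v c : Matrix.symplecticGroup (Fin m) F) =
        t * ((t⁻¹ * Classical.SympTrans.T v c)) := by group
    -- `T = b t` as operators
    have hop : ∀ x : Idx m → F, (Classical.SympTrans.T v c : Matrix.symplecticGroup (Fin m) F).1 *ᵥ x =
        b • (t.1 *ᵥ x) := fun x => by
      conv_lhs => rw [hT]
      rw [Submonoid.coe_mul, hb, Matrix.mul_smul, Matrix.mul_one, smul_mulVec]
    have hx : ∀ x : Idx m → F, A *ᵥ x + (c * sympForm m F (A *ᵥ x) v) • v =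
        b • (A *ᵥ x + (τ c * sympForm m F x v) • (A *ᵥ v)) := by
      intro x
      obtain ⟨y, rfl⟩ : ∃ y : Idx m → F, (fun i => τ (y i)) = x :=
        ⟨fun i => τ.symm (x i), funext fun i => τ.apply_symm_apply _⟩
      have h3 := ht y
      erw [(carrier (F := F) (m := m) p).hρ, (carrier (F := F) (m := m) p).hρ, Carrier.semi_M,
        Carrier.semi_M] at h3
      have h4 := hop (A *ᵥ fun i => τ (y i))
      rw [show t.1 *ᵥ (A *ᵥ fun i => τ (y i)) = _ from h3] at h4
      have h5 : (fun i => τ (((carrier (F := F) (m := m) p).toMat (Classical.SympTrans.T v c) *ᵥ y) i)) =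
          (fun i => τ (y i)) + (τ c * sympForm m F (fun i => τ (y i)) v) • v := by
        funext i
        show τ ((Classical.SympTrans.app (Classical.SympTrans.T v c) y) i) = _
        rw [Classical.SympTrans.app_T]
        simp only [Pi.add_apply, Pi.smul_apply, smul_eq_mul, map_add, map_mul, hτv]
        rw [← sympForm_map, show (fun i => τ (v i)) = v from funext hτv]
      rw [h5, mulVec_add, mulVec_smul] at h4
      exact (Classical.SympTrans.app_T v c (A *ᵥ fun i => τ (y i))).symm.trans h4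
    -- some vector is moved by neither side
    let L : (Idx m → F) →ₗ[F] F × F :=
      { toFun := fun x => (sympForm m F x v, sympForm m F (A *ᵥ x) v)
        map_add' := fun x y => by
          rw [mulVec_add, Classical.SympTrans.f_add_left, Classical.SympTrans.f_add_left]; rfl
        map_smul' := fun e x => by
          rw [mulVec_smul, Classical.SympTrans.f_smul_left, Classical.SympTrans.f_smul_left]; rfl }
    have hker : LinearMap.ker L ≠ ⊥ := LinearMap.ker_ne_bot_of_finrank_lt <| by
      rw [Module.finrank_prod, Module.finrank_self, Module.finrank_fintype_fun_eq_card]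
      simp
      omega
    obtain ⟨x₀, hx₀, hx0⟩ := (Submodule.ne_bot_iff _).1 hker
    have hx₀1 : sympForm m F x₀ v = 0 := congrArg Prod.fst hx₀
    have hx₀2 : sympForm m F (A *ᵥ x₀) v = 0 := congrArg Prod.snd hx₀
    have hAx : A *ᵥ x₀ ≠ 0 := fun h0 => hx0 <| by
      have := congrArg (fun w => (((a : GL (Idx m) F)⁻¹ : GL (Idx m) F) : Matrix (Idx m) (Idx m) F) *ᵥ w) h0
      rwa [mulVec_mulVec, hA, Units.inv_mul, one_mulVec, mulVec_zero] at this
    have hb1 : b = 1 := by
      have h6 := hx x₀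
      simp only [hx₀1, hx₀2, mul_zero, zero_smul, add_zero] at h6
      exact (smul_left_injective F hAx (h6.symm.trans (one_smul F _).symm))
    have hall : ∀ x, (τ c * sympForm m F x v) • (A *ᵥ v) = (c * sympForm m F (A *ᵥ x) v) • v :=
      fun x => by
        have h6 := hx x
        rw [hb1, one_smul] at h6
        exact (add_left_cancel h6).symm
    refine ⟨?_, hall⟩
    obtain ⟨z, -, hz⟩ := Classical.SympTrans.exists_f_ne (Classical.SympTrans.mem_W_zero v) hv0
    have hzv : τ c * sympForm m F z v ≠ 0 := mul_ne_zero (by simpa using hc0) (by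
      rw [Classical.SympTrans.f_swap]; exact neg_ne_zero.2 hz)
    exact ⟨(τ c * sympForm m F z v)⁻¹ * (c * sympForm m F (A *ᵥ z) v), by
      rw [← smul_smul, ← hall z, smul_smul, inv_mul_cancel₀ hzv, one_smul]⟩
  -- vectors over the prime field
  have hprime : ∀ (ρ : F ≃+* F) (i j : Idx m),
      ρ ((Pi.single i 1 : Idx m → F) j) = (Pi.single i 1 : Idx m → F) j := fun ρ i j => by
    by_cases h : j = i <;> simp [h]
  set i₀ : Idx m := .inl ⟨0, by omega⟩
  have hscal : A = A i₀ i₀ • 1 := by
    refine eq_scalar_of_lines i₀ (fun i => (key _ 1 (hprime σ i) (map_one σ) (hprime τ i)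
      (by simp) one_ne_zero).1) fun i hi => (key _ 1 ?_ (map_one σ) ?_ ?_ one_ne_zero).1
    · intro j; rw [Pi.add_apply, map_add, hprime, hprime]
    · intro j; rw [Pi.add_apply, map_add, hprime, hprime]
    · intro h0
      simpa [hi, Ne.symm hi] using congrFun h0 i
  have hδ : (twist p hm).δ a = 1 := (carrier (F := F) (m := m) p).delta_eq_one_of_scalar hscal
  rw [hδ, one_mul]
  have hτ : τ ∈ Subgroup.zpowers σ := fixedField_fix_mem σ τ fun c hc => by
    by_cases hc0 : c = 0
    · rw [hc0, map_zero]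
    obtain ⟨-, hall⟩ := key (Pi.single i₀ 1) c (hprime σ i₀) hc (hprime τ i₀) (by simp) hc0
    have h7 := congrFun (hall (Pi.single (.inr ⟨0, by omega⟩) 1)) i₀
    have hne : A i₀ i₀ ≠ 0 := fun h0 => by
      have : Nonempty (Idx m) := ⟨i₀⟩
      rw [h0, zero_smul] at hscal
      exact (Units.ne_zero (a : GL (Idx m) F)) hscal
    rw [hscal, smul_mulVec, smul_mulVec, one_mulVec, one_mulVec, Classical.SympTrans.f_smul_left,
      Classical.SympTrans.f_inl] at h7
    simp at h7
    rcases h7 with h7 | h7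
    · exact h7
    · exact absurd h7 hne
  obtain ⟨k, rfl⟩ := Subgroup.mem_zpowers_iff.1 hτ
  exact ⟨k, (map_zpow _ σ k).symm⟩

theorem phi_mk (σ : F ≃+* F) (s t : Matrix.symplecticGroup (Fin m) F)
    (h : (t : Matrix (Idx m) (Idx m) F) = (s : Matrix (Idx m) (Idx m) F).map σ) :
    (twist p hm).φ σ (s : PSp m F) = (t : PSp m F) :=
  (carrier (F := F) (m := m) p).fieldAut_spec σ s t (by
    show (t : Matrix (Idx m) (Idx m) F) = _ * _ * _
    rw [inv_one, Units.val_one, Matrix.one_mul, Matrix.mul_one, h]; rfl)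

theorem T_map {σ : F ≃+* F} {v : Idx m → F} {c : F} (hv : ∀ i, σ (v i) = v i) (hc : σ c = c) :
    ((Classical.SympTrans.T v c : Matrix.symplecticGroup (Fin m) F) : Matrix (Idx m) (Idx m) F).map σ =
      (Classical.SympTrans.T v c : Matrix.symplecticGroup (Fin m) F) := by
  refine Matrix.ext_of_mulVec_single fun j => ?_
  have h1 := map_comp_mulVec σ ((Classical.SympTrans.T v c : Matrix.symplecticGroup (Fin m) F) : Matrix (Idx m) (Idx m) F) (Pi.single j 1)
  rw [show (fun i => σ ((Pi.single j 1 : Idx m → F) i)) = Pi.single j 1 from funext fun i => by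
    by_cases h : i = j <;> simp [h]] at h1
  refine h1.symm.trans (funext fun i => ?_)
  show σ (Classical.SympTrans.app (Classical.SympTrans.T v c) (Pi.single j 1) i) = Classical.SympTrans.app (Classical.SympTrans.T v c) (Pi.single j 1) i
  rw [Classical.SympTrans.app_T]
  simp only [Pi.add_apply, Pi.smul_apply, smul_eq_mul, map_add, map_mul, hv, hc]
  rw [← sympForm_map, show (fun i => σ (v i)) = v from funext hv]
  by_cases h : i = j <;>
    simp [h, show (fun i => σ ((Pi.single j 1 : Idx m → F) i)) = Pi.single j 1 from funext fun i => by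
      by_cases h : i = j <;> simp [h]]

/-- The hypothesis on centralisers. -/
theorem balance_cent {σ : F ≃+* F} (g : MulAut (PSp m F))
    (hg : ∀ k, (twist p hm).φ σ k = k → g k = k) : g ∈ Subgroup.zpowers ((twist p hm).φ σ) := by
  have hgT : ∀ (v : Idx m → F) (c : F), (∀ i, σ (v i) = v i) → σ c = c →
      g (Classical.SympTrans.T v c : PSp m F) = (Classical.SympTrans.T v c : PSp m F) := fun v c hv hc =>
    hg _ (phi_mk p hm σ _ _ (T_map hv hc).symm)
  by_cases h : 3 ≤ m ∨ (2 : F) ≠ 0
  · obtain ⟨a, τ, ha⟩ := full_twist p hm h g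
    rw [ha]
    exact semilinear_fix_mem p hm (by rw [← ha]; exact hgT)
  push Not at h
  obtain ⟨hlt, h2⟩ := h
  obtain rfl : m = 2 := by omega
  have : CharP F 2 := CharP.charP_iff_prime_eq_zero Nat.prime_two |>.2 (by simpa using h2)
  obtain rfl : p = 2 := CharP.eq F (‹CharP F p›) this
  have hfix : g (Rep.mkQ (Sp4.longElt (1 : F))) = Rep.mkQ (Sp4.longElt 1) := by
    refine hg _ (phi_mk 2 hm σ _ _ ?_)
    show Sp4.long 1 = (Sp4.long 1).map σ
    unfold Sp4.long
    rw [Matrix.map_add _ (map_add σ), Matrix.map_one _ (map_zero _) (map_one _),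
      Matrix.map_single, map_one]
  have hP : (Symp.rep (F := F) (m := 2) 2).PointMap g :=
    Rep.pointMap_of_class _ (Sp4.frame F) (fun _ => rfl) sympForm_self Sp4.rho_long (g := 1) (by
      rw [map_one, one_mul, inv_one, mul_one]; exact hfix)
  obtain ⟨a, τ, ha⟩ := Sp4.exists_semilinear_of_pointMap hP
  rw [ha]
  exact semilinear_fix_mem 2 hm (by rw [← ha]; exact hgT)

include p hm in
theorem conj_eq_one (k : PSp m F) (h : MulAut.conj k = 1) : k = 1 := by
  obtain ⟨s, rfl⟩ := QuotientGroup.mk_surjective k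
  obtain ⟨g, hg, hgs⟩ := (carrier (F := F) (m := m) p).mem_H s
  have hd := (carrier (F := F) (m := m) p).delta_eq_conj (g := ⟨g, hg⟩) (s := s) hgs
  rw [h] at hd
  obtain ⟨b, hb⟩ := ((carrier (F := F) (m := m) p).delta_eq_one_iff p (frame hm) (g := ⟨g, hg⟩)).1 hd
  exact (QuotientGroup.eq_one_iff s).2 ((FormRep.Symplectic.center_iff s).2 ⟨b, hgs.symm.trans hb⟩)

theorem exists_fixed_ne (σ : F ≃+* F) : ∃ k : PSp m F, k ≠ 1 ∧ (twist p hm).φ σ k = k := by
  refine ⟨(Classical.SympTrans.T (Pi.single (Sum.inl (⟨0, by omega⟩ : Fin m)) (1 : F) : Idx m → F) (1 : F) : PSp m F), fun h => ?_,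
    phi_mk p hm σ _ _ (T_map (fun i => ?_) (map_one σ)).symm⟩
  · obtain ⟨b, hb⟩ := (FormRep.Symplectic.center_iff _).1 ((QuotientGroup.eq_one_iff _).1 h)
    set u : Idx m → F := Pi.single (.inr ⟨0, by omega⟩) 1
    have h1 : Classical.SympTrans.app (Classical.SympTrans.T (Pi.single (.inl ⟨0, by omega⟩) 1) 1) u = b • u := by
      rw [Classical.SympTrans.app, hb, smul_mulVec, one_mulVec]
    rw [Classical.SympTrans.app_T] at h1
    have h2 := congrFun h1 (.inl ⟨0, by omega⟩)
    rw [Classical.SympTrans.f_inl] at h2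
    simp [u] at h2
  · by_cases h : i = .inl ⟨0, by omega⟩ <;> simp [h]

/-- The hypothesis on normal subgroups. -/
theorem balance_normal {σ : F ≃+* F} {r : ℕ} [Fact r.Prime] (hrp : r ≠ p) (hσ : orderOf σ = r)
    (hd : r ∣ Nat.card (Balance.Fix ((twist p hm).φ σ)))
    (M : Subgroup (Balance.Fix ((twist p hm).φ σ))) (hMn : M.Normal) (hMne : M ≠ ⊥) :
    r ∣ Nat.card M := by
  classical
  have hr : r.Prime := Fact.out
  have hp : p.Prime := Fact.out
  have : Nonempty (Idx m) := ⟨.inl ⟨0, by omega⟩⟩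
  let x := (twist p hm).φ σ
  let L := Balance.Fix x
  let K := fixedField σ
  have : Fintype K := Fintype.ofFinite _
  let ι : K →+* F := K.subtype
  have : CharP K p := (RingHom.charP_iff ι Subtype.val_injective p).2 ‹_›
  obtain ⟨e, -, hcard⟩ := FiniteField.card K p
  -- the fixed symplectic group
  let θ : Matrix.symplecticGroup (Fin m) K →* Matrix.symplecticGroup (Fin m) F :=
    ((ι.mapMatrix.toMonoidHom).comp (Matrix.symplecticGroup (Fin m) K).subtype).codRestrict _
      fun s => SymplecticGroup.map_mem s.2 ι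
  have hθσ : ∀ s, ((θ s : Matrix.symplecticGroup (Fin m) F) : Matrix (Idx m) (Idx m) F).map σ =
      (θ s : Matrix.symplecticGroup (Fin m) F) := fun s => Matrix.ext fun i j => (s.1 i j).2
  let h : Matrix.symplecticGroup (Fin m) K →* L :=
    ((QuotientGroup.mk' _).comp θ).codRestrict L fun s => phi_mk p hm σ _ _ (hθσ s).symm
  have hker : ∀ s, h s = 1 → s ∈ Subgroup.center (Matrix.symplecticGroup (Fin m) K) := by
    intro s hs
    have h1 : (θ s : PSp m F) = 1 := congrArg Subtype.val hs
    obtain ⟨b, hb⟩ := (FormRep.Symplectic.center_iff _).1 ((QuotientGroup.eq_one_iff _).1 h1)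
    refine (FormRep.Symplectic.center_iff s).2 ⟨s.1 (.inl ⟨0, by omega⟩) (.inl ⟨0, by omega⟩), ?_⟩
    ext i j
    have h2 := fun i j => congrFun (congrFun hb i) j
    have e1 : ((s.1 (.inl ⟨0, by omega⟩) (.inl ⟨0, by omega⟩) : K) : F) = b := by
      refine (h2 _ _).trans ?_; simp
    rw [Matrix.smul_apply, smul_eq_mul]
    refine (h2 i j).trans ?_
    rw [Subfield.coe_mul, e1]
    by_cases hij : i = j
    · subst hij
      simp
    · simp [hij]
  -- a fixed element is given by a fixed similitude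
  have hsurj : ∀ k : L, ∃ g : GSp m F, MulAut.conj (k : PSp m F) = (twist p hm).δ g ∧
      Carrier.mapUnit σ (g : GL (Idx m) F) = g := by
    intro k
    obtain ⟨g, hg⟩ := (twist p hm).inn_le ⟨(k : PSp m F), rfl⟩
    have hc : Commute ((twist p hm).δ g) x := by
      rw [hg, commute_iff_eq, Balance.mul_conj x, show x (k : PSp m F) = k from k.2]
    obtain ⟨c, g₁, hg₁, hfix⟩ := (carrier (F := F) (m := m) p).exists_fixed p (frame hm)
      (fun lam _ hlam => let ⟨d, hd⟩ := exists_eq_div_map_of_unorm hr.pos hσ lam hlam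
        ⟨d, scal_mem d, hd⟩) hσ (((twist p hm).commute_iff g σ).1 hc)
    let g₂ : GSp m F := ⟨(g₁ : GL (Idx m) F), g₁.2⟩
    refine ⟨g₂, ?_, hfix⟩
    rw [← hg, show g = (⟨scal c, scal_mem c⟩ : GSp m F) * g₂ from Subtype.ext hg₁, map_mul]
    show (carrier p).delta _ * _ = _
    erw [(carrier p).delta_eq_one_of_scalar (g := ⟨scal c, scal_mem c⟩) (scal_coe c), one_mul]
  -- `r` divides the order of the fixed symplectic group
  have hS : r ∣ Nat.card (Matrix.symplecticGroup (Fin m) K) := by
    let Gfix : Subgroup (GSp m F) :=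
      (Subgroup.comap (GSp m F).subtype (MonoidHom.eqLocus (Carrier.mapUnit σ) (MonoidHom.id _)))
    let δ' : Gfix →* MulAut (PSp m F) := ((twist p hm).δ).comp Gfix.subtype
    let μ : Gfix →* Fˣ := (mult F m hm).comp Gfix.subtype
    have hL : Nat.card L ∣ Nat.card δ'.range := by
      let j : L →* MulAut (PSp m F) := MulAut.conj.comp L.subtype
      have hj : Function.Injective j := (injective_iff_map_eq_one _).2 fun k hk =>
        Subtype.ext (conj_eq_one p hm _ hk)
      refine Subgroup.card_dvd_of_injective (j.codRestrict δ'.range fun k => ?_) fun a b e =>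
        hj (congrArg Subtype.val e)
      obtain ⟨g, hg, hfix⟩ := hsurj k
      exact ⟨⟨g, hfix⟩, hg.symm⟩
    have hker' : Nat.card (fixedUnits σ) ∣ Nat.card δ'.ker := by
      let s : fixedUnits σ →* Gfix :=
        { toFun := fun c => ⟨⟨scal (c : Fˣ), scal_mem _⟩, by
            show Carrier.mapUnit σ (scal (c : Fˣ)) = scal (c : Fˣ)
            rw [mapUnit_scal]
            exact congrArg _ (Units.ext c.2)⟩
          map_one' := Subtype.ext (Subtype.ext (map_one scal))
          map_mul' := fun a b => Subtype.ext (Subtype.ext (map_mul scal _ _)) }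
      refine Subgroup.card_dvd_of_injective (s.codRestrict δ'.ker fun c =>
        (carrier p).delta_eq_one_of_scalar (g := ⟨scal (c : Fˣ), scal_mem _⟩) (scal_coe _)) fun a b e => ?_
      exact Subtype.ext (scal_injective (congrArg
        (fun y : δ'.ker => (((y : Gfix) : GSp m F) : GL (Idx m) F)) e))
    have hμ : Nat.card μ.range ∣ Nat.card (fixedUnits σ) := by
      refine Subgroup.card_dvd_of_le ?_
      rintro _ ⟨g, rfl⟩
      show σ (mult F m hm (g : GSp m F) : F) = _
      have h1 := congrArg (fun u : Fˣ => (u : F)) (mult_map p hm σ (g : GSp m F))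
      rw [show (twist p hm).act σ (g : GSp m F) = g from Subtype.ext g.2] at h1
      exact h1.symm
    have hμker : Nat.card μ.ker = Nat.card (Matrix.symplecticGroup (Fin m) K) := by
      refine (Nat.card_congr (Equiv.ofBijective (fun s => ?_) ⟨?_, ?_⟩)).symm
      · exact ⟨⟨⟨toGL (θ s), mem_GSp_iff.2 ⟨1, fun u v => by
            rw [Units.val_one, one_mul, toGL_coe]; exact Classical.SympTrans.mem_iff_f.1 (θ s).2 u v⟩⟩,
            Units.ext (hθσ s)⟩, Units.ext ((mult_unique hm _ (1 : F) fun u v => by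
            rw [one_mul]; exact Classical.SympTrans.mem_iff_f.1 (θ s).2 u v).trans Units.val_one.symm)⟩
      · intro s t e
        refine Subtype.ext (Matrix.ext fun i j => Subtype.ext ?_)
        exact congrArg (fun y : μ.ker =>
          ((((y : Gfix) : GSp m F) : GL (Idx m) F) : Matrix (Idx m) (Idx m) F) i j) e
      · rintro ⟨⟨⟨g, hgG⟩, hfix⟩, hgμ⟩
        have hij : ∀ i j, σ ((g : Matrix (Idx m) (Idx m) F) i j) = (g : Matrix (Idx m) (Idx m) F) i j := fun i j =>
          congrFun (congrFun (congrArg (fun g : GL (Idx m) F => (g : Matrix (Idx m) (Idx m) F)) hfix) i) j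
        let M₀ : Matrix (Idx m) (Idx m) K := fun i j => ⟨_, hij i j⟩
        have hmem : M₀ ∈ Matrix.symplecticGroup (Fin m) K := by
          refine Classical.SympTrans.mem_iff_f.2 fun u v => Subtype.val_injective ?_
          have h1 := mult_spec hm ⟨g, hgG⟩ (fun i => (u i : F)) (fun i => (v i : F))
          rw [show mult F m hm ⟨g, hgG⟩ = 1 from hgμ, Units.val_one, one_mul] at h1
          have hform : ∀ u v : Idx m → K, ((sympForm m K u v : K) : F) =
              sympForm m F (fun i => (u i : F)) (fun i => (v i : F)) := fun u v => by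
            rw [sympForm_apply, sympForm_apply]; push_cast; rfl
          rw [hform, hform, ← h1]
          congr 1 <;> exact funext fun i => RingHom.map_mulVec ι M₀ _ i
        exact ⟨⟨M₀, hmem⟩, Subtype.ext (Subtype.ext (Subtype.ext (Units.ext rfl)))⟩
    have e1 : Nat.card δ'.range * Nat.card δ'.ker = Nat.card μ.range * Nat.card μ.ker := by
      rw [← Nat.card_congr (QuotientGroup.quotientKerEquivRange δ').toEquiv,
        ← Subgroup.card_eq_card_quotient_mul_card_subgroup,
        ← Nat.card_congr (QuotientGroup.quotientKerEquivRange μ).toEquiv,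
        ← Subgroup.card_eq_card_quotient_mul_card_subgroup]
    obtain ⟨a, ha⟩ := hker'
    obtain ⟨b, hb⟩ := hμ
    refine (hd.trans hL).trans ⟨a * b, ?_⟩
    have hpos : 0 < Nat.card (fixedUnits σ) := Nat.card_pos
    have hposr : 0 < Nat.card μ.range := Nat.card_pos
    refine Nat.eq_of_mul_eq_mul_left hposr ?_
    rw [← hμker, ← e1, ha, hb]
    ring
  set N := M.comap h
  have : N.Normal := hMn.comap h
  rcases Classical.SympTrans.commutator_le_or_le_center N with hN | hN
  · -- no elements outside the centre: `M` centralises the fixed transvections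
    exfalso
    refine hMne ((Subgroup.eq_bot_iff_forall _).2 fun k hk => ?_)
    obtain ⟨g, hg, hfix⟩ := hsurj k
    have hcomm : ∀ s, k * h s = h s * k := by
      intro s
      -- the conjugate of a fixed element by `k` is again one
      have hnorm : ∃ s', k * h s * k⁻¹ = h s' := by
        obtain ⟨c, hc⟩ := mem_GSp_iff.1 g.2
        have hB : ∀ i j, σ ((((g : GL (Idx m) F) : Matrix (Idx m) (Idx m) F) * (θ s).1 *
            (((g : GL (Idx m) F)⁻¹ : GL (Idx m) F) : Matrix (Idx m) (Idx m) F)) i j) =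
            (((g : GL (Idx m) F) : Matrix (Idx m) (Idx m) F) * (θ s).1 *
            (((g : GL (Idx m) F)⁻¹ : GL (Idx m) F) : Matrix (Idx m) (Idx m) F)) i j := by
          intro i j
          have hm1 := congrArg (fun g : GL (Idx m) F => (g : Matrix (Idx m) (Idx m) F)) hfix
          have hm2 := congrArg (fun g : GL (Idx m) F => ((g⁻¹ : GL (Idx m) F) : Matrix (Idx m) (Idx m) F)) hfix
          simp only [← map_inv, Carrier.mapUnit_coe] at hm1 hm2
          refine congrFun (congrFun (?_ : Matrix.map _ σ = _) i) j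
          rw [Matrix.map_mul, Matrix.map_mul, hm1, hm2, hθσ]
        let M₀ : Matrix (Idx m) (Idx m) K := fun i j => ⟨_, hB i j⟩
        have hM₀ : M₀.map ι = ((g : GL (Idx m) F) : Matrix (Idx m) (Idx m) F) * (θ s).1 *
            (((g : GL (Idx m) F)⁻¹ : GL (Idx m) F) : Matrix (Idx m) (Idx m) F) := rfl
        have hmemF : M₀.map ι ∈ Matrix.symplecticGroup (Fin m) F := by
          rw [hM₀]
          refine Classical.SympTrans.mem_iff_f.2 fun u v => ?_
          rw [← mulVec_mulVec, ← mulVec_mulVec, ← mulVec_mulVec, ← mulVec_mulVec, hc,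
            Classical.SympTrans.mem_iff_f.1 (θ s).2, ← hc, mulVec_mulVec, mulVec_mulVec, Units.mul_inv,
            one_mulVec, one_mulVec]
        have hmemK : M₀ ∈ Matrix.symplecticGroup (Fin m) K := by
          have h1 := SymplecticGroup.mem_iff.1 hmemF
          rw [← Matrix.map_J _ ι, ← Matrix.transpose_map, ← Matrix.map_mul, ← Matrix.map_mul] at h1
          exact SymplecticGroup.mem_iff.2 (Matrix.map_injective Subtype.val_injective h1)
        refine ⟨⟨M₀, hmemK⟩, Subtype.ext ?_⟩
        show (k : PSp m F) * (θ s : PSp m F) * (k : PSp m F)⁻¹ = (θ ⟨M₀, hmemK⟩ : PSp m F)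
        have h2 := congrArg (fun e : MulAut (PSp m F) => e (θ s : PSp m F)) hg
        simp only [MulAut.conj_apply] at h2
        rw [h2]
        refine (carrier (F := F) (m := m) p).delta_spec g (θ s) (θ ⟨M₀, hmemK⟩) ?_
        show M₀.map ι = _ * (θ s).1.map (1 : F ≃+* F) * _
        rw [hM₀]
        rfl
      obtain ⟨s', hs'⟩ := hnorm
      have hin : h (s' * s⁻¹) ∈ M := by
        rw [map_mul, map_inv, ← hs', mul_assoc, mul_assoc]
        refine M.mul_mem hk ?_
        simpa [mul_assoc] using hMn.conj_mem k⁻¹ (M.inv_mem hk) (h s)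
      have hz := hN hin
      -- a central element of the fixed group acts trivially
      obtain ⟨b, hb⟩ := (FormRep.Symplectic.center_iff _).1 hz
      have h0 : h (s' * s⁻¹) = 1 := Subtype.ext ((QuotientGroup.eq_one_iff _).2
        ((FormRep.Symplectic.center_iff _).2 ⟨ι b, by
          show ((s' * s⁻¹).1).map ι = _
          rw [hb]
          ext i j
          by_cases hij : i = j <;> simp [hij]⟩))
      rw [map_mul, map_inv, mul_inv_eq_one] at h0
      exact mul_inv_eq_iff_eq_mul.1 (hs'.trans h0)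
    have hfixed : ∀ (v : Idx m → F) (c : F), (∀ i, σ (v i) = v i) → σ c = c →
        ((twist p hm).δ g * (twist p hm).φ 1 : MulAut (PSp m F)) (Classical.SympTrans.T v c : PSp m F) =
          (Classical.SympTrans.T v c : PSp m F) := by
      intro v c hv hc
      let M₀ : Matrix (Idx m) (Idx m) K := fun i j => ⟨_,
        congrFun (congrFun (T_map hv hc) i) j⟩
      have hmemK : M₀ ∈ Matrix.symplecticGroup (Fin m) K := by
        have h1 : M₀.map ι ∈ Matrix.symplecticGroup (Fin m) F := (Classical.SympTrans.T v c).2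
        rw [SymplecticGroup.mem_iff, ← Matrix.map_J _ ι, ← Matrix.transpose_map, ← Matrix.map_mul,
          ← Matrix.map_mul] at h1
        exact SymplecticGroup.mem_iff.2 (Matrix.map_injective Subtype.val_injective h1)
      have h1 : (k : PSp m F) * (θ ⟨M₀, hmemK⟩ : PSp m F) = (θ ⟨M₀, hmemK⟩ : PSp m F) * k :=
        congrArg Subtype.val (hcomm ⟨M₀, hmemK⟩)
      rw [map_one, mul_one, ← hg, MulAut.conj_apply]
      exact mul_inv_eq_iff_eq_mul.2 h1
    obtain ⟨i, hi⟩ := Subgroup.mem_zpowers_iff.1 (semilinear_fix_mem p hm hfixed)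
    rw [map_one, mul_one, ← hg, ← map_zpow] at hi
    have h1 : σ ^ i = 1 := ((twist p hm).mem_range_iff 1 (σ ^ i)).1 <| by
      rw [map_one, one_mul, hi, hg]
      exact ⟨g, rfl⟩
    rw [h1, map_one] at hi
    exact Subtype.ext (conj_eq_one p hm _ hi.symm)
  · -- the normal subgroup has index a power of the characteristic
    let S := Matrix.symplecticGroup (Fin m) K
    have hab : ∀ a : Abelianization S, a ^ p = 1 := by
      intro a
      obtain ⟨s, rfl⟩ := QuotientGroup.mk_surjective a
      have hs : s ∈ Classical.SympTrans.gen (Set.univ : Set (Idx m → K)) := by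
        rw [Classical.SympTrans.gen_univ]; exact Subgroup.mem_top s
      show Abelianization.of s ^ p = 1
      induction hs using Subgroup.closure_induction with
      | mem y hy =>
        obtain ⟨v, -, c, rfl⟩ := hy
        have hpow : ∀ n : ℕ, Classical.SympTrans.T v c ^ n = Classical.SympTrans.T v ((n : K) * c) := by
          intro n
          induction n with
          | zero => rw [pow_zero, Nat.cast_zero, zero_mul, Classical.SympTrans.T_zero]
          | succ n ih => rw [pow_succ, ih, Classical.SympTrans.T_mul, Nat.cast_succ, add_mul, one_mul]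
        rw [← map_pow, hpow, CharP.cast_eq_zero, zero_mul, Classical.SympTrans.T_zero, map_one]
      | one => rw [map_one, one_pow]
      | mul y z _ _ hy hz => rw [map_mul, mul_pow, hy, hz, one_mul]
      | inv y _ hy => rw [map_inv, inv_pow, hy, inv_one]
    obtain ⟨j, hj⟩ := IsPGroup.iff_card.1 (show IsPGroup p (Abelianization S) from fun a =>
      ⟨1, by rw [pow_one]; exact hab a⟩)
    have hidx : N.index ∣ p ^ j := hj ▸ Subgroup.index_dvd_of_le hN
    have hcop : (r ^ 2).Coprime N.index := Nat.Coprime.coprime_dvd_right hidx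
      (((Nat.coprime_primes hr hp).2 hrp).pow _ _)
    have hdiv : ∀ d, d ∣ r ^ 2 → d ∣ Nat.card S → d ∣ Nat.card N := fun d hd1 hd2 =>
      (Nat.Coprime.coprime_dvd_left hd1 hcop).dvd_of_dvd_mul_right
        (by rwa [Subgroup.card_mul_index])
    let hN' : N →* M := (h.comp N.subtype).codRestrict M fun y => y.2
    have hker2 : Nat.card hN'.ker ∣ 2 := by
      have h1 : Nat.card hN'.ker ∣ Nat.card (Subgroup.center S) :=
        Subgroup.card_dvd_of_injective
          ((N.subtype.comp hN'.ker.subtype).codRestrict _ fun y =>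
            hker _ (congrArg (fun z : M => (z : L)) y.2))
          fun a b e => Subtype.ext (Subtype.ext (congrArg (fun z : Subgroup.center S => (z : S)) e))
      refine h1.trans ?_
      rw [Cfsg.Agent.S0246.result (F := K) (q := Fintype.card K) rfl m (by omega)]
      exact Nat.gcd_dvd_left _ _
    have hsplit : Nat.card N = Nat.card hN'.range * Nat.card hN'.ker := by
      rw [← Nat.card_congr (QuotientGroup.quotientKerEquivRange hN').toEquiv,
        ← Subgroup.card_eq_card_quotient_mul_card_subgroup]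
    refine dvd_trans ?_ (Subgroup.card_subgroup_dvd_card hN'.range)
    have hrN := hdiv r (dvd_pow_self r two_ne_zero) hS
    rw [hsplit] at hrN
    rcases hr.eq_two_or_odd' with rfl | hodd
    · have h4 : 4 ∣ Nat.card N := by
        refine hdiv 4 (by norm_num) ?_
        rw [Classical.SympTrans.card_symplectic]
        refine Dvd.dvd.mul_left (dvd_trans ?_ (Finset.dvd_prod_of_mem _ (Finset.mem_range.2 (show 0 < m by omega)))) _
        have hq : Nat.card K % 2 = 1 := by
          rw [Nat.card_eq_fintype_card, hcard]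
          exact Nat.odd_iff.1 (hp.odd_of_ne_two (Ne.symm hrp)).pow
        obtain ⟨t, ht⟩ : ∃ t, Nat.card K = 2 * t + 1 := ⟨Nat.card K / 2, by omega⟩
        rw [ht, zero_add, mul_one, show (2 * t + 1) ^ 2 = 4 * (t * t + t) + 1 by ring]
        exact ⟨t * t + t, by omega⟩
      obtain ⟨a, ha⟩ := h4
      obtain ⟨b, hb⟩ := hker2
      have : 2 * (b * a) = Nat.card hN'.range := by
        have h5 : Nat.card hN'.range * (Nat.card hN'.ker * b) = 4 * a * b := by
          rw [← mul_assoc, ← hsplit, ha]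
        rw [← hb] at h5
        have : 2 * (2 * (b * a)) = 2 * Nat.card hN'.range := by rw [mul_comm 2 (Nat.card hN'.range), h5]; ring
        exact Nat.eq_of_mul_eq_mul_left two_pos this
      exact ⟨_, this.symm⟩
    · refine ((hr.dvd_mul).1 hrN).resolve_right fun h2 => ?_
      have h3 := Nat.le_of_dvd two_pos (h2.trans hker2)
      have := hr.two_le
      obtain rfl : r = 2 := by omega
      exact absurd hodd (by decide)

variable {hm}

/-- An automorphism of prime order outside the inner-diagonal group is conjugate to a field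
automorphism, provided the order is not the characteristic. -/
theorem exists_field_form {f r : ℕ} [Fact r.Prime] (hF : Fintype.card F = p ^ f) (hf : 1 ≤ f)
    (hrp : r ≠ p) {x : MulAut (PSp m F)} (hord : orderOf x = r)
    (hnot : ¬ IsInnerDiagonalAutPSp x) :
    ∃ (a : GSp m F) (σ : F ≃+* F), σ ≠ 1 ∧ orderOf σ = r ∧ IsFieldAutClassPSp x ∧
      x = (twist p hm).δ a * (twist p hm).φ σ * ((twist p hm).δ a)⁻¹ := by
  have hr : r.Prime := Fact.out
  set D := twist (F := F) p hm with hD
  -- `x` is semilinear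
  obtain ⟨d, σ, hx⟩ : ∃ d σ, x = D.δ d * D.φ σ := by
    by_cases h : 3 ≤ m ∨ (2 : F) ≠ 0
    · exact full_twist p hm h x
    push Not at h
    obtain ⟨hlt, h2⟩ := h
    obtain rfl : m = 2 := by omega
    have : CharP F 2 := CharP.charP_iff_prime_eq_zero Nat.prime_two |>.2 (by simpa using h2)
    obtain rfl : p = 2 := CharP.eq F (‹CharP F p›) this
    obtain ⟨a, σ, ω, hω, ha⟩ := Sp4.exists_decomp x
    rcases hω with rfl | rfl
    · exact ⟨a, σ, by rw [ha, mul_one]⟩
    -- the square is semilinear and the order is odd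
    obtain ⟨h₀, σ₀, hsq, -⟩ := Sp4.exists_tau_sq (F := F)
    have hinn : (Sp4.tau F)⁻¹ * D.δ a * (Sp4.tau F) ∈ D.δ.range := by
      obtain ⟨y, hy⟩ := Sp4.delta_mem_inn a
      refine D.inn_le ⟨(Sp4.tau F)⁻¹ y, ?_⟩
      rw [show D.δ a = MulAut.conj y from hy.symm, Balance.mul_conj, inv_mul_cancel_right]
    obtain ⟨b, hb⟩ := hinn
    have h2' : ∃ d σ', x ^ 2 = D.δ d * D.φ σ' := by
      refine ⟨a * D.act σ b * (D.act (σ * σ) ((D.act σ₀⁻¹ h₀⁻¹))), σ * σ * σ₀⁻¹, ?_⟩
      have e1 : (Sp4.tau F)⁻¹ * (Sp4.tau F)⁻¹ = D.δ (D.act σ₀⁻¹ h₀⁻¹) * D.φ σ₀⁻¹ := by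
        rw [← _root_.mul_inv_rev, hsq, _root_.mul_inv_rev, ← map_inv, ← map_inv, D.φ_mul_δ]
      have e2 : (Sp4.tau F)⁻¹ * D.φ σ = D.φ σ * (Sp4.tau F)⁻¹ := (Sp4.tau_comm σ).inv_left.eq
      have e3 : (Sp4.tau F)⁻¹ * D.δ a = D.δ b * (Sp4.tau F)⁻¹ := by
        rw [hb, mul_inv_cancel_right]
      calc x ^ 2 = D.δ a * D.φ σ * ((Sp4.tau F)⁻¹ * D.δ a) * (D.φ σ * (Sp4.tau F)⁻¹) := by
            rw [ha, sq]; simp only [mul_assoc]; rfl
        _ = D.δ a * D.φ σ * D.δ b * ((Sp4.tau F)⁻¹ * D.φ σ) * (Sp4.tau F)⁻¹ := by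
            rw [e3]; simp only [mul_assoc]
        _ = (D.δ a * D.φ σ) * (D.δ b * D.φ σ) * ((Sp4.tau F)⁻¹ * (Sp4.tau F)⁻¹) := by
            rw [e2]; simp only [mul_assoc]
        _ = _ := by rw [e1, D.mul_form, D.mul_form]
    obtain ⟨d, σ', hd⟩ := h2'
    obtain ⟨k, hk⟩ := hr.odd_of_ne_two hrp
    refine ⟨D.tnorm σ' d (k + 1), σ' ^ (k + 1), ?_⟩
    rw [← D.pow_eq, ← hd, ← pow_mul, show 2 * (k + 1) = r + 1 by omega, pow_succ, ← hord,
      pow_orderOf_eq_one, one_mul]
  have hσ1 : σ ≠ 1 := fun h1 => hnot (by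
    rw [hx, h1, map_one, mul_one]
    exact ⟨d, d.2, (carrier p).delta_spec d⟩)
  have hσr : orderOf σ = r := by
    refine orderOf_eq_prime ((D.mem_range_iff (D.tnorm σ d r) (σ ^ r)).1 ?_) hσ1
    rw [← D.pow_eq, ← hx, ← hord, pow_orderOf_eq_one]
    exact one_mem _
  have hcls : IsFieldAutClassPSp (D.φ σ) := ⟨1, σ, hσ1, (std_iff p hm σ _).2 (by simp [hD])⟩
  have hδ : D.δ d ∈ inndiagPSp m F := by
    rw [inndiag_eq p hm]; exact ⟨d, rfl⟩
  obtain ⟨h, hh, he⟩ := (coset p hF hf hm hcls hr ((D.orderOf_φ σ).trans hσr) hδ).1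
    (by rw [← hx, hord])
  rw [inndiag_eq p hm] at hh
  obtain ⟨a, rfl⟩ := hh
  have hx' : x = D.δ a * D.φ σ * (D.δ a)⁻¹ := hx.trans he
  refine ⟨a, σ, hσ1, hσr, ⟨(D.δ a)⁻¹, σ, hσ1, (std_iff p hm σ _).2 ?_⟩, hx'⟩
  rw [hx', inv_inv, mul_assoc, inv_mul_cancel_right, inv_mul_cancel_left]

/-- The criterion for the failure of local balance. -/
theorem balance {f r : ℕ} [Fact r.Prime] (hF : Fintype.card F = p ^ f) (hf : 1 ≤ f) (hm : 2 ≤ m)
    (hrp : r ≠ p) (A : Subgroup (MulAut (PSp m F))) (hinn : ∀ k, MulAut.conj k ∈ A)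
    {x : MulAut (PSp m F)} (hxA : x ∈ A) (hord : orderOf x = r)
    (hnot : ¬ IsInnerDiagonalAutPSp x) :
    Cfsg.pPrimeCore r ↥(A ⊓ Subgroup.centralizer {x}) ≠ ⊥ ↔
      IsFieldAutClassPSp x ∧ Nat.Coprime r (Nat.card (Balance.Fix x)) := by
  obtain ⟨a, σ, -, hσ, hcls, hx⟩ := exists_field_form p (hm := hm) hF hf hrp hord hnot
  rw [iff_true_intro hcls, true_and]
  refine Balance.pPrimeCore_ne_bot_iff A hinn (conj_eq_one p hm) hxA hord ?_ ?_ ?_
  · obtain ⟨k, hk1, hk⟩ := exists_fixed_ne p hm σ
    refine ⟨(twist p hm).δ a k, fun h => hk1 ((((twist p hm).δ a).map_eq_one_iff).1 h), ?_⟩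
    rw [hx, MulAut.mul_apply, MulAut.mul_apply, MulAut.inv_apply_self, hk]
  · rw [hx]
    exact fun hd M hn hne =>
      Balance.hM_conj (fun hd M hn hne => balance_normal p hm hrp hσ hd M hn hne) hd M hn hne
  · intro g hg
    have h1 : ((twist p hm).δ a)⁻¹ * g * (twist p hm).δ a ∈ Subgroup.zpowers ((twist p hm).φ σ) := by
      refine balance_cent p hm _ fun k hk => ?_
      have h2 := hg ((twist p hm).δ a k) (by
        rw [hx, MulAut.mul_apply, MulAut.mul_apply, MulAut.inv_apply_self, hk])
      rw [MulAut.mul_apply, MulAut.mul_apply, h2, MulAut.inv_apply_self]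
    obtain ⟨i, hi⟩ := Subgroup.mem_zpowers_iff.1 h1
    refine ⟨i, ?_⟩
    show x ^ i = g
    rw [hx, conj_zpow, hi]
    simp [mul_assoc]

end CfsgLib.ClassicalAut.Symp
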