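import Cfsg.Agent.Lib.ClassicalAut.Sp4Graph

set_option autoImplicit false

/-!
`Aut(PSp_{2m}(q))` in all cases, and the outer automorphisms of `PSp_4(2^f)`.
-/

namespace CfsgLib.ClassicalAut

open Cfsg

variable {F : Type*} [Field F] [Finite F]

namespace Symp

variable {m : ℕ} (p : ℕ) [Fact p.Prime] [CharP F p]

/-- Every automorphism is linear times field times one commuting with all field automorphisms. -/
theorem exists_decomp (hm : 2 ≤ m) (β : MulAut (PSp m F)) :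
    ∃ (a : GSp m F) (τ : F ≃+* F) (ω : MulAut (PSp m F)),
      β = (twist p hm).δ a * (twist p hm).φ τ * ω ∧
        ∀ σ, Commute ω ((twist p hm).φ σ) := by
  by_cases h : 3 ≤ m ∨ (2 : F) ≠ 0
  · obtain ⟨a, τ, ha⟩ := full_twist p hm h β
    exact ⟨a, τ, 1, by rw [mul_one, ha], fun σ => Commute.one_left _⟩
  push Not at h
  obtain ⟨hlt, h2⟩ := h
  obtain rfl : m = 2 := by omega
  have : CharP F 2 := CharP.charP_iff_prime_eq_zero Nat.prime_two |>.2 (by simpa using h2)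
  have hp : p = 2 := CharP.eq F (‹CharP F p›) this
  subst hp
  obtain ⟨a, τ, ω, hω, ha⟩ := Sp4.exists_decomp β
  refine ⟨a, τ, ω, ha, fun σ => ?_⟩
  rcases hω with rfl | rfl
  · exact Commute.one_left _
  · exact (Sp4.tau_comm σ).inv_left

end Symp

namespace Sp4

variable [CharP F 2]

theorem delta_mem_inn (h : GSp 2 F) :
    (Symp.twist 2 (le_refl 2)).δ h ∈ Cfsg.Inn (PSp 2 F) := by
  refine (Symp.nu_eq_one_iff 2 (le_refl 2) h).1 ((QuotientGroup.eq_one_iff _).2 ?_)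
  obtain ⟨s, hs⟩ := Rep.exists_sq (Symp.mult F 2 (le_refl 2) h : F)
  have hs0 : s ≠ 0 := fun h0 => (Units.ne_zero (Symp.mult F 2 (le_refl 2) h)) (by rw [← hs, h0, mul_zero])
  exact ⟨Units.mk0 s hs0, Units.ext (by simpa [sq] using hs)⟩

theorem tau_long_fix : tau F (tau F (Rep.mkQ (longElt (1 : F)))) = Rep.mkQ (longElt 1) := by
  show tau F (tau F ((longElt 1 : Matrix.symplecticGroup (Fin 2) F) : PSp 2 F)) = _
  rw [tau_mk, tau_mk]
  refine congrArg _ (Subtype.ext ?_)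
  rw [tauHom_coe, tauHom_coe]
  exact (tau_tau_long 1).trans (by rw [one_pow]; rfl)

/-- The square of the exceptional automorphism is linear times Frobenius. -/
theorem exists_tau_sq : ∃ (h : GSp 2 F) (σ : F ≃+* F),
    tau F * tau F = (Symp.twist 2 (le_refl 2)).δ h * (Symp.twist 2 (le_refl 2)).φ σ ∧
      ∀ t, σ t = t ^ 2 := by
  have hP : (Symp.rep (F := F) (m := 2) 2).PointMap (tau F * tau F) := by
    refine Rep.pointMap_of_class _ (frame F) (fun _ => rfl) Symp.sympForm_self rho_long (g := 1) ?_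
    rw [MulAut.mul_apply, tau_long_fix, map_one, one_mul, inv_one, mul_one]
  obtain ⟨h, σ, e⟩ := exists_semilinear_of_pointMap hP
  exact ⟨h, σ, e, sigma_of_tau_sq e⟩

theorem le_of_pow_eq_one {f : ℕ} (hF : Nat.card F = 2 ^ f) {σ : F ≃+* F} (hσ : ∀ t, σ t = t ^ 2)
    {k : ℕ} (hk : 0 < k) (h : σ ^ k = 1) : f ≤ k := by
  have hpow : ∀ (k : ℕ) (t : F), (σ ^ k) t = t ^ (2 ^ k) := by
    intro k
    induction k with
    | zero => simp
    | succ k ih =>
      intro t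
      rw [pow_succ', RingAut.mul_apply, ih, hσ, ← pow_mul, ← pow_succ]
  obtain ⟨g, hg⟩ := IsCyclic.exists_ofOrder_eq_natCard (α := Fˣ)
  have h1 : g ^ (2 ^ k - 1) = 1 := by
    have h2 := hpow k (g : F)
    rw [h, RingAut.one_apply, ← Units.val_pow_eq_pow_val] at h2
    have h3 : g ^ (2 ^ k - 1) * g = 1 * g := by
      rw [← pow_succ, Nat.sub_add_cancel Nat.one_le_two_pow, one_mul]
      exact (Units.ext h2).symm
    exact mul_right_cancel h3
  have h4 := Nat.le_of_dvd (by have := Nat.one_lt_two_pow hk.ne'; omega)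
    (orderOf_dvd_of_pow_eq_one h1)
  rw [hg, Nat.card_units, hF] at h4
  have h5 : 2 ^ f ≤ 2 ^ k := by have := Nat.one_le_two_pow (n := k); omega
  exact (Nat.pow_le_pow_iff_right (by norm_num : 1 < 2)).1 h5

/-- The outer automorphism group of `PSp_4(2^f)` is cyclic of order `2f`. -/
theorem out_cyclic {f : ℕ} (hf : 1 ≤ f) (hF : Nat.card F = 2 ^ f)
    (hgal : Nat.card (F ≃+* F) = f) :
    IsCyclic (Cfsg.Out (PSp 2 F)) ∧ Nat.card (Cfsg.Out (PSp 2 F)) = 2 * f := by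
  set D := Symp.twist (F := F) 2 (le_refl 2) with hD
  obtain ⟨h₀, σ₀, he, hσ₀⟩ := exists_tau_sq (F := F)
  set π := QuotientGroup.mk' (Cfsg.Inn (PSp 2 F))
  have hδ : ∀ h, π (D.δ h) = 1 := fun h => (QuotientGroup.eq_one_iff _).2 (delta_mem_inn h)
  set x := π (tau F)
  have hx2 : x ^ 2 = π (D.φ σ₀) := by
    rw [sq, ← map_mul, he, map_mul, hδ, one_mul]
  have : Finite (F ≃+* F) := Nat.finite_of_card_ne_zero (by omega)
  have hord₀ : orderOf σ₀ = f := by
    have h1 : orderOf σ₀ ∣ f := hgal ▸ orderOf_dvd_natCard σ₀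
    exact le_antisymm (Nat.le_of_dvd hf h1)
      (le_of_pow_eq_one hF hσ₀ (orderOf_pos σ₀) (pow_orderOf_eq_one σ₀))
  have hgen : ∀ σ : F ≃+* F, ∃ k : ℕ, σ = σ₀ ^ k := fun σ => by
    have h0 : Subgroup.zpowers σ₀ = ⊤ :=
      Subgroup.eq_top_of_card_eq _ (by rw [Nat.card_zpowers, hord₀, hgal])
    have h1 : σ ∈ Subgroup.zpowers σ₀ := by rw [h0]; trivial
    obtain ⟨k, hk⟩ := mem_powers_iff_mem_zpowers.2 h1
    exact ⟨k, hk.symm⟩
  have hφ1 : ∀ σ, π (D.φ σ) = 1 → σ = 1 := fun σ hσ => by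
    have h1 := D.inn_le ((QuotientGroup.eq_one_iff _).1 hσ)
    rw [← one_mul (D.φ σ), ← map_one D.δ] at h1
    exact (D.mem_range_iff 1 σ).1 h1
  have hxne : ∀ σ, x ≠ π (D.φ σ) := by
    intro σ hσ
    obtain ⟨h, hh⟩ := D.inn_le (QuotientGroup.eq.1 hσ.symm)
    refine tau_ne (D.act σ h) σ ?_
    rw [← D.φ_mul_δ, hh, mul_inv_cancel_left]
  have hall : ∀ y : Cfsg.Out (PSp 2 F), y ∈ Subgroup.zpowers x := by
    intro y
    obtain ⟨β, rfl⟩ := QuotientGroup.mk'_surjective _ y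
    obtain ⟨a, σ, ω, hω, rfl⟩ := exists_decomp β
    obtain ⟨k, rfl⟩ := hgen σ
    rw [map_mul, map_mul, hδ, one_mul, map_pow, map_pow, ← hx2]
    refine mul_mem (pow_mem (pow_mem (Subgroup.mem_zpowers x) _) _) ?_
    rcases hω with rfl | rfl
    · rw [map_one]; exact one_mem _
    · rw [map_inv]; exact inv_mem (Subgroup.mem_zpowers x)
  have hord : orderOf x = 2 * f := by
    have h2f : x ^ (2 * f) = 1 := by
      rw [pow_mul, hx2, ← map_pow, ← map_pow, ← hord₀, pow_orderOf_eq_one, map_one, map_one]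
    refine Nat.dvd_antisymm (orderOf_dvd_of_pow_eq_one h2f) ?_
    obtain ⟨k, hk | hk⟩ := Nat.even_or_odd' (orderOf x)
    · rw [hk]
      refine mul_dvd_mul_left 2 ?_
      rw [← hord₀]
      refine orderOf_dvd_of_pow_eq_one (hφ1 _ ?_)
      rw [map_pow, map_pow, ← hx2, ← pow_mul, ← hk, pow_orderOf_eq_one]
    · exfalso
      refine hxne ((σ₀ ^ k)⁻¹) ?_
      rw [map_inv, map_inv, map_pow, map_pow, ← hx2, ← pow_mul]
      refine eq_inv_of_mul_eq_one_right ?_
      rw [← pow_succ, ← hk, pow_orderOf_eq_one]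
  refine ⟨⟨x, hall⟩, ?_⟩
  rw [← hord, ← Nat.card_zpowers]
  exact (Nat.card_congr (Equiv.subtypeUnivEquiv hall)).symm

end Sp4

end CfsgLib.ClassicalAut
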