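import Mathlib
import Cfsg.Prelude.Def_KGroupFacts
import Cfsg.Prelude.Def_LieTypeDatum

set_option autoImplicit false

/-!
Automorphism groups that are a group of linear automorphisms twisted by field automorphisms:
counting, conjugacy in a coset, centralisers and splitting of classes.
-/

namespace CfsgLib.ClassicalAut

/-- Linear automorphisms `δ h` and field automorphisms `φ σ` of `X`, meeting trivially. -/
structure Twist (X H Γ : Type*) [Group X] [Group H] [Group Γ] where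
  δ : H →* MulAut X
  φ : Γ →* MulAut X
  act : Γ →* MulAut H
  φ_mul_δ : ∀ σ h, φ σ * δ h = δ (act σ h) * φ σ
  uniq : ∀ h σ, δ h * φ σ = 1 → σ = 1
  inn_le : Cfsg.Inn X ≤ δ.range

namespace Twist

variable {X H Γ : Type*} [Group X] [Group H] [Group Γ] (D : Twist X H Γ)

theorem mul_form (h k : H) (σ τ : Γ) :
    D.δ h * D.φ σ * (D.δ k * D.φ τ) = D.δ (h * D.act σ k) * D.φ (σ * τ) := by
  rw [map_mul, map_mul, mul_assoc, ← mul_assoc (D.φ σ), D.φ_mul_δ]
  simp only [mul_assoc]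

theorem eq_iff {h k : H} {σ τ : Γ} : D.δ h * D.φ σ = D.δ k * D.φ τ ↔ σ = τ ∧ D.δ h = D.δ k := by
  refine ⟨fun e => ?_, fun ⟨e₁, e₂⟩ => by rw [e₁, e₂]⟩
  have hst : σ = τ := by
    refine mul_inv_eq_one.1 (D.uniq (k⁻¹ * h) _ ?_)
    rw [map_mul, map_mul, map_inv, map_inv]
    calc (D.δ k)⁻¹ * D.δ h * (D.φ σ * (D.φ τ)⁻¹)
        = (D.δ k)⁻¹ * (D.δ h * D.φ σ) * (D.φ τ)⁻¹ := by simp [mul_assoc]
      _ = 1 := by rw [e]; simp
  subst hst
  exact ⟨rfl, mul_right_cancel e⟩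

theorem φ_injective : Function.Injective D.φ := by
  intro σ τ h
  exact (D.eq_iff (h := 1) (k := 1)).1 (by rw [h]) |>.1

/-- Every automorphism is a linear one times a field automorphism. -/
def Full : Prop := ∀ β, ∃ h σ, β = D.δ h * D.φ σ

/-- The field part of an automorphism. -/
noncomputable def proj (hs : D.Full) : MulAut X →* Γ where
  toFun β := (hs β).choose_spec.choose
  map_one' := by
    obtain ⟨h, σ⟩ := hs 1
    exact D.uniq _ _ (hs 1).choose_spec.choose_spec.symm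
  map_mul' β γ := by
    have e := (hs (β * γ)).choose_spec.choose_spec
    have hm := D.mul_form (hs β).choose (hs γ).choose (hs β).choose_spec.choose
      (hs γ).choose_spec.choose
    rw [← (hs β).choose_spec.choose_spec, ← (hs γ).choose_spec.choose_spec] at hm
    exact (D.eq_iff.1 (e.symm.trans hm)).1

theorem proj_eq (hs : D.Full) (h : H) (σ : Γ) : D.proj hs (D.δ h * D.φ σ) = σ :=
  ((D.eq_iff).1 (hs (D.δ h * D.φ σ)).choose_spec.choose_spec).1.symm

theorem proj_surjective (hs : D.Full) : Function.Surjective (D.proj hs) := fun σ =>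
  ⟨_, D.proj_eq hs 1 σ⟩

theorem ker_proj (hs : D.Full) : (D.proj hs).ker = D.δ.range := by
  ext β
  obtain ⟨h, σ, rfl⟩ := hs β
  rw [MonoidHom.mem_ker, D.proj_eq hs]
  constructor
  · rintro rfl
    exact ⟨h, by rw [map_one, mul_one]⟩
  · rintro ⟨k, hk⟩
    exact ((D.eq_iff (h := k) (σ := 1)).1 (by rw [map_one, mul_one]; exact hk)).1.symm

theorem card_eq (hs : D.Full) : Nat.card (MulAut X) = Nat.card D.δ.range * Nat.card Γ := by
  rw [Subgroup.card_eq_card_quotient_mul_card_subgroup (D.proj hs).ker,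
    Nat.card_congr (QuotientGroup.quotientKerEquivOfSurjective _ (D.proj_surjective hs)).toEquiv,
    D.ker_proj hs, mul_comm]

theorem orderOf_φ (σ : Γ) : orderOf (D.φ σ) = orderOf σ := orderOf_injective _ D.φ_injective σ

theorem mem_range_iff (h : H) (σ : Γ) : D.δ h * D.φ σ ∈ D.δ.range ↔ σ = 1 := by
  refine ⟨fun ⟨k, hk⟩ => ((D.eq_iff (h := k) (σ := 1)).1 (by rw [map_one, mul_one]; exact hk)).1.symm, ?_⟩
  rintro rfl
  exact ⟨h, by rw [map_one, mul_one]⟩

/-- A conjugate of a field automorphism is conjugate by a linear automorphism to it. -/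
theorem exists_rep {x α ω : MulAut X} {a : H} {σ τ : Γ} (hτ : Commute τ σ) (hα : α⁻¹ = D.δ a * D.φ τ * ω)
    (hω : Commute ω (D.φ σ)) (hx : α * x * α⁻¹ = D.φ σ) :
    x = D.δ a * D.φ σ * (D.δ a)⁻¹ := by
  have h : D.φ τ * D.φ σ * (D.φ τ)⁻¹ = D.φ σ := by
    rw [← map_mul, hτ.eq, map_mul, mul_inv_cancel_right]
  have h' : ω * D.φ σ * ω⁻¹ = D.φ σ := by rw [hω.eq, mul_inv_cancel_right]
  calc x = α⁻¹ * (α * x * α⁻¹) * α := by simp [mul_assoc]
    _ = α⁻¹ * D.φ σ * (α⁻¹)⁻¹ := by rw [hx, inv_inv]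
    _ = D.δ a * (D.φ τ * (ω * D.φ σ * ω⁻¹) * (D.φ τ)⁻¹) * (D.δ a)⁻¹ := by
      rw [hα]; simp [mul_assoc]
    _ = D.δ a * D.φ σ * (D.δ a)⁻¹ := by rw [h', h]

/-- The index of the inner group among the linear automorphisms. -/
theorem card_range [Finite X] {A : Type*} [CommGroup A] (ν : H →* A) (hν : ∀ h, ν h = 1 ↔ D.δ h ∈ Cfsg.Inn X) :
    Nat.card D.δ.range = Nat.card (Cfsg.Inn X) * Nat.card ν.range := by
  have hker : ν.ker = (Cfsg.Inn X).comap D.δ := by
    ext h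
    exact hν h
  have hidx : (Cfsg.Inn X).relIndex D.δ.range = Nat.card ν.range := by
    rw [← Subgroup.index_comap, ← hker, Subgroup.index_ker]
  rw [← hidx, Subgroup.relIndex,
    ← Nat.card_congr (Subgroup.subgroupOfEquivOfLe D.inn_le).toEquiv,
    Subgroup.card_mul_index]

theorem commute_iff (h : H) (σ : Γ) :
    Commute (D.δ h) (D.φ σ) ↔ D.δ (D.act σ h) = D.δ h := by
  rw [commute_iff_eq, D.φ_mul_δ, mul_left_inj]
  exact eq_comm

/-- The twisted norm. -/
def tnorm (σ : Γ) (d : H) : ℕ → H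
  | 0 => 1
  | k + 1 => d * D.act σ (tnorm σ d k)

theorem pow_eq (σ : Γ) (d : H) (k : ℕ) :
    (D.δ d * D.φ σ) ^ k = D.δ (D.tnorm σ d k) * D.φ (σ ^ k) := by
  induction k with
  | zero => simp [tnorm]
  | succ k ih => rw [pow_succ', ih, D.mul_form, ← pow_succ']; rfl

/-- Elements of order `r` in the coset of `x` are conjugate to `x`, given the vanishing of the
first cohomology. -/
theorem coset_conjugacy {x : MulAut X} {a : H} {σ : Γ} {r : ℕ}
    (hxa : x = D.δ a * D.φ σ * (D.δ a)⁻¹) (hxr : orderOf x = r)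
    (hcoh : ∀ d : H, D.δ (D.tnorm σ d r) = 1 → ∃ k : H, D.δ d = D.δ (k * (D.act σ k)⁻¹))
    {δ' : MulAut X} (hδ : δ' ∈ D.δ.range) :
    orderOf (δ' * x) = r ↔ Cfsg.IsConjUnder D.δ.range x (δ' * x) := by
  have hord : ∀ h y : MulAut X, orderOf (h * y * h⁻¹) = orderOf y := fun h y =>
    MulEquiv.orderOf_eq (MulAut.conj h) y
  constructor
  swap
  · rintro ⟨h, -, he⟩
    rw [he, hord, hxr]
  intro ho
  obtain ⟨d, rfl⟩ := hδ
  have hσr : orderOf σ = r := by rw [← D.orderOf_φ, ← hord (D.δ a), ← hxa, hxr]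
  set d' := a⁻¹ * d * a with hd'
  have he : D.δ d * x = D.δ a * (D.δ d' * D.φ σ) * (D.δ a)⁻¹ := by
    rw [hxa, hd']; simp [mul_assoc]
  have hpow : (D.δ d' * D.φ σ) ^ r = 1 := by
    rw [← ho, he, hord]
    exact pow_orderOf_eq_one _
  rw [D.pow_eq, ← hσr, pow_orderOf_eq_one, map_one, mul_one, hσr] at hpow
  obtain ⟨k, hk⟩ := hcoh d' hpow
  refine ⟨D.δ (a * k * a⁻¹), ⟨_, rfl⟩, ?_⟩
  have hk' : D.δ d' * D.φ σ = D.δ k * D.φ σ * (D.δ k)⁻¹ := by
    rw [hk, map_mul, mul_assoc, mul_assoc (D.δ k), ← map_inv D.δ k, D.φ_mul_δ, map_inv (D.act σ)]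
  rw [he, hk', hxa]
  simp [mul_assoc]

/-- The centraliser of a conjugate of a field automorphism in the linear part. -/
theorem exists_centralizer_equiv {x : MulAut X} {a : H} {σ : Γ}
    (hxa : x = D.δ a * D.φ σ * (D.δ a)⁻¹) {U : Type*} [Group U] (θ : U →* H)
    (h₁ : ∀ u, D.δ (D.act σ (θ u)) = D.δ (θ u))
    (h₂ : ∀ g, D.δ (D.act σ g) = D.δ g → ∃ u, D.δ g = D.δ (θ u))
    (N : Subgroup U) [N.Normal] (hN : ∀ u, u ∈ N ↔ D.δ (θ u) = 1) :
    Nonempty (↥(D.δ.range ⊓ Subgroup.centralizer {x}) ≃* U ⧸ N) := by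
  have hmem : ∀ u, D.δ (a * θ u * a⁻¹) ∈ D.δ.range ⊓ Subgroup.centralizer {x} := by
    intro u
    refine ⟨⟨_, rfl⟩, ?_⟩
    show D.δ _ ∈ Subgroup.centralizer _
    rw [Subgroup.mem_centralizer_singleton_iff, hxa]
    have hh : ∀ z, D.φ σ * (D.δ (θ u) * z) = D.δ (θ u) * (D.φ σ * z) := fun z => by
      rw [← mul_assoc, ← ((D.commute_iff (θ u) σ).2 (h₁ u)).eq, mul_assoc]
    simp only [map_mul, map_inv, mul_assoc, inv_mul_cancel_left, hh]
  let ψ : U →* ↥(D.δ.range ⊓ Subgroup.centralizer {x}) :=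
    MonoidHom.codRestrict ((D.δ.comp (MulAut.conj a).toMonoidHom).comp θ) _ hmem
  have hψ : Function.Surjective ψ := by
    rintro ⟨y, ⟨g, rfl⟩, hy⟩
    have hy' : D.δ g * x = x * D.δ g := Subgroup.mem_centralizer_singleton_iff.1 hy
    have hc : Commute (D.δ (a⁻¹ * g * a)) (D.φ σ) := by
      rw [commute_iff_eq]
      have := congrArg (fun z => (D.δ a)⁻¹ * z * D.δ a) hy'
      rw [hxa] at this
      simp only [map_mul, map_inv, mul_assoc, inv_mul_cancel_left, inv_mul_cancel, mul_one]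
        at this ⊢
      exact this
    obtain ⟨u, hu⟩ := h₂ _ ((D.commute_iff _ σ).1 hc)
    refine ⟨u, Subtype.ext ?_⟩
    show D.δ (a * θ u * a⁻¹) = D.δ g
    rw [map_mul, map_mul, ← hu]
    simp [mul_assoc]
  have hker : ψ.ker = N := by
    ext u
    rw [MonoidHom.mem_ker, hN]
    constructor
    · intro h
      have h' : D.δ (a * θ u * a⁻¹) = 1 := congrArg Subtype.val h
      simpa [map_mul, mul_assoc] using congrArg (fun z => (D.δ a)⁻¹ * z * D.δ a) h'
    · intro h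
      refine Subtype.ext ?_
      show D.δ (a * θ u * a⁻¹) = 1
      rw [map_mul, map_mul, h, mul_one, ← map_mul, mul_inv_cancel, map_one]
  exact ⟨((QuotientGroup.quotientKerEquivOfSurjective ψ hψ).symm.trans
    (QuotientGroup.quotientMulEquivOfEq hker))⟩

variable {A : Type*} [CommGroup A] (ν : H →* A)

/-- Splitting of the class of a conjugate of a field automorphism under the inner group, measured
by a character `ν` with kernel the preimage of the inner group. -/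
theorem splitClassCount_eq (hν : ∀ h, ν h = 1 ↔ D.δ h ∈ Cfsg.Inn X) {x : MulAut X} {a : H}
    {σ : Γ} (hxa : x = D.δ a * D.φ σ * (D.δ a)⁻¹) (P : Subgroup A)
    (hP₁ : ∀ g, D.δ (D.act σ g) = D.δ g → ν g ∈ P)
    (hP₂ : ∀ c ∈ P, ∃ g, ν g = c ∧ D.δ (D.act σ g) = D.δ g) :
    Cfsg.splitClassCount D.δ.range (Cfsg.Inn X) x = P.relIndex ν.range := by
  have hPle : P ≤ ν.range := fun c hc => let ⟨g, hg, _⟩ := hP₂ c hc; ⟨g, hg⟩
  have hker : ∀ h h', ν h = ν h' → ∃ i ∈ Cfsg.Inn X, D.δ h' = i * D.δ h := by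
    intro h h' e
    exact ⟨D.δ (h' * h⁻¹), (hν _).1 (by rw [map_mul, map_inv, e, mul_inv_cancel]),
      by rw [← map_mul, inv_mul_cancel_right]⟩
  have key : ∀ g g' : H, Cfsg.IsConjUnder (Cfsg.Inn X) (D.δ g * x * (D.δ g)⁻¹)
      (D.δ g' * x * (D.δ g')⁻¹) ↔ (ν g)⁻¹ * ν g' ∈ P := by
    intro g g'
    constructor
    · rintro ⟨i, hi, he⟩
      obtain ⟨s, rfl⟩ := D.inn_le hi
      have hc : Commute (D.δ ((g' * a)⁻¹ * (s * (g * a)))) (D.φ σ) := by
        rw [commute_iff_eq, ← mul_inv_eq_iff_eq_mul]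
        simp only [map_mul, map_inv, mul_inv_rev, inv_inv]
        have h5 := congrArg (fun z => (D.δ a)⁻¹ * ((D.δ g')⁻¹ * z * D.δ g') * D.δ a) he
        rw [hxa] at h5
        simp only [mul_assoc, inv_mul_cancel_left, inv_mul_cancel, mul_one] at h5 ⊢
        exact h5.symm
      have h6 := hP₁ _ ((D.commute_iff _ σ).1 hc)
      rw [map_mul, map_inv, map_mul, map_mul, map_mul, (hν s).2 hi, one_mul, ← div_eq_inv_mul,
        mul_div_mul_right_eq_div] at h6
      have h7 := P.inv_mem h6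
      rwa [inv_div, div_eq_mul_inv, mul_comm] at h7
    · intro hmem
      obtain ⟨k, hk, hfix⟩ := hP₂ _ (P.inv_mem hmem)
      have hc := (D.commute_iff k σ).2 hfix
      have hcomm : D.δ k * D.φ σ * (D.δ k)⁻¹ = D.φ σ := by rw [hc.eq, mul_inv_cancel_right]
      obtain ⟨i, hi, hi'⟩ := hker (g * a) (g' * a * k) (by
        rw [map_mul, map_mul, map_mul, hk, mul_inv_rev, inv_inv]
        rw [mul_comm ((ν g')⁻¹) (ν g), mul_assoc (ν g'), ← mul_assoc (ν a), mul_comm (ν a) (ν g)]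
        rw [mul_comm (ν g'), mul_assoc, mul_assoc, inv_mul_cancel, mul_one])
      refine ⟨i, hi, ?_⟩
      calc D.δ g' * x * (D.δ g')⁻¹
          = D.δ (g' * a) * (D.δ k * D.φ σ * (D.δ k)⁻¹) * (D.δ (g' * a))⁻¹ := by
            rw [hcomm, hxa]; simp [map_mul, mul_assoc]
        _ = D.δ (g' * a * k) * D.φ σ * (D.δ (g' * a * k))⁻¹ := by simp [map_mul, mul_assoc]
        _ = i * (D.δ g * x * (D.δ g)⁻¹) * i⁻¹ := by rw [hi', hxa]; simp [map_mul, mul_assoc]
  rw [Cfsg.splitClassCount, Subgroup.relIndex, Subgroup.index]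
  refine (Nat.card_eq_of_bijective
    (Quotient.lift (fun c : ν.range => Quot.mk _ (⟨D.δ c.2.choose * x * (D.δ c.2.choose)⁻¹,
      D.δ c.2.choose, ⟨_, rfl⟩, rfl⟩ : {y // Cfsg.IsConjUnder D.δ.range x y})) ?_) ⟨?_, ?_⟩).symm
  · intro c c' h
    refine Quot.sound ((key _ _).2 ?_)
    rw [c.2.choose_spec, c'.2.choose_spec]
    exact (QuotientGroup.leftRel_apply (s := P.subgroupOf ν.range)).1 h
  · intro q q'
    induction q using Quotient.inductionOn with
    | _ c =>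
    induction q' using Quotient.inductionOn with
    | _ c' =>
    intro h
    refine Quotient.sound ((QuotientGroup.leftRel_apply (s := P.subgroupOf ν.range)).2 ?_)
    have heqv : Equivalence fun y z : {y : MulAut X // Cfsg.IsConjUnder D.δ.range x y} =>
        Cfsg.IsConjUnder (Cfsg.Inn X) y.1 z.1 := by
      refine ⟨fun y => ⟨1, one_mem _, by simp⟩, ?_, ?_⟩
      · rintro y z ⟨i, hi, he⟩
        exact ⟨i⁻¹, inv_mem hi, by rw [he]; simp [mul_assoc]⟩
      · rintro y z w ⟨i, hi, he⟩ ⟨j, hj, he'⟩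
        exact ⟨j * i, mul_mem hj hi, by rw [he', he]; simp [mul_assoc]⟩
    have h' := (key _ _).1 (heqv.eqvGen_iff.1 (Quot.eqvGen_exact h))
    rw [c.2.choose_spec, c'.2.choose_spec] at h'
    exact h'
  · intro q
    induction q using Quot.inductionOn with
    | _ y =>
    obtain ⟨y, _, ⟨g, rfl⟩, rfl⟩ := y
    refine ⟨Quotient.mk _ ⟨ν g, g, rfl⟩, Quot.sound ((key _ _).2 ?_)⟩
    rw [(show ∃ h, ν h = ν g from ⟨g, rfl⟩).choose_spec, inv_mul_cancel]
    exact one_mem _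

end Twist

end CfsgLib.ClassicalAut
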