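import Cfsg.Agent.Lib.ClassicalAut.UnitaryBalanceField

set_option autoImplicit false
set_option linter.unusedSectionVars false

/-!
Local balance for automorphisms of `PSU_n(q)` of prime order outside the inner-diagonal group.
-/

namespace CfsgLib.ClassicalAut.Balance

variable {X : Type*} [Group X] [Finite X]

/-- A trivial core at an involution of an almost simple group means the fixed points have even order. -/
theorem not_coprime_of_core_eq_bot (A : Subgroup (MulAut X)) (hinn : ∀ k, MulAut.conj k ∈ A)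
    (hker : ∀ k : X, MulAut.conj k = 1 → k = 1) [Nontrivial X] {x : MulAut X} (hord : orderOf x = 2)
    (hcore : Cfsg.pPrimeCore 2 ↥(A ⊓ Subgroup.centralizer {x}) = ⊥) :
    ¬ Nat.Coprime 2 (Nat.card (Fix x)) := by
  haveI : Fact (Nat.Prime 2) := ⟨Nat.prime_two⟩
  intro hcop
  set C := A ⊓ Subgroup.centralizer {x}
  have hmem : ∀ k : Fix x, MulAut.conj (k : X) ∈ C := fun k => ⟨hinn _, by
    show _ ∈ Subgroup.centralizer _
    rw [Subgroup.mem_centralizer_singleton_iff, mul_conj x, show x (k : X) = k from k.2]⟩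
  let ι : Fix x →* C := (MulAut.conj.comp (Fix x).subtype).codRestrict C hmem
  have hιinj : Function.Injective ι := (injective_iff_map_eq_one _).2 fun k hk =>
    Subtype.ext (hker k (congrArg Subtype.val hk))
  have hn : ι.range.Normal := ⟨by
    rintro _ ⟨k, rfl⟩ g
    have hgx : (g : MulAut X) * x = x * g := Subgroup.mem_centralizer_singleton_iff.1 g.2.2
    refine ⟨⟨(g : MulAut X) k, ?_⟩, Subtype.ext ?_⟩
    · show x ((g : MulAut X) k) = (g : MulAut X) k
      rw [← MulAut.mul_apply, ← hgx, MulAut.mul_apply, show x (k : X) = k from k.2]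
    · show MulAut.conj ((g : MulAut X) k) = (g : MulAut X) * MulAut.conj (k : X) * (g : MulAut X)⁻¹
      rw [mul_conj, mul_inv_cancel_right]⟩
  have hle : ι.range ≤ ⊥ := hcore ▸ CfsgLib.Transfer.le_pPrimeCore hn (by
    rw [← Nat.card_congr (MonoidHom.ofInjective hιinj).toEquiv]; exact hcop.symm)
  have hfp : MonoidHom.FixedPointFree x.toMonoidHom := fun k hk => by
    have h1 : ι ⟨k, hk⟩ = 1 := by rw [← Subgroup.mem_bot]; exact hle ⟨_, rfl⟩
    exact congrArg Subtype.val (hιinj (h1.trans (map_one ι).symm))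
  have hinv : Function.Involutive x.toMonoidHom := fun k => by
    show x (x k) = k
    rw [← MulAut.mul_apply, ← pow_two, ← hord, pow_orderOf_eq_one]; rfl
  have hab := hfp.coe_eq_inv_of_involutive hinv
  have hcomm : ∀ a b : X, a * b = b * a := fun a b => by
    have h1 := map_mul x.toMonoidHom a b
    rw [hab] at h1
    beta_reduce at h1
    have h2 : (a * b)⁻¹ = (b * a)⁻¹ := by rw [h1, _root_.mul_inv_rev]
    exact inv_injective h2
  obtain ⟨k, hk⟩ := exists_ne (1 : X)
  exact hk (hker k (MulEquiv.ext fun y => by simp [hcomm k y]))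

end CfsgLib.ClassicalAut.Balance

namespace CfsgLib.ClassicalAut.Unitary

open Matrix Cfsg CfsgLib.AutPSL
open CfsgLib.ClassicalAut.Balance (Fix)

variable {F : Type*} [Field F] [Fintype F] {q n : ℕ} (r : ℕ) [Fact r.Prime] [CharP F r]

include r in
theorem local_balance (hF : Fintype.card F = q ^ 2) (hn : 3 ≤ n) (hK : IsSimpleGroup (PSU n F q))
    (A : Subgroup (MulAut (PSU n F q))) (hinn : ∀ k : PSU n F q, MulAut.conj k ∈ A)
    {p : ℕ} [Fact p.Prime] (hpr : p ≠ r) (β : MulAut (PSU n F q)) (hβ : β ∈ A) (hord : orderOf β = p)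
    (hnot : ¬ IsInnerDiagonalAutPSU β) :
    Cfsg.pPrimeCore p ↥(A ⊓ Subgroup.centralizer {β}) ≠ ⊥ ↔
      ((∃ γ φ : MulAut (PSU n F q), IsInnerDiagonalAutPSU γ ∧ (∃ σ : F ≃+* F, IsFieldAutPSUOf σ φ) ∧ β = φ.trans γ) ∧
        Nat.Coprime p (Nat.card ↥(MonoidHom.eqLocus β.toMonoidHom (MonoidHom.id (PSU n F q))))) := by
  classical
  obtain ⟨K⟩ := CfsgLib.Classical.Herm.exists_conj_of_card (q := q) hF
  obtain ⟨m, -, hm⟩ := FiniteField.card F r
  obtain ⟨f, -, hq⟩ : ∃ f ≤ (m : ℕ), q = r ^ f := (Nat.dvd_prime_pow Fact.out).1 (by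
    rw [← hm, hF]; exact dvd_pow_self q two_ne_zero)
  have hf : 1 ≤ f := by
    rcases Nat.eq_zero_or_pos f with h | h
    · subst h
      have := K.two_le
      simp at hq
      omega
    · exact h
  have h32 : ¬ (n = 3 ∧ q = 2) := by
    rintro ⟨rfl, rfl⟩
    obtain ⟨hc, -, N, hN, hN9, -⟩ := CfsgLib.Classical.PSUThreeTwo.structure_psu (F := F) (by rw [hF]; rfl)
    rcases hN.eq_bot_or_eq_top with h | h
    · rw [h, Subgroup.card_bot] at hN9; norm_num at hN9
    · rw [h, Subgroup.card_top, hc] at hN9; norm_num at hN9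
  set D := twist K r hn
  obtain ⟨d, σ, rfl⟩ := full_twist K r hn h32 β
  have hσ1 : σ ≠ 1 := fun h => hnot (by
    rw [h, map_one, mul_one]; exact isInnerDiagonal_delta K r hn d)
  have hσp : orderOf σ = p := by
    refine orderOf_eq_prime ?_ hσ1
    have h := pow_orderOf_eq_one (D.δ d * D.φ σ)
    rw [hord, D.pow_eq] at h
    exact D.uniq _ _ h
  have hrhs : ∃ γ φ : MulAut (PSU n F q), IsInnerDiagonalAutPSU γ ∧ (∃ τ : F ≃+* F, IsFieldAutPSUOf τ φ) ∧
      D.δ d * D.φ σ = φ.trans γ :=
    ⟨D.δ d, D.φ σ, isInnerDiagonal_delta K r hn d, ⟨σ, (std_iff K r hn σ _).2 rfl⟩, rfl⟩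
  have hker : ∀ k : PSU n F q, MulAut.conj k = 1 → k = 1 := conj_faithful K r hn
  by_cases hp2 : p = 2
  · -- involutions
    subst hp2
    have hσ : σ = K.bar := by
      obtain ⟨hcyc, -⟩ := card_ringAut_isCyclic (p := r) (f := (m : ℕ)) hm m.2
      have : Finite (F ≃+* F) := Finite.of_injective (fun e => (e : F → F)) DFunLike.coe_injective
      haveI : Fintype (F ≃+* F) := Fintype.ofFinite _
      have hbar : orderOf K.bar = 2 := K.orderOf_bar
      by_contra hne
      have hsub : ({1, σ, K.bar} : Finset (F ≃+* F)) ⊆ Finset.univ.filter fun a => a ^ 2 = 1 := by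
        intro a ha
        simp only [Finset.mem_insert, Finset.mem_singleton] at ha
        refine Finset.mem_filter.2 ⟨Finset.mem_univ _, ?_⟩
        rcases ha with rfl | rfl | rfl
        · exact one_pow _
        · rw [← hσp]; exact pow_orderOf_eq_one _
        · rw [← hbar]; exact pow_orderOf_eq_one _
      have hle := (Finset.card_le_card hsub).trans (IsCyclic.card_pow_eq_one_le (α := F ≃+* F) two_pos)
      rw [Finset.card_insert_of_notMem (by simp [Ne.symm hσ1, Ne.symm K.bar_ne]),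
        Finset.card_insert_of_notMem (by simp [hne]), Finset.card_singleton] at hle
      omega
    subst hσ
    have h2 : (2 : F) ≠ 0 := CfsgLib.AutPSL.LocalBal.two_ne_zero' r hpr
    have hcore := gu_core_bot r hn h32 h2 A hinn d hβ hord
    haveI : Nontrivial (PSU n F q) := hK.toNontrivial
    exact iff_of_false (fun h => h hcore) fun h =>
      Balance.not_coprime_of_core_eq_bot A hinn hker hord hcore h.2
  · -- field automorphisms of odd order
    have hpo : Odd p := (Fact.out : p.Prime).odd_of_ne_two hp2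
    obtain ⟨⟨k₀, hk₀, hk₀x⟩, hcent, hM⟩ := field_hyps K r hn hq hf h32 hpr hpo hσp
    obtain ⟨a, ⟨ka, rfl⟩, ha⟩ := ((D.coset_conjugacy (a := 1) (σ := σ) (r := p) (x := D.φ σ)
      (by rw [map_one, one_mul, inv_one, mul_one]) ((D.orderOf_φ σ).trans hσp)
      (fun d hd => exists_cobound_eq K r hq hn hpo hσp hd) ⟨d, rfl⟩).1 hord)
    rw [and_iff_right hrhs]
    rw [ha] at hord hβ ⊢
    set a := D.δ ka
    set x := D.φ σ
    have hfix : ∀ y, x y = y → (a * x * a⁻¹) (a y) = a y := fun y hy => by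
      show a (x (a.symm (a y))) = a y
      rw [a.symm_apply_apply, hy]
    refine CfsgLib.ClassicalAut.Balance.pPrimeCore_ne_bot_iff A hinn hker hβ hord
      ⟨a k₀, fun e => hk₀ (a.injective (e.trans (map_one a).symm)), hfix _ hk₀x⟩
      (fun hd M hMn hMne => CfsgLib.ClassicalAut.Balance.hM_conj hM hd M hMn hMne) fun g hg => ?_
    have h1 : a⁻¹ * g * a ∈ Subgroup.zpowers x := hcent _ fun y hy => by
      show a.symm (g (a y)) = y
      rw [hg _ (hfix y hy), a.symm_apply_apply]
    obtain ⟨z, hz⟩ := Subgroup.mem_zpowers_iff.1 h1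
    refine Subgroup.mem_zpowers_iff.2 ⟨z, ?_⟩
    rw [conj_zpow, hz]
    simp [mul_assoc]

end CfsgLib.ClassicalAut.Unitary
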