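import Cfsg.Agent.Lib.ClassicalAut.UnitaryTwist
import Cfsg.Agent.Lib.AutPSL.Classes
import Cfsg.Agent.Lib.Classical.Forms

set_option autoImplicit false

/-!
Field automorphisms of odd prime order of `PSU_n(q)`.
-/

namespace CfsgLib.ClassicalAut.Unitary

open Matrix Cfsg CfsgLib.AutPSL

universe u v

variable {F : Type u} [Field F] [Fintype F] {q n : ℕ} (K : Conj F q)
  (p : ℕ) [Fact p.Prime] [CharP F p]

include K p in
theorem exists_field_rep {f : ℕ} (hq : q = p ^ f) (hf : 1 ≤ f) (hn : 3 ≤ n)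
    (h32 : ¬ (n = 3 ∧ q = 2)) {x : MulAut (PSU n F q)} (hx : IsFieldAutClassPSU x) :
    ∃ (a : GU n F q) (σ : F ≃+* F), Odd (orderOf σ) ∧
      x = (twist K p hn).δ a * (twist K p hn).φ σ * ((twist K p hn).δ a)⁻¹ ∧
        orderOf x = orderOf σ := by
  obtain ⟨α, φ, σ, -, hodd, hstd, hαx⟩ := hx
  obtain ⟨a, τ, hα⟩ := full_twist K p hn h32 α⁻¹
  have hFq : Fintype.card F = p ^ (2 * f) := by
    rw [← Nat.card_eq_fintype_card, K.card, hq, ← pow_mul, mul_comm]
  have hc : Commute τ σ := by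
    obtain ⟨hcyc, -⟩ := card_ringAut_isCyclic hFq (by omega)
    obtain ⟨g, hg⟩ := hcyc.exists_generator
    obtain ⟨i, rfl⟩ := hg τ
    obtain ⟨j, rfl⟩ := hg σ
    exact (Commute.refl g).zpow_zpow i j
  have hx' := (twist K p hn).exists_rep (ω := 1) hc (by rw [mul_one]; exact hα)
    (Commute.one_left _) (hαx.trans ((std_iff K p hn σ φ).1 hstd))
  refine ⟨a, σ, hodd, hx', ?_⟩
  rw [hx', ← (twist K p hn).orderOf_φ σ]
  exact MulEquiv.orderOf_eq (MulAut.conj ((twist K p hn).δ a)) _

omit [Fact p.Prime] [CharP F p] in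
theorem unorm_bar (σ : F ≃+* F) (k : ℕ) (c : Fˣ) :
    unorm σ k (Units.map K.bar.toRingHom.toMonoidHom c) =
      Units.map K.bar.toRingHom.toMonoidHom (unorm σ k c) := by
  induction k with
  | zero => exact (map_one (Units.map K.bar.toRingHom.toMonoidHom)).symm
  | succ k ih =>
    simp only [unorm, MonoidHom.mul_apply, MonoidHom.id_apply, MonoidHom.coe_comp,
      Function.comp_apply, ih, map_mul]
    exact congrArg _ (Units.ext (bar_comm K σ _).symm)

omit [Fintype F] [Fact p.Prime] [CharP F p] in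
theorem unorm_fixed {σ : F ≃+* F} {c : Fˣ} (hc : σ (c : F) = c) (k : ℕ) :
    unorm σ k c = c ^ k := by
  induction k with
  | zero => simp [unorm]
  | succ k ih =>
    simp only [unorm, MonoidHom.mul_apply, MonoidHom.id_apply, MonoidHom.coe_comp,
      Function.comp_apply, ih, map_pow]
    rw [show Units.map σ.toRingHom.toMonoidHom c = c from Units.ext hc, ← pow_succ']

omit [Fact p.Prime] [CharP F p] in
/-- Norm one elements of the fixed field are norms of norm one elements. -/
theorem exists_unorm_normOne {σ : F ≃+* F} {r : ℕ} (hro : Odd r) (hσ : orderOf σ = r) {c : Fˣ}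
    (hcm : c ∈ normOne K) (hc : σ (c : F) = c) : ∃ e ∈ normOne K, unorm σ r e = c := by
  obtain ⟨e₀, he₀⟩ := exists_unorm_eq hro.pos hσ c hc
  obtain ⟨k, hk⟩ := hro
  set B := Units.map K.bar.toRingHom.toMonoidHom
  have hB : ∀ x : Fˣ, B (B x) = x := fun x => Units.ext (K.bar_bar x)
  have hN : ∀ x : Fˣ, x ∈ normOne K ↔ x * B x = 1 := fun x => by
    rw [mem_normOne, Units.ext_iff]
    rfl
  have hBc : B c = c⁻¹ := eq_inv_of_mul_eq_one_right ((hN c).1 hcm)
  have hξ : e₀ * (B e₀)⁻¹ ∈ normOne K := (hN _).2 (by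
    rw [map_mul, map_inv, hB, mul_mul_mul_comm, mul_comm e₀ (B e₀), ← _root_.mul_inv_rev,
      mul_comm e₀ (B e₀), mul_inv_cancel])
  have hξn : unorm σ r (e₀ * (B e₀)⁻¹) = c ^ 2 := by
    rw [map_mul, map_inv, unorm_bar K, he₀, hBc, inv_inv, sq]
  refine ⟨c * ((e₀ * (B e₀)⁻¹) ^ k)⁻¹,
    (normOne K).mul_mem hcm ((normOne K).inv_mem ((normOne K).pow_mem hξ k)), ?_⟩
  rw [map_mul, map_inv, map_pow, hξn, unorm_fixed hc, ← pow_mul, hk, pow_succ',
    mul_inv_cancel_right]

omit [Fact p.Prime] [CharP F p] in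
/-- Hilbert 90 inside the norm one group. -/
theorem exists_div_normOne {σ : F ≃+* F} {r : ℕ} (hro : Odd r) (hσ : orderOf σ = r) {lam : Fˣ}
    (hlm : lam ∈ normOne K) (hlam : unorm σ r lam = 1) :
    ∃ d ∈ normOne K, lam = d * (Units.map σ.toRingHom.toMonoidHom d)⁻¹ := by
  obtain ⟨d₀, hd₀⟩ := exists_eq_div_map_of_unorm hro.pos hσ lam hlam
  obtain ⟨k, hk⟩ := hro
  set B := Units.map K.bar.toRingHom.toMonoidHom
  set Sg := Units.map σ.toRingHom.toMonoidHom
  have hB : ∀ x : Fˣ, B (B x) = x := fun x => Units.ext (K.bar_bar x)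
  have hBS : ∀ x : Fˣ, B (Sg x) = Sg (B x) := fun x => Units.ext (bar_comm K σ x)
  have hN : ∀ x : Fˣ, x ∈ normOne K ↔ x * B x = 1 := fun x => by
    rw [mem_normOne, Units.ext_iff]
    rfl
  set ν := d₀ * B d₀ with hν
  have hνS : Sg ν = ν := by
    have h := (hN lam).1 hlm
    rw [hd₀, map_mul, map_inv, hBS, mul_mul_mul_comm, ← mul_inv, ← map_mul, ← hν] at h
    exact (mul_inv_eq_one.1 h).symm
  have hνB : B ν = ν := by rw [hν, map_mul, hB, mul_comm]
  have hνn : σ (ν : F) = ν := congrArg Units.val hνS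
  obtain ⟨e₀, he₀⟩ := K.exists_norm (ν : F) (congrArg Units.val hνB)
  have he0 : e₀ ≠ 0 := fun h => ν.ne_zero (by rw [← he₀, h, zero_mul])
  have he : Units.mk0 e₀ he0 * B (Units.mk0 e₀ he0) = ν := Units.ext he₀
  set E := unorm σ r (Units.mk0 e₀ he0) with hE
  have hEN : E * B E = ν ^ r := by rw [hE, ← unorm_bar K, ← map_mul, he, unorm_fixed hνn]
  have hEfix : Sg E = E := Units.ext (unorm_mem_fixedUnits hσ _)
  set e := E * (ν ^ k)⁻¹ with hee
  have heN : e * B e = ν := by
    rw [hee, map_mul, map_inv, map_pow, hνB, mul_mul_mul_comm, hEN, ← mul_inv, ← pow_add, hk,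
      ← two_mul, pow_succ', mul_inv_cancel_right]
  have heS : Sg e = e := by rw [hee, map_mul, map_inv, map_pow, hEfix, hνS]
  refine ⟨d₀ * e⁻¹, (hN _).2 ?_, ?_⟩
  · rw [map_mul, map_inv, mul_mul_mul_comm, ← mul_inv, heN, ← hν, mul_inv_cancel]
  · rw [map_mul, map_inv, heS, hd₀, mul_inv (Sg d₀), inv_inv, mul_mul_mul_comm, inv_mul_cancel,
      mul_one]

include p in
/-- The subfield fixed by an automorphism of odd order. -/
theorem exists_sub {f : ℕ} (hq : q = p ^ f) {σ : F ≃+* F} {r : ℕ}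
    (hro : Odd r) (hσ : orderOf σ = r) :
    r ∣ f ∧ Nat.card (fixedField σ) = p ^ (2 * (f / r)) ∧
      ∀ y, σ y = y → K.bar y = y ^ p ^ (f / r) := by
  have hFq : Fintype.card F = p ^ (2 * f) := by
    rw [← Nat.card_eq_fintype_card, K.card, hq, ← pow_mul, mul_comm]
  obtain ⟨h2, hK⟩ := card_fixedField_eq hFq hro.pos hσ
  have hrf : r ∣ f := (Nat.Coprime.dvd_mul_left (Nat.coprime_two_right.2 hro)).1 h2
  obtain ⟨m, rfl⟩ := hrf
  have hdiv : 2 * (r * m) / r = 2 * m := by
    rw [← mul_assoc, mul_comm 2 r, mul_assoc, Nat.mul_div_cancel_left _ hro.pos]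
  rw [hdiv] at hK
  rw [Nat.mul_div_cancel_left _ hro.pos]
  refine ⟨dvd_mul_right r m, hK, fun y hy => ?_⟩
  obtain ⟨k, hk⟩ := hro
  have : Fintype (fixedField σ) := Fintype.ofFinite _
  have hpow : ∀ j, y ^ ((p ^ (2 * m)) ^ j) = y := by
    intro j
    induction j with
    | zero => simp
    | succ j ih =>
      have h := congrArg Subtype.val (FiniteField.pow_card (⟨y, hy⟩ : fixedField σ))
      rw [← Nat.card_eq_fintype_card, hK] at h
      rw [pow_succ, pow_mul, ih]
      exact h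
  rw [K.bar_apply, hq, hk, show (2 * k + 1) * m = 2 * m * k + m by ring, pow_add, pow_mul p,
    pow_mul y, hpow]

omit [Fact p.Prime] [CharP F p] in
theorem mem_normOne_of_scal {c : Fˣ} (hn : 0 < n) (h : scal c ∈ GU n F q) : (c : F) * K.bar c = 1 :=
  (scal_mem_iff K hn c).1 h

include p in
/-- Vanishing of the first cohomology. -/
theorem exists_cobound_eq {f : ℕ} (hq : q = p ^ f) (hn : 3 ≤ n) {σ : F ≃+* F} {r : ℕ}
    (hro : Odd r) (hσ : orderOf σ = r) {d : GU n F q}
    (hd : (twist K p hn).δ ((twist K p hn).tnorm σ d r) = 1) :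
    ∃ k : GU n F q, (twist K p hn).δ d = (twist K p hn).δ (k * ((twist K p hn).act σ k)⁻¹) := by
  classical
  have : Nonempty (Fin n) := ⟨⟨0, by omega⟩⟩
  have hn0 : 0 < n := by omega
  obtain ⟨d', h, hdd, hdh⟩ := (carrier K hn p).exists_cobound p (exists_frame K hn).some hro.pos
    (fun c hcm hc =>
      let ⟨e, hem, he⟩ := exists_unorm_normOne K hro hσ
        ((mem_normOne K).2 (mem_normOne_of_scal K hn0 hcm)) hc
      ⟨e, (scal_mem_iff K hn0 e).2 ((mem_normOne K).1 hem), he⟩) hσ hd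
  set H := (h : Matrix (Fin n) (Fin n) F) with hH
  have hσh : H.map σ = (((d' : GL (Fin n) F)⁻¹ : GL (Fin n) F) : Matrix (Fin n) (Fin n) F) * H := by
    rw [← Carrier.mapUnit_coe, hdh, _root_.mul_inv_rev, inv_inv, Units.val_mul, hH,
      Units.inv_mul_cancel_right]
  have hB : ∀ u v, σ (hermForm n F q (H *ᵥ u) (H *ᵥ v)) =
      hermForm n F q (H *ᵥ fun i => σ (u i)) (H *ᵥ fun i => σ (v i)) := by
    intro u v
    rw [← herm_map K, map_comp_mulVec, map_comp_mulVec, hσh, ← mulVec_mulVec, ← mulVec_mulVec]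
    exact mem_GU.1 ((GU n F q).inv_mem d'.2) _ _
  have hinj : ∀ v, H *ᵥ v = 0 → v = 0 := fun v hv => by
    have := congrArg (fun w => ((h⁻¹ : GL (Fin n) F) : Matrix (Fin n) (Fin n) F) *ᵥ w) hv
    simpa [hH, mulVec_mulVec] using this
  obtain ⟨-, hK₀, hsub⟩ := exists_sub K p hq hro hσ
  let L := fixedField σ
  let τ : L →+* L :=
    { toFun := fun x => ⟨K.bar (x : F), by
        rw [mem_fixedField, ← bar_comm K]; exact congrArg _ x.2⟩
      map_one' := Subtype.ext (map_one _)
      map_mul' := fun a b => Subtype.ext (map_mul _ _ _)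
      map_zero' := Subtype.ext (map_zero _)
      map_add' := fun a b => Subtype.ext (map_add _ _ _) }
  have hτ : τ ≠ RingHom.id L := by
    intro e
    have : Fintype L := Fintype.ofFinite _
    obtain ⟨g, hg⟩ := IsCyclic.exists_ofOrder_eq_natCard (α := Lˣ)
    set q₀ := p ^ (f / r)
    have h1 : ((g : L) : F) ^ q₀ = ((g : L) : F) := by
      rw [← hsub _ (g : L).2]
      exact congrArg Subtype.val (RingHom.congr_fun e (g : L))
    have hp1 := (Fact.out : p.Prime).one_lt
    have hq₀ : 1 < q₀ := by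
      refine Nat.one_lt_pow ?_ hp1
      intro h0
      have hcard : 1 < Nat.card L := Finite.one_lt_card
      rw [hK₀, h0, mul_zero, pow_zero] at hcard
      omega
    have h2 : g ^ (q₀ - 1) = 1 := by
      have h3 : g ^ (q₀ - 1) * g = 1 * g := by
        rw [← pow_succ, Nat.sub_add_cancel hq₀.le, one_mul]
        exact Units.ext (Subtype.ext (by simpa using h1))
      exact mul_right_cancel h3
    have h4 := Nat.le_of_dvd (by omega) (orderOf_dvd_of_pow_eq_one h2)
    rw [hg, Nat.card_units, hK₀, mul_comm, pow_mul] at h4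
    have h5 : q₀ * 2 ≤ q₀ ^ 2 := by rw [sq]; exact Nat.mul_le_mul_left q₀ hq₀
    change q₀ ^ 2 - 1 ≤ q₀ - 1 at h4
    generalize q₀ ^ 2 = Q at h4 h5
    omega
  let emb : (Fin n → L) → (Fin n → F) := fun x i => ((x i : L) : F)
  have hembfix : ∀ x : Fin n → L, (fun i => σ (emb x i)) = emb x := fun x =>
    funext fun i => (x i).2
  have hval : ∀ x y : Fin n → L, hermForm n F q (H *ᵥ emb y) (H *ᵥ emb x) ∈ L := fun x y => by
    rw [mem_fixedField, hB, hembfix, hembfix]
  let B₀ : (Fin n → L) →ₛₗ[τ] (Fin n → L) →ₗ[L] L := LinearMap.mk₂'ₛₗ τ (RingHom.id L)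
    (fun x y => ⟨_, hval x y⟩)
    (fun x y z => Subtype.ext (by
      show hermForm n F q _ _ = hermForm n F q _ _ + hermForm n F q _ _
      rw [show emb (x + y) = emb x + emb y from rfl, mulVec_add]
      exact (space (n := n) K).add_right _ _ _))
    (fun c x z => Subtype.ext (by
      show hermForm n F q _ _ = K.bar (c : F) * hermForm n F q _ _
      rw [show emb (c • x) = (c : F) • emb x from rfl, mulVec_smul]
      exact (space (n := n) K).smul_right _ _ _))
    (fun x y z => Subtype.ext (by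
      show hermForm n F q _ _ = hermForm n F q _ _ + hermForm n F q _ _
      rw [show emb (y + z) = emb y + emb z from rfl, mulVec_add]
      exact (space (n := n) K).add_left _ _ _))
    (fun c x z => Subtype.ext (by
      show hermForm n F q _ _ = (c : F) * hermForm n F q _ _
      rw [show emb (c • z) = (c : F) • emb z from rfl, mulVec_smul]
      exact (space (n := n) K).smul_left _ _ _))
  have hS : ∀ x y, τ (B₀ x y) = B₀ y x := fun x y => Subtype.ext (by
    show K.bar (hermForm n F q _ _) = hermForm n F q _ _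
    have h := (space (n := n) K).swap (H *ᵥ emb y) (H *ᵥ emb x)
    exact (h.trans (one_mul _)).symm)
  have hN : ∀ v, (∀ w, B₀ v w = 0) → v = 0 := fun v hv => by
    have h0 : H *ᵥ emb v = 0 := (space (n := n) K).nondeg _ fun w => by
      obtain ⟨w, rfl⟩ : ∃ w', H *ᵥ w' = w :=
        ⟨((h⁻¹ : GL (Fin n) F) : Matrix (Fin n) (Fin n) F) *ᵥ w, by simp [hH, mulVec_mulVec]⟩
      show hermForm n F q _ _ = 0
      rw [pi_eq_sum_univ' w, mulVec_sum]
      simp only [mulVec_smul, herm_apply K, Finset.sum_apply, Pi.smul_apply, smul_eq_mul,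
        Finset.sum_mul, mul_assoc]
      rw [Finset.sum_comm]
      refine Finset.sum_eq_zero fun j _ => ?_
      rw [← Finset.mul_sum]
      have h1 := congrArg Subtype.val (hv (Pi.single j 1))
      change hermForm n F q (H *ᵥ emb (Pi.single j 1)) (H *ᵥ emb v) = 0 at h1
      rw [show emb (Pi.single j 1) = Pi.single j 1 from funext fun i => by
        by_cases hi : i = j <;> simp [emb, hi], herm_apply K] at h1
      rw [h1, mul_zero]
    funext i
    exact Subtype.ext (congrFun (hinj _ h0) i)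
  obtain ⟨b₁, hb₁⟩ := CfsgLib.Forms.exists_orthonormal_basis τ hτ
    (fun a => Subtype.ext (K.bar_bar a)) B₀ hS hN
  have hfr : Module.finrank L (Fin n → L) = n := by simp
  let b := b₁.reindex (finCongr hfr)
  have hb : ∀ i j, B₀ (b i) (b j) = if i = j then 1 else 0 := fun i j => by
    simp only [b, Module.Basis.reindex_apply, hb₁]
    simp
  let k₀ : Matrix (Fin n) (Fin n) F := Matrix.of fun i j => ((b j i : L) : F)
  set A := H * k₀ with hAdef
  have hcol : ∀ j, k₀ *ᵥ Pi.single j 1 = emb (b j) := fun j => funext fun i => by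
    rw [Matrix.mulVec_single_one]; rfl
  have hAJ : Aᵀ * A.map K.bar = 1 := by
    ext i j
    have e : hermForm n F q (A *ᵥ Pi.single i 1) (A *ᵥ Pi.single j 1) = if j = i then 1 else 0 := by
      rw [hAdef, ← mulVec_mulVec, ← mulVec_mulVec, hcol, hcol]
      have h1 := congrArg Subtype.val (hb j i)
      change hermForm n F q (H *ᵥ emb (b i)) (H *ᵥ emb (b j)) = _ at h1
      rw [h1]
      split_ifs <;> rfl
    rw [herm_apply K] at e
    simp only [Matrix.mulVec_single_one] at e
    rw [Matrix.mul_apply, Matrix.one_apply]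
    simpa [eq_comm] using e
  have hdet : A.det ≠ 0 := by
    intro h0
    have h1 := congrArg Matrix.det hAJ
    rw [det_mul, det_transpose, h0, zero_mul, det_one] at h1
    exact zero_ne_one h1
  let k : GL (Fin n) F := Matrix.GeneralLinearGroup.mkOfDetNeZero A hdet
  have hk : k ∈ GU n F q := (mem_GU_iff K).2 hAJ
  refine ⟨⟨k, hk⟩, ?_⟩
  show (carrier K hn p).delta d = _
  rw [← hdd]
  refine congrArg _ (eq_mul_inv_of_mul_eq (Subtype.ext (Units.ext ?_)))
  show ((d' : GL (Fin n) F) : Matrix (Fin n) (Fin n) F) * A.map σ = A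
  have hk₀ : k₀.map σ = k₀ := Matrix.ext fun i j => (b j i).2
  rw [hAdef, Matrix.map_mul, hk₀, hσh, ← Matrix.mul_assoc, ← Matrix.mul_assoc, Units.mul_inv,
    Matrix.one_mul]

include K p in
/-- Elements of prime order in the coset of a field automorphism. -/
theorem coset {f : ℕ} (hq : q = p ^ f) (hf : 1 ≤ f) (hn : 3 ≤ n) (h32 : ¬ (n = 3 ∧ q = 2))
    {x δ : MulAut (PSU n F q)} (hx : IsFieldAutClassPSU x) {r : ℕ}
    (hxr : orderOf x = r) (hδ : δ ∈ inndiagPSU n F q) :
    orderOf (δ * x) = r ↔ IsConjUnder (inndiagPSU n F q) x (δ * x) := by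
  obtain ⟨a, σ, hodd, hxa, hord⟩ := exists_field_rep K p hq hf hn h32 hx
  rw [inndiag_eq K p hn] at hδ ⊢
  exact (twist K p hn).coset_conjugacy hxa hxr
    (fun d hd => exists_cobound_eq K p hq hn (by rw [← hxr, hord]; exact hodd)
      (hord ▸ hxr) hd) hδ

set_option maxHeartbeats 1000000 in
include K p in
/-- Centraliser and splitting of a field automorphism of prime order. -/
theorem field_centralizer {f : ℕ} (hq : q = p ^ f) (hf : 1 ≤ f) (hn : 3 ≤ n)
    (h32 : ¬ (n = 3 ∧ q = 2)) {x : MulAut (PSU n F q)} (hx : IsFieldAutClassPSU x) {r : ℕ}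
    (hxr : orderOf x = r) (F₀ : Type v) [Field F₀] [Fintype F₀]
    (hF₀ : Fintype.card F₀ = p ^ (2 * (f / r))) :
    r ∣ f ∧ Nonempty (↥(inndiagPSU n F q ⊓ Subgroup.centralizer {x}) ≃*
        PGU n F₀ (p ^ (f / r))) ∧
      splitClassCount (inndiagPSU n F q) (Cfsg.Inn (PSU n F q)) x =
        Nat.gcd n ((q + 1) / (p ^ (f / r) + 1)) := by
  classical
  have : Nonempty (Fin n) := ⟨⟨0, by omega⟩⟩
  have hn0 : 0 < n := by omega
  obtain ⟨a, σ, hro, hxa, hord⟩ := exists_field_rep K p hq hf hn h32 hx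
  have hσ : orderOf σ = r := hord ▸ hxr
  rw [hσ] at hro
  obtain ⟨hrf, hK, hsub⟩ := exists_sub K p hq hro hσ
  set q₀ := p ^ (f / r) with hq₀
  have : Fintype (fixedField σ) := Fintype.ofFinite _
  let e : F₀ ≃+* fixedField σ := FiniteField.ringEquivOfCardEq (by
    rw [hF₀, ← Nat.card_eq_fintype_card, hK])
  let ι : F₀ →+* F := (fixedField σ).subtype.comp e.toRingHom
  have hι : Function.Injective ι := Subtype.val_injective.comp e.injective
  have hιfix : ∀ y, σ (ι y) = ι y := fun y => (e y).2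
  have hιsurj : ∀ z, σ z = z → ∃ y, ι y = z := fun z hz => ⟨e.symm ⟨z, hz⟩, by
    show ((e (e.symm ⟨z, hz⟩) : fixedField σ) : F) = z
    rw [e.apply_symm_apply]⟩
  have : CharP F₀ p := CfsgLib.AutPSL.charP_of_card hF₀
  obtain ⟨K₀⟩ := exists_conj (F := F₀) (q := q₀) rfl (by
    rw [Nat.card_eq_fintype_card, hF₀, hq₀, ← pow_mul, mul_comm])
  have hιbar : ∀ y, K.bar (ι y) = ι (K₀.bar y) := fun y => by
    rw [hsub _ (hιfix y), K₀.bar_apply, map_pow]
  have hiff : ∀ u : GL (Fin n) F₀,
      Units.map ι.mapMatrix.toMonoidHom u ∈ GU n F q ↔ u ∈ GU n F₀ q₀ := fun u => by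
    rw [mem_GU_iff K, mem_GU_iff K₀]
    show ((u : Matrix (Fin n) (Fin n) F₀).map ι)ᵀ * ((u : Matrix (Fin n) (Fin n) F₀).map ι).map K.bar = 1 ↔ _
    rw [show ((u : Matrix (Fin n) (Fin n) F₀).map ι).map K.bar =
      ((u : Matrix (Fin n) (Fin n) F₀).map K₀.bar).map ι from Matrix.ext fun i j => hιbar _,
      ← Matrix.transpose_map, ← Matrix.map_mul]
    constructor
    · intro h
      apply Matrix.map_injective hι
      show _ = (1 : Matrix (Fin n) (Fin n) F₀).map ι
      rw [Matrix.map_one _ (map_zero ι) (map_one ι)]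
      exact h
    · intro h
      rw [h, Matrix.map_one _ (map_zero ι) (map_one ι)]
  let θ₀ : GL (Fin n) F₀ →* GL (Fin n) F := Units.map ι.mapMatrix.toMonoidHom
  have hθ : ∀ u : GU n F₀ q₀, θ₀ (u : GL (Fin n) F₀) ∈ GU n F q := fun u => (hiff _).2 u.2
  let θ : GU n F₀ q₀ →* GU n F q :=
    MonoidHom.mk' (fun u => (⟨θ₀ (u : GL (Fin n) F₀), hθ u⟩ : GU n F q))
      fun a b => Subtype.ext (θ₀.map_mul (a : GL (Fin n) F₀) (b : GL (Fin n) F₀))
  have hθfix : ∀ u, (twist K p hn).act σ (θ u) = θ u := fun u =>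
    Subtype.ext (Units.ext (Matrix.ext fun i j => hιfix _))
  have hsurj : ∀ g : GU n F q,
      (twist K p hn).δ ((twist K p hn).act σ g) = (twist K p hn).δ g →
      ∃ (c : Fˣ) (hc : scal c ∈ GU n F q) (u : GU n F₀ q₀),
        g = ⟨scal c, hc⟩ * θ u := by
    intro g hg
    obtain ⟨c, g₁, hg₁, hfix⟩ :=
      (carrier K hn p).exists_fixed p (exists_frame K hn).some
        (fun lam hlm hlam =>
          let ⟨d, hdm, hd⟩ := exists_div_normOne K hro hσ
            ((mem_normOne K).2 (mem_normOne_of_scal K hn0 hlm)) hlam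
          ⟨d, (scal_mem_iff K hn0 d).2 ((mem_normOne K).1 hdm), hd⟩) hσ hg
    have hc : scal c ∈ GU n F q := by
      have h := (GU n F q).mul_mem g.2 ((GU n F q).inv_mem g₁.2)
      rwa [hg₁, mul_inv_cancel_right] at h
    have he : ∀ i j, σ (((g₁ : GL (Fin n) F) : Matrix (Fin n) (Fin n) F) i j) =
        ((g₁ : GL (Fin n) F) : Matrix (Fin n) (Fin n) F) i j := fun i j =>
      congrFun (congrFun (congrArg (fun g : GL (Fin n) F => (g : Matrix (Fin n) (Fin n) F)) hfix) i) j
    choose M hM using fun i j => hιsurj _ (he i j)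
    have hmap : (Matrix.of M).map ι = ((g₁ : GL (Fin n) F) : Matrix (Fin n) (Fin n) F) :=
      Matrix.ext hM
    have hdet : (Matrix.of M).det ≠ 0 := fun h0 => by
      apply ((Matrix.isUnit_iff_isUnit_det _).1 (g₁ : GL (Fin n) F).isUnit).ne_zero
      rw [← hmap, ← RingHom.mapMatrix_apply, ← RingHom.map_det, h0, map_zero]
    have hu : Units.map ι.mapMatrix.toMonoidHom
        (Matrix.GeneralLinearGroup.mkOfDetNeZero _ hdet) = (g₁ : GL (Fin n) F) := Units.ext hmap
    have hmem : Matrix.GeneralLinearGroup.mkOfDetNeZero _ hdet ∈ GU n F₀ q₀ :=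
      (hiff (Matrix.GeneralLinearGroup.mkOfDetNeZero _ hdet)).1 (by rw [hu]; exact g₁.2)
    refine ⟨c, hc, ⟨Matrix.GeneralLinearGroup.mkOfDetNeZero _ hdet, hmem⟩, ?_⟩
    apply Subtype.ext
    show (g : GL (Fin n) F) = scal c *
      Units.map ι.mapMatrix.toMonoidHom (Matrix.GeneralLinearGroup.mkOfDetNeZero _ hdet)
    rw [hu]
    exact hg₁
  refine ⟨hrf, ?_, ?_⟩
  · rw [inndiag_eq K p hn]
    refine (twist K p hn).exists_centralizer_equiv hxa θ (fun u => by rw [hθfix]) (fun g hg => ?_)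
      ((Geo.scalars (Fin n) F₀).subgroupOf (GU n F₀ q₀)) fun u => ?_
    · obtain ⟨c, hc, u, rfl⟩ := hsurj g hg
      refine ⟨u, ?_⟩
      rw [map_mul, show (twist K p hn).δ ⟨scal c, hc⟩ = 1 from
        (carrier K hn p).delta_eq_one_of_scalar (scal_coe c), one_mul]
    · rw [Subgroup.mem_subgroupOf, Geo.mem_scalars_iff]
      refine Iff.trans ?_ (Iff.symm
        ((carrier K hn p).delta_eq_one_iff p (exists_frame K hn).some (g := θ u)))
      constructor
      · rintro ⟨c, hc⟩
        refine ⟨ι c, ?_⟩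
        show ((u : GL (Fin n) F₀) : Matrix (Fin n) (Fin n) F₀).map ι = _
        rw [hc]
        ext i j
        by_cases h : i = j <;> simp [h]
      · rintro ⟨b, hb⟩
        have hb' : ∀ i j, ι (((u : GL (Fin n) F₀) : Matrix (Fin n) (Fin n) F₀) i j) =
            if i = j then b else 0 := fun i j => by
          have h2 := congrFun (congrFun hb i) j
          change ι (((u : GL (Fin n) F₀) : Matrix (Fin n) (Fin n) F₀) i j) = _ at h2
          rw [h2]
          by_cases h : i = j <;> simp [h]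
        set i₀ : Fin n := ⟨0, hn0⟩
        have hval : ((u : GL (Fin n) F₀) : Matrix (Fin n) (Fin n) F₀) =
            ((u : GL (Fin n) F₀) : Matrix (Fin n) (Fin n) F₀) i₀ i₀ • 1 := by
          ext i j
          apply hι
          rw [hb']
          by_cases h : i = j <;> simp [h, hb']
        obtain ⟨c, hc⟩ := exists_scal_of_smul hval
        exact ⟨c, by rw [hc, scal_coe]⟩
  · rw [inndiag_eq K p hn, Twist.splitClassCount_eq
      (A := normOne K ⧸ (powMonoidHom n : normOne K →* normOne K).range)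
      (twist K p hn) (nu n K) (fun g => nu_eq_one_iff K p hn g) hxa
      (((fixedUnits σ).subgroupOf (normOne K)).map
        (QuotientGroup.mk' (powMonoidHom n : normOne K →* normOne K).range)) ?_ ?_]
    · rw [MonoidHom.range_eq_top.2 (nu_surjective K hn0), Subgroup.relIndex_top_right,
        Subgroup.index_map, QuotientGroup.ker_mk',
        MonoidHom.range_eq_top.2 (QuotientGroup.mk'_surjective _), Subgroup.index_top, mul_one,
        sup_comm]
      set M := (q + 1) / (q₀ + 1) with hM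
      have hdvd : q₀ + 1 ∣ q + 1 := by
        obtain ⟨k, hk⟩ := hrf
        have h := Odd.nat_add_dvd_pow_add_pow (x := q₀) (y := 1) hro
        rw [one_pow] at h
        rwa [hq, hk, mul_comm r k, pow_mul, show p ^ k = q₀ by
          rw [hq₀, hk, Nat.mul_div_cancel_left k hro.pos]]
      have hcard0 : Nat.card ((fixedUnits σ).subgroupOf (normOne K)) = q₀ + 1 := by
        rw [← card_normOne K₀]
        refine (Nat.card_eq_of_bijective
          (fun c : normOne K₀ => (⟨⟨Units.map ι.toMonoidHom (c : F₀ˣ), (mem_normOne K).2 ?_⟩, ?_⟩ :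
            (fixedUnits σ).subgroupOf (normOne K))) ⟨?_, ?_⟩).symm
        · show ι ((c : F₀ˣ) : F₀) * K.bar (ι ((c : F₀ˣ) : F₀)) = 1
          rw [hιbar, ← map_mul, (mem_normOne K₀).1 c.2, map_one]
        · exact hιfix _
        · intro c c' h
          exact Subtype.ext (Units.ext (hι (congrArg
            (fun z : (fixedUnits σ).subgroupOf (normOne K) => (((z : normOne K) : Fˣ) : F)) h)))
        · rintro ⟨⟨z, hz⟩, hzσ⟩
          obtain ⟨y, hy⟩ := hιsurj (z : F) hzσ
          have hy0 : y ≠ 0 := fun h => z.ne_zero (by rw [← hy, h, map_zero])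
          refine ⟨⟨Units.mk0 y hy0, (mem_normOne K₀).2 (hι ?_)⟩,
            Subtype.ext (Subtype.ext (Units.ext hy))⟩
          show ι (y * K₀.bar y) = ι 1
          rw [map_mul, ← hιbar, hy, map_one]
          exact (mem_normOne K).1 hz
      rw [eq_range_pow ((fixedUnits σ).subgroupOf (normOne K)) M (by rw [hcard0, card_normOne, hM, Nat.mul_div_cancel' hdvd]),
        range_pow_sup, index_range_pow, card_normOne]
      exact Nat.gcd_eq_right ((Nat.gcd_dvd_right n M).trans (Nat.div_dvd_of_dvd hdvd))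
    · intro g hg
      obtain ⟨c, hc, u, rfl⟩ := hsurj g hg
      refine ⟨det1 n K (θ u), ?_, ?_⟩
      · show σ ((((u : GL (Fin n) F₀) : Matrix (Fin n) (Fin n) F₀).map ι).det) = _
        rw [← RingHom.mapMatrix_apply, ← RingHom.map_det]
        exact (hιfix _).trans (RingHom.map_det ι _)
      · rw [map_mul, show nu n K ⟨scal c, hc⟩ = 1 from (QuotientGroup.eq_one_iff _).2
          ⟨⟨c, (mem_normOne K).2 (mem_normOne_of_scal K hn0 hc)⟩, Subtype.ext (Units.ext ?_)⟩,
          one_mul]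
        · rfl
        · show ((c ^ n : Fˣ) : F) = (((scal c : GL (Fin n) F) : Matrix (Fin n) (Fin n) F)).det
          rw [scal_coe, det_smul, det_one, mul_one, Fintype.card_fin, Units.val_pow_eq_pow_val]
    · rintro _ ⟨c, hc, rfl⟩
      refine ⟨diag1 K hn0 c, congrArg (QuotientGroup.mk' _) (det1_diag1 K hn0 c), ?_⟩
      refine congrArg _ (Subtype.ext ?_)
      show mapGL σ (detGL ⟨0, hn0⟩ (c : Fˣ)) = detGL ⟨0, hn0⟩ (c : Fˣ)
      rw [detGL_zero_comm]
      exact congrArg _ (Units.ext hc)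

end CfsgLib.ClassicalAut.Unitary
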