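import Cfsg.Agent.Lib.ClassicalAut.UnitaryBalanceGraph
import Cfsg.Agent.Lib.ClassicalAut.UnitaryField
import Cfsg.Agent.Lib.Classical.GUQuotient

set_option autoImplicit false
set_option linter.unusedSectionVars false

/-!
Semisimilarities commuting with `SU_n` over a subfield.
-/

namespace CfsgLib.ClassicalAut.Unitary

open Matrix Cfsg CfsgLib.AutPSL
open CfsgLib.ClassicalAut (scal scal_coe scal_mul_coe)
open CfsgLib.Classical (Herm.diag_mem Herm.card_SU)

universe u v

variable {F : Type u} [Field F] [Finite F] {q n : ℕ}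

/-- A field automorphism fixing the fixed field of `σ` is a power of `σ`. -/
theorem mem_zpowers_of_fixed {σ τ : F ≃+* F} (hτ : ∀ c, σ c = c → τ c = c) : τ ∈ Subgroup.zpowers σ := by
  classical
  let G := Subgroup.zpowers σ
  have : FaithfulSMul G F := ⟨fun {a b} h => Subtype.ext (RingEquiv.ext h)⟩
  have : Finite (F ≃+* F) := Finite.of_injective (fun e => (e : F → F)) DFunLike.coe_injective
  have : Fintype G := Fintype.ofFinite G
  let t : F ≃ₐ[FixedPoints.subfield G F] F :=
    AlgEquiv.ofRingEquiv (f := τ) fun c => hτ c (c.2 ⟨σ, Subgroup.mem_zpowers σ⟩)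
  obtain ⟨e, he⟩ := (FixedPoints.toAlgAutMulEquiv G F).surjective t
  have he' : (e : F ≃+* F) = τ :=
    RingEquiv.ext fun x => congrArg (fun e : F ≃ₐ[FixedPoints.subfield G F] F => e x) he
  exact he' ▸ e.2

variable (K : Conj F q)

include K in
/-- The norm-one group contains an element different from its inverse. -/
theorem exists_normOne_sq_ne : ∃ a : normOne K, a ^ 2 ≠ 1 := by
  obtain ⟨a, ha⟩ := IsCyclic.exists_ofOrder_eq_natCard (α := normOne K)
  refine ⟨a, fun h => ?_⟩
  have h1 := Nat.le_of_dvd (by norm_num) (orderOf_dvd_of_pow_eq_one h)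
  rw [ha, card_normOne] at h1
  have := K.two_le
  omega

include K in
theorem card_PGU (hn : 1 ≤ n) : Nat.card (PGU n F q) = Nat.card (SU n F q) := by
  haveI : Nonempty (Fin n) := ⟨⟨0, hn⟩⟩
  let e : normOne K →* ↥((Geo.scalars (Fin n) F).subgroupOf (GU n F q)) := MonoidHom.mk'
    (fun c => ⟨⟨scal (c : Fˣ), (scal_mem_iff K hn _).2 ((mem_normOne K).1 c.2)⟩,
      (Geo.mem_scalars_iff _).2 ⟨c, scal_coe _⟩⟩)
    fun a b => Subtype.ext (Subtype.ext (map_mul scal (a : Fˣ) (b : Fˣ)))
  have he : Function.Bijective e := by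
    constructor
    · intro a b h
      have h1 := congrFun (congrFun (congrArg (fun g : GL (Fin n) F => (g : Matrix (Fin n) (Fin n) F))
        (congrArg Subtype.val (congrArg Subtype.val h))) ⟨0, hn⟩) ⟨0, hn⟩
      change ((scal (a : Fˣ) : GL (Fin n) F) : Matrix (Fin n) (Fin n) F) _ _ = ((scal (b : Fˣ) : GL (Fin n) F) : Matrix (Fin n) (Fin n) F) _ _ at h1
      rw [scal_coe, scal_coe] at h1
      exact Subtype.ext (Units.ext (by simpa using h1))
    · rintro ⟨g, hg⟩
      obtain ⟨c, hc⟩ := (Geo.mem_scalars_iff _).1 hg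
      obtain ⟨c', hc'⟩ := exists_scal_of_smul hc
      exact ⟨⟨c', (mem_normOne K).2 ((scal_mem_iff K hn _).1 (hc' ▸ g.2))⟩, Subtype.ext (Subtype.ext hc'.symm)⟩
  have h1 := Subgroup.card_eq_card_quotient_mul_card_subgroup ((Geo.scalars (Fin n) F).subgroupOf (GU n F q))
  rw [← Nat.card_congr (MulEquiv.ofBijective e he).toEquiv, card_normOne] at h1
  refine Nat.eq_of_mul_eq_mul_left (Nat.succ_pos q) ?_
  rw [CfsgLib.Classical.Herm.card_SU K hn, mul_comm, h1]

include K in
/-- A matrix intertwining `SU_n` with its image under a field map is scalar. -/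
theorem scalar_of_mono_rel {L : Type v} [Field L] (hn : 3 ≤ n) (ι : F →+* L) (τ : L ≃+* L) (w : GL (Fin n) L)
    (hrel : ∀ s : SU n F q, ∃ l : L, (w : Matrix (Fin n) (Fin n) L) * ((s.1.1).map ι).map τ =
      l • ((s.1.1).map ι * (w : Matrix (Fin n) (Fin n) L))) :
    (∃ c : L, (w : Matrix (Fin n) (Fin n) L) = c • 1) ∧ ∀ a : normOne K, τ (ι ((a : Fˣ) : F)) = ι ((a : Fˣ) : F) := by
  classical
  set W : Matrix (Fin n) (Fin n) L := (w : Matrix (Fin n) (Fin n) L)
  -- diagonal elements
  have hdiag : ∀ (d : Fin n → Fˣ), (∀ i, (d i : F) * K.bar (d i) = 1) → (∏ i, (d i : F) = 1) →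
      ∃ l : L, ∀ i j, W i j * τ (ι (d j : F)) = l * (ι (d i : F) * W i j) := by
    intro d hd hdet
    obtain ⟨g, hg⟩ := CfsgLib.Classical.Herm.diag_mem K d hd
    let s : SU n F q :=
      ⟨⟨((g : GL (Fin n) F) : Matrix (Fin n) (Fin n) F), by rw [hg, det_diagonal, hdet]⟩, fun u v => g.2 u v⟩
    obtain ⟨l, hl⟩ := hrel s
    refine ⟨l, fun i j => ?_⟩
    have h := congrFun (congrFun hl i) j
    rw [show (s.1.1 : Matrix (Fin n) (Fin n) F) = diagonal fun i => (d i : F) from hg,
      diagonal_map (map_zero ι), diagonal_map (map_zero τ)] at h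
    simpa [Matrix.smul_apply, mul_diagonal, diagonal_mul] using h
  -- `w` is monomial
  obtain ⟨a, ha⟩ := exists_normOne_sq_ne K
  have hcol : ∀ i k j, i ≠ k → W i j ≠ 0 → W k j = 0 := by
    intro i k j hik hij
    by_contra hkj
    let d : Fin n → Fˣ := fun m => if m = i then (a : Fˣ) else if m = k then ((a⁻¹ : normOne K) : Fˣ) else 1
    have hd : ∀ m, (d m : F) * K.bar (d m) = 1 := fun m => by
      simp only [d]
      split_ifs
      · exact (mem_normOne K).1 a.2
      · exact (mem_normOne K).1 (a⁻¹).2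
      · simp
    have hdet : ∏ m, (d m : F) = 1 := by
      rw [Finset.prod_eq_mul_of_mem i k (Finset.mem_univ _) (Finset.mem_univ _) hik
        (fun m _ hm => by simp [d, hm.1, hm.2])]
      simp [d, hik.symm]
    obtain ⟨l, hl⟩ := hdiag d hd hdet
    have h1 : τ (ι (d j : F)) = l * ι (d i : F) :=
      mul_left_cancel₀ hij (by linear_combination hl i j)
    have h2 : τ (ι (d j : F)) = l * ι (d k : F) :=
      mul_left_cancel₀ hkj (by linear_combination hl k j)
    have hl0 : l ≠ 0 := fun h0 => by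
      rw [h0, zero_mul] at h1
      exact (d j).ne_zero ((map_eq_zero ι).1 ((map_eq_zero τ).1 h1))
    have h3 : d i = d k := Units.ext (ι.injective (mul_left_cancel₀ hl0 (h1.symm.trans h2)))
    simp [d, hik.symm] at h3
    refine ha (Subtype.ext ?_)
    rw [SubmonoidClass.coe_pow, sq]
    exact mul_eq_one_iff_eq_inv.2 h3
  have hpiv : ∀ j, ∃ i, W i j ≠ 0 := fun j => by
    by_contra hc
    push Not at hc
    exact w.det_ne_zero (det_eq_zero_of_column_eq_zero j hc)
  -- signed transpositions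
  have hT : ∀ i k : Fin n, i ≠ k → ∃ l : L, l ≠ 0 ∧ ∀ x,
      W x k = l * (if x = i then -W k i else if x = k then W i i else W x i) ∧
        (∀ y, y ≠ i → y ≠ k → W x y = l * (if x = i then -W k y else if x = k then W i y else W x y)) := by
    intro i k hik
    obtain ⟨g, hg⟩ := CfsgLib.Classical.Herm.perm_mem (F := F) (q := q) (Equiv.swap i k)
    obtain ⟨e, he⟩ := CfsgLib.Classical.Herm.diag_mem K (Function.update (fun _ : Fin n => (1 : Fˣ)) i (-1))
      (fun m => by rcases eq_or_ne m i with rfl | hm <;> simp [*])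
    have hM : (((e * g : GU n F q) : GL (Fin n) F) : Matrix (Fin n) (Fin n) F) =
        diagonal (fun m => if m = i then (-1 : F) else 1) * (Equiv.swap i k).permMatrix F := by
      rw [Subgroup.coe_mul, Units.val_mul, hg, he]
      congr 2
      funext m
      rcases eq_or_ne m i with rfl | hm <;> simp [*]
    let s : SU n F q := ⟨⟨_, show (((e * g : GU n F q) : GL (Fin n) F) : Matrix (Fin n) (Fin n) F).det = 1 by
      rw [hM, det_mul, det_diagonal, Finset.prod_ite_eq' Finset.univ i, det_permutation,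
        Equiv.Perm.sign_swap hik]
      simp⟩, fun u v => (e * g).2 u v⟩
    obtain ⟨l, hl⟩ := hrel s
    have hmap : ∀ {R : Type v} [CommRing R] (f : F →+* R), s.1.1.map f =
        diagonal (fun m => if m = i then (-1 : R) else 1) * (Equiv.swap i k).permMatrix R := fun f => by
      rw [show s.1.1 = _ from hM]
      ext x y
      simp [diagonal_mul, Equiv.Perm.permMatrix, PEquiv.toMatrix_apply, apply_ite f]
    have hmap2 : (s.1.1.map ι).map τ = s.1.1.map (τ.toRingHom.comp ι) := Matrix.ext fun _ _ => rfl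
    rw [hmap2, hmap, hmap] at hl
    have hent : ∀ x y, W x ((Equiv.swap i k) y) * (if Equiv.swap i k y = i then (-1 : L) else 1) =
        l * ((if x = i then (-1 : L) else 1) * W ((Equiv.swap i k) x) y) := fun x y => by
      have h := congrFun (congrFun hl x) y
      rw [← Matrix.mul_assoc, Matrix.mul_assoc _ ((Equiv.swap i k).permMatrix L) W] at h
      simpa [Equiv.Perm.permMatrix, PEquiv.toMatrix_toPEquiv_mul, PEquiv.mul_toMatrix_toPEquiv,
        diagonal_mul, mul_diagonal, Matrix.smul_apply, Equiv.symm_swap] using h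
    refine ⟨l, fun h0 => ?_, fun x => ⟨?_, fun y hyi hyk => ?_⟩⟩
    · obtain ⟨x, hx⟩ := hpiv ((Equiv.swap i k) i)
      have h := hent x i
      rw [h0, zero_mul] at h
      rcases mul_eq_zero.1 h with h | h
      · exact hx h
      · split_ifs at h <;> simp at h
    · have h := hent x i
      simp only [Equiv.swap_apply_left, if_neg hik.symm, mul_one] at h
      rw [h]
      split_ifs with h1 h2
      · subst h1; simp
      · subst h2; simp
      · simp [Equiv.swap_apply_of_ne_of_ne h1 h2]
    · have h := hent x y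
      simp only [Equiv.swap_apply_of_ne_of_ne hyi hyk, if_neg hyi, mul_one] at h
      refine h.trans ?_
      split_ifs with h1 h2
      · subst h1; simp
      · subst h2; simp
      · simp [Equiv.swap_apply_of_ne_of_ne h1 h2]
  have hoff : ∀ x y, x ≠ y → W x y = 0 := by
    intro x y hxy
    obtain ⟨k, hk, hky⟩ : ∃ k, k ≠ x ∧ k ≠ y := by
      obtain ⟨k, -, hk⟩ := Finset.exists_mem_notMem_of_card_lt_card (s := ({x, y} : Finset (Fin n)))
        (t := Finset.univ) (lt_of_le_of_lt Finset.card_le_two (by rw [Finset.card_univ, Fintype.card_fin]; omega))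
      simp only [Finset.mem_insert, Finset.mem_singleton, not_or] at hk
      exact ⟨k, hk.1, hk.2⟩
    obtain ⟨l, hl0, hl⟩ := hT x k hk.symm
    by_contra hne
    have h := (hl x).2 y hxy.symm (Ne.symm hky)
    rw [if_pos rfl, hcol x k y hk.symm hne, neg_zero, mul_zero] at h
    exact hne h
  have hdd : ∀ y, W y y ≠ 0 := fun y hy => by
    obtain ⟨x, hx⟩ := hpiv y
    exact hx (if e : x = y then e ▸ hy else hoff x y e)
  have heq : ∀ i k, i ≠ k → W i i = W k k := by
    intro i k hik
    obtain ⟨l, hl0, hl⟩ := hT i k hik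
    obtain ⟨m, -, hm⟩ := Finset.exists_mem_notMem_of_card_lt_card (s := ({i, k} : Finset (Fin n)))
      (t := Finset.univ) (lt_of_le_of_lt Finset.card_le_two (by rw [Finset.card_univ, Fintype.card_fin]; omega))
    simp only [Finset.mem_insert, Finset.mem_singleton, not_or] at hm
    have h1 := (hl k).1
    rw [if_neg hik.symm, if_pos rfl] at h1
    have h2 := (hl m).2 m hm.1 hm.2
    rw [if_neg hm.1, if_neg hm.2] at h2
    have hl1 : l = 1 := mul_right_cancel₀ (hdd m) (by linear_combination -h2)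
    rw [h1, hl1, one_mul]
  let i₀ : Fin n := ⟨0, by omega⟩
  refine ⟨⟨W i₀ i₀, Matrix.ext fun x y => ?_⟩, fun b => ?_⟩
  · rcases eq_or_ne x y with rfl | hxy
    · rcases eq_or_ne x i₀ with rfl | hx
      · simp
      · simp [heq x i₀ hx]
    · simp [hoff x y hxy, hxy]
  · let i₁ : Fin n := ⟨1, by omega⟩
    let i₂ : Fin n := ⟨2, by omega⟩
    have h01 : i₁ ≠ i₀ := by simp [i₀, i₁]
    have h02 : i₂ ≠ i₀ := by simp [i₀, i₂]
    have h12 : i₂ ≠ i₁ := by simp [i₁, i₂]
    let d : Fin n → Fˣ := fun m => if m = i₀ then (b : Fˣ) else if m = i₁ then ((b⁻¹ : normOne K) : Fˣ) else 1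
    have hd : ∀ m, (d m : F) * K.bar (d m) = 1 := fun m => by
      simp only [d]
      split_ifs
      · exact (mem_normOne K).1 b.2
      · exact (mem_normOne K).1 (b⁻¹).2
      · simp
    have hdet : ∏ m, (d m : F) = 1 := by
      rw [Finset.prod_eq_mul_of_mem i₀ i₁ (Finset.mem_univ _) (Finset.mem_univ _) h01.symm
        (fun m _ hm => by simp [d, hm.1, hm.2])]
      simp [d, h01]
    obtain ⟨l, hl⟩ := hdiag d hd hdet
    have h2 := hl i₂ i₂
    simp [d, h02, h12] at h2
    have hl1 : l = 1 := mul_right_cancel₀ (hdd i₂) (by linear_combination -h2)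
    refine mul_left_cancel₀ (hdd i₀) ?_
    have h0 := hl i₀ i₀
    simp [d, hl1] at h0
    linear_combination h0

variable (p : ℕ) [Fact p.Prime] [CharP F p] (hn : 3 ≤ n)

include K p hn in
/-- Semisimilarities centralising `SU_n` over the fixed field. -/
theorem field_cent_aux {σ : F ≃+* F} {q₀ : ℕ} (K₀ : Conj (fixedField σ) q₀) (w : GU n F q) (τ : F ≃+* F)
    (hfix : ∀ s : SU n (fixedField σ) q₀, ∃ S : SU n F q, S.1.1 = s.1.1.map (fixedField σ).subtype ∧
      ((twist K p hn).δ w * (twist K p hn).φ τ) (QuotientGroup.mk S) = (QuotientGroup.mk S : PSU n F q)) :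
    (twist K p hn).δ w * (twist K p hn).φ τ ∈ Subgroup.zpowers ((twist K p hn).φ σ) := by
  have hrel : ∀ s : SU n (fixedField σ) q₀, ∃ l : F, ((w : GL (Fin n) F) : Matrix (Fin n) (Fin n) F) *
      ((s.1.1).map (fixedField σ).subtype).map τ =
        l • ((s.1.1).map (fixedField σ).subtype * ((w : GL (Fin n) F) : Matrix (Fin n) (Fin n) F)) := by
    intro s
    obtain ⟨S, hS, hfixS⟩ := hfix s
    obtain ⟨g', hg', hg'S⟩ := (carrier K hn p).mem_H S
    let T : SU n F q :=
      ⟨⟨S.1.1.map τ, by rw [show (S.1.1.map τ).det = τ (S.1.1).det from (RingHom.map_det τ.toRingHom _).symm, S.1.2, map_one]⟩,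
        fun u v => ((carrier K hn p).map_H τ (Matrix.SpecialLinearGroup.toGL S.1) (fun u v => S.2 u v)) u v⟩
    have hφ : (twist K p hn).φ τ (QuotientGroup.mk S) = (QuotientGroup.mk T : PSU n F q) :=
      (carrier K hn p).fieldAut_spec τ S T (by
        show (T.1 : Matrix (Fin n) (Fin n) F) = _ * _ * _
        rw [inv_one, Units.val_one, Matrix.one_mul, Matrix.mul_one]; rfl)
    rw [MulAut.mul_apply, hφ, delta_mk K p hn] at hfixS
    have hz := QuotientGroup.eq.1 hfixS
    obtain ⟨c, hc⟩ := (CfsgLib.Classical.Herm.center_iff K (by omega) _).1 hz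
    -- `S = conj(T) * c`
    have hmat : S.1.1 = c • (((w : GL (Fin n) F) : Matrix (Fin n) (Fin n) F) * T.1.1 *
        (((w : GL (Fin n) F)⁻¹ : GL (Fin n) F) : Matrix (Fin n) (Fin n) F)) := by
      have e : S = conjSU w T * ((conjSU w T)⁻¹ * S) := (mul_inv_cancel_left _ _).symm
      calc S.1.1 = (conjSU w T).1.1 * ((conjSU w T)⁻¹ * S).1.1 := congrArg (fun x : SU n F q => x.1.1) e
        _ = _ := by
          rw [hc, Matrix.mul_smul, Matrix.mul_one]
          rfl
    refine ⟨c⁻¹, ?_⟩
    have hc0 : c ≠ 0 := fun h0 => by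
      have hd := S.1.2
      haveI : Nonempty (Fin n) := ⟨⟨0, by omega⟩⟩
      rw [hmat, h0, zero_smul, Matrix.det_zero] at hd
      exact zero_ne_one hd
    rw [← hS, show S.1.1.map τ = T.1.1 from rfl]
    conv_rhs => rw [hmat, Matrix.smul_mul, smul_smul, inv_mul_cancel₀ hc0, one_smul,
      Matrix.mul_assoc, Units.inv_mul, Matrix.mul_one]
  obtain ⟨⟨c, hc⟩, hτ⟩ := scalar_of_mono_rel K₀ hn (fixedField σ).subtype τ (w : GL (Fin n) F) hrel
  have hw : (twist K p hn).δ w = 1 := (carrier K hn p).delta_eq_one_of_scalar hc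
  rw [hw, one_mul]
  have hτ' : ∀ y : fixedField σ, τ (y : F) = y := by
    have hM : q₀ - 1 < Nat.card (normOne K₀) := by rw [card_normOne]; omega
    intro y
    have hy : y ∈ AddSubgroup.closure {a : fixedField σ | ∃ u ∈ normOne K₀, (u : fixedField σ) = a} := by
      rw [closure_eq_top K₀ _ hM]; trivial
    induction hy using AddSubgroup.closure_induction with
    | mem x hx => obtain ⟨u, hu, rfl⟩ := hx; exact hτ ⟨u, hu⟩
    | zero => exact map_zero τ
    | add x y _ _ hx hy => rw [Subfield.coe_add, map_add, hx, hy]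
    | neg x _ hx => rw [Subfield.coe_neg, map_neg, hx]
  obtain ⟨k, hk⟩ := Subgroup.mem_zpowers_iff.1 (mem_zpowers_of_fixed (σ := σ) (τ := τ) fun c hc => hτ' ⟨c, hc⟩)
  exact ⟨k, by show (twist K p hn).φ σ ^ k = _; rw [← map_zpow, hk]⟩

end CfsgLib.ClassicalAut.Unitary
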