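import Cfsg.Agent.Lib.ClassicalAut.UnitaryBalanceModels
import Cfsg.Agent.Lib.ClassicalAut.UnitaryBalanceCent
import Cfsg.Agent.Lib.ClassicalAut.UnitaryField
import Cfsg.Agent.Lib.Classical.UnitarySimple
import Cfsg.Agent.Lib.Classical.GUQuotient
import Cfsg.Agent.Lib.Classical.PSUThreeTwo

set_option autoImplicit false
set_option linter.unusedSectionVars false

/-!
Local balance at field automorphisms of `PSU_n(q)`.
-/

namespace CfsgLib.ClassicalAut.Unitary

open Matrix Cfsg CfsgLib.AutPSL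
open CfsgLib.ClassicalAut (scal scal_coe scal_mul_coe)
open CfsgLib.ClassicalAut.Balance (Fix)
open CfsgLib.Classical (Herm.center_iff Herm.card_center Herm.card_SU)

universe u v

section Groups

variable {F : Type u} [Field F] [Finite F] {q n : ℕ} (K : Conj F q)

include K in
/-- A special unitary matrix from a unitary diagonal. -/
theorem exists_diag_SU (d : Fin n → Fˣ) (hd : ∀ i, (d i : F) * K.bar (d i) = 1) (hdet : ∏ i, (d i : F) = 1) :
    ∃ s : SU n F q, (s.1 : Matrix (Fin n) (Fin n) F) = diagonal fun i => (d i : F) := by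
  obtain ⟨g, hg⟩ := CfsgLib.Classical.Herm.diag_mem K d hd
  exact ⟨⟨⟨((g : GL (Fin n) F) : Matrix (Fin n) (Fin n) F), by rw [hg, det_diagonal, hdet]⟩,
    fun u v => g.2 u v⟩, hg⟩

include K in
/-- The order of the centre times a prime dividing it divides the order of `SU_n`. -/
theorem center_mul_dvd (hn : 3 ≤ n) {r : ℕ} (hr : r ∣ Nat.card (Subgroup.center (SU n F q))) :
    Nat.card (Subgroup.center (SU n F q)) * r ∣ Nat.card (SU n F q) := by
  let N := normOne K
  let i₀ : Fin n := ⟨0, by omega⟩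
  let i₁ : Fin n := ⟨1, by omega⟩
  let i₂ : Fin n := ⟨2, by omega⟩
  let d : N × N → Fin n → Fˣ := fun ab i =>
    if i = i₀ then (ab.1 : Fˣ) else if i = i₁ then (ab.2 : Fˣ) else if i = i₂ then ((ab.1 * ab.2)⁻¹ : N) else 1
  have hd : ∀ ab i, (d ab i : F) * K.bar (d ab i) = 1 := fun ab i => by
    show ((d ab i : Fˣ) : F) * _ = 1
    simp only [d]
    split_ifs
    · exact (mem_normOne K).1 ab.1.2
    · exact (mem_normOne K).1 ab.2.2
    · exact (mem_normOne K).1 ((ab.1 * ab.2)⁻¹).2
    · simp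
  have h01 : i₁ ≠ i₀ := by simp [i₀, i₁]
  have h02 : i₂ ≠ i₀ := by simp [i₀, i₂]
  have h12 : i₂ ≠ i₁ := by simp [i₁, i₂]
  have hdet : ∀ ab, ∏ i, (d ab i : F) = 1 := fun ab => by
    rw [← Units.coe_prod, show (∏ i, d ab i) = 1 from ?_, Units.val_one]
    rw [Finset.prod_eq_mul_prod_diff_singleton_of_mem (Finset.mem_univ i₀),
      Finset.prod_eq_mul_prod_diff_singleton_of_mem (i := i₁) (by simp [h01]),
      Finset.prod_eq_mul_prod_diff_singleton_of_mem (i := i₂) (by simp [h02, h12]),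
      Finset.prod_eq_one (fun i hi => by
        simp only [Finset.mem_sdiff, Finset.mem_univ, Finset.mem_singleton, true_and] at hi
        simp [d, hi.1.1, hi.1.2, hi.2])]
    simp [d, h01, h02, h12]
  choose f hf using fun ab => exists_diag_SU K (d ab) (hd ab) (hdet ab)
  let φ : N × N →* SU n F q := MonoidHom.mk' f fun ab cd => by
    refine Subtype.ext (Subtype.ext ?_)
    rw [Subgroup.coe_mul, Matrix.SpecialLinearGroup.coe_mul, hf, hf, hf, diagonal_mul_diagonal]
    congr 1
    funext i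
    rw [← Units.val_mul]
    congr 1
    simp only [d, Prod.fst_mul, Prod.snd_mul]
    split_ifs
    · rfl
    · rfl
    · simp only [Subgroup.coe_mul, Subgroup.coe_inv, _root_.mul_inv_rev]
      ac_rfl
    · rw [one_mul]
  have hφ : Function.Injective φ := fun ab cd h => by
    have h1 : ∀ i, d ab i = d cd i := fun i => by
      refine Units.ext ?_
      have h2 := congrFun (congrFun (congrArg (fun s : SU n F q => (s.1 : Matrix (Fin n) (Fin n) F)) h) i) i
      change ((f ab).1 : Matrix (Fin n) (Fin n) F) i i = ((f cd).1 : Matrix (Fin n) (Fin n) F) i i at h2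
      rwa [hf, hf, diagonal_apply_eq, diagonal_apply_eq] at h2
    have e0 := h1 i₀
    have e1 := h1 i₁
    simp [d, h01] at e0 e1
    exact Prod.ext e0 e1
  refine dvd_trans ?_ (Subgroup.card_dvd_of_injective φ hφ)
  have hZ := Herm.card_center K (n := n) (by omega)
  rw [hZ] at hr ⊢
  rw [Nat.card_prod, card_normOne]
  exact mul_dvd_mul (Nat.gcd_dvd_right _ _) (hr.trans (Nat.gcd_dvd_right _ _))

/-- A noncentral normal subgroup of `SU_3(2)` has order divisible by nine. -/
theorem nine_dvd_of_normal (K₂ : Conj F 2) (N : Subgroup (SU 3 F 2)) [N.Normal]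
    (hZ : Subgroup.center (SU 3 F 2) ≤ N) (hN : ¬ N ≤ Subgroup.center (SU 3 F 2)) : 9 ∣ Nat.card N := by
  classical
  cases nonempty_fintype F
  have hF : Fintype.card F = 4 := by rw [← Nat.card_eq_fintype_card, K₂.card]; norm_num
  have hZ3 : Nat.card (Subgroup.center (SU 3 F 2)) = 3 := by
    rw [Herm.card_center K₂ (by norm_num)]; norm_num
  have h216 : Nat.card (SU 3 F 2) = 216 := by
    rw [Subgroup.card_eq_card_quotient_mul_card_subgroup (Subgroup.center (SU 3 F 2)), hZ3,
      CfsgLib.Classical.PSUThreeTwo.card_PSU_three_two K₂]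
  by_contra h9
  have hdvd : Nat.card N ∣ 216 := h216 ▸ Subgroup.card_subgroup_dvd_card N
  have h24 : Nat.card N ∣ 24 := by
    have hle := Nat.le_of_dvd (by norm_num) hdvd
    have : ∀ k, k ≤ 216 → k ∣ 216 → ¬ 9 ∣ k → k ∣ 24 := by decide +kernel
    exact this _ hle hdvd h9
  haveI : Fact (Nat.Prime 2) := ⟨Nat.prime_two⟩
  have h2F : (2 : F) = 0 := by
    have h := FiniteField.cast_card_eq_zero F
    rw [hF] at h
    have h4 : (2 : F) * 2 = 0 := by rw [← h]; norm_num
    exact mul_self_eq_zero.1 h4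
  haveI : CharP F 2 := CharP.charP_iff_prime_eq_zero Nat.prime_two |>.2 (by exact_mod_cast h2F)
  obtain ⟨P⟩ := (inferInstance : Nonempty (Sylow 2 N))
  obtain ⟨j, hj⟩ := (IsPGroup.iff_card).1 P.2
  have hcubeZ : ∀ z : N, (z : SU 3 F 2) ∈ Subgroup.center (SU 3 F 2) → (z : SU 3 F 2) ^ 3 = 1 := fun z hz => by
    have h := pow_card_eq_one' (x := (⟨z, hz⟩ : Subgroup.center (SU 3 F 2)))
    rw [hZ3] at h
    exact congrArg Subtype.val h
  -- the fixed space of the cubes
  let W : Set (Fin 3 → F) := {v | ∀ g : N, ((g : SU 3 F 2) ^ 3).1.1 *ᵥ v = v}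
  have hWinv : ∀ (s : SU 3 F 2) (v : Fin 3 → F), v ∈ W → s.1.1 *ᵥ v ∈ W := fun s v hv g => by
    have h := hv ⟨s⁻¹ * g * s, by simpa using (inferInstance : N.Normal).conj_mem g g.2 s⁻¹⟩
    rw [show (s⁻¹ * (g : SU 3 F 2) * s) ^ 3 = s⁻¹ * (g : SU 3 F 2) ^ 3 * s by
      simp [pow_succ, mul_assoc]] at h
    have h' := congrArg (fun x => s.1.1 *ᵥ x) h
    simp only [mulVec_mulVec, ← Subgroup.coe_mul, ← Matrix.SpecialLinearGroup.coe_mul, mul_assoc,
      mul_inv_cancel_left] at h'
    rw [mulVec_mulVec, ← Matrix.SpecialLinearGroup.coe_mul, ← Subgroup.coe_mul]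
    exact h'
  obtain ⟨v, hv0, hv⟩ : ∃ v : Fin 3 → F, v ≠ 0 ∧ v ∈ W := by
    letI act : MulAction P (Fin 3 → F) :=
      { smul := fun g v => ((g : N) : SU 3 F 2).1.1 *ᵥ v
        one_smul := fun v => one_mulVec v
        mul_smul := fun g h v => (mulVec_mulVec _ _ _).symm }
    have h2d : 2 ∣ Nat.card (Fin 3 → F) := by
      rw [Nat.card_fun, Nat.card_eq_fintype_card, hF]; norm_num
    obtain ⟨v, hv, hne⟩ := P.2.exists_fixed_point_of_prime_dvd_card_of_fixed_point (Fin 3 → F) h2d
      (a := 0) (fun g => mulVec_zero _)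
    refine ⟨v, hne.symm, fun g => ?_⟩
    -- every element is a central one times one of the Sylow subgroup
    let Z' := (Subgroup.center (SU 3 F 2)).subgroupOf N
    have hZ'c : Nat.card Z' = 3 := by
      exact (Nat.card_congr (Subgroup.subgroupOfEquivOfLe hZ).toEquiv).trans hZ3
    have hcop : Nat.Coprime (Nat.card Z') (Nat.card P) := by
      rw [hZ'c, hj]; exact (Nat.Coprime.pow_right j (by norm_num))
    have hmul : Nat.card Z' * Nat.card P = Nat.card N := by
      rw [hZ'c, P.card_eq_multiplicity]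
      have h3 : 3 ∣ Nat.card N := by have h := Subgroup.card_dvd_of_le hZ; rwa [hZ3] at h
      have hle := Nat.le_of_dvd (by norm_num) h24
      have hposN : 0 < Nat.card N := Nat.card_pos
      have : ∀ k, k ≤ 24 → 0 < k → k ∣ 24 → 3 ∣ k → 3 * 2 ^ k.factorization 2 = k := by
        intro k hk hk0 hk24 hk3
        obtain ⟨t, rfl⟩ := hk3
        have ht : t ∣ 8 := by
          have : 3 * t ∣ 3 * 8 := hk24
          exact Nat.dvd_of_mul_dvd_mul_left (by norm_num) this
        obtain ⟨i, -, rfl⟩ := (Nat.dvd_prime_pow Nat.prime_two).1 (show t ∣ 2 ^ 3 from ht)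
        rw [Nat.factorization_mul (by norm_num) (by positivity), Finsupp.add_apply,
          Nat.factorization_eq_zero_of_not_dvd (by norm_num), Nat.factorization_pow]
        simp [Nat.prime_two.factorization_self]
      exact this _ hle hposN h24 h3
    obtain ⟨⟨z, w⟩, hzw⟩ := (Subgroup.isComplement'_of_coprime hmul hcop).2 g
    have hzw' : (z : N) * (w : N) = g := hzw
    have hcomm : Commute ((z : N) : SU 3 F 2) ((w : N) : SU 3 F 2) := (Subgroup.mem_center_iff.1 z.2 _).symm
    rw [← hzw', Subgroup.coe_mul, hcomm.mul_pow, hcubeZ _ z.2, one_mul]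
    have hw : ((w : N) : SU 3 F 2).1.1 *ᵥ v = v := hv w
    simp only [pow_succ, pow_zero, one_mul, Subgroup.coe_mul, Matrix.SpecialLinearGroup.coe_mul, ← mulVec_mulVec, hw]
  -- it is everything
  obtain ⟨ω, hω0, hω1⟩ : ∃ ω : F, ω ≠ 0 ∧ ω ≠ 1 := by
    by_contra hc
    push Not at hc
    have : Fintype.card F ≤ 2 := by
      have hsub : (Finset.univ : Finset F) ⊆ {0, 1} := fun x _ => by
        by_cases hx : x = 0
        · simp [hx]
        · simp [hc x hx]
      exact (Finset.card_le_card hsub).trans Finset.card_le_two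
    omega
  have hω3 : ω ^ 3 = 1 := by
    have h := FiniteField.pow_card_sub_one_eq_one ω hω0
    rwa [hF] at h
  have hω : ω ^ 2 + ω + 1 = 0 :=
    (mul_eq_zero.1 (show (ω - 1) * (ω ^ 2 + ω + 1) = 0 by linear_combination hω3)).resolve_left (sub_ne_zero.2 hω1)
  let w₀ := Units.mk0 ω hω0
  have hunit : ∀ x : Fˣ, (x : F) * K₂.bar x = 1 := fun x => by
    rw [K₂.bar_apply, ← pow_succ']
    have h := FiniteField.pow_card_sub_one_eq_one (x : F) x.ne_zero
    rwa [hF] at h
  obtain ⟨D₀, hD₀⟩ := exists_diag_SU K₂ (fun i : Fin 3 => if i = 0 then w₀ else if i = 1 then w₀ * w₀ else 1)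
    (fun i => hunit _) (by
      rw [Fin.prod_univ_three]
      simp [w₀]
      linear_combination hω3)
  obtain ⟨C, hC⟩ : ∃ C : SU 3 F 2, ∀ (x : Fin 3 → F) (i : Fin 3), (C.1.1 *ᵥ x) i = x (i + 1) := by
    obtain ⟨g, hg⟩ := CfsgLib.Classical.Herm.perm_mem (F := F) (q := 2) (finRotate 3)
    refine ⟨⟨⟨((g : GL (Fin 3) F) : Matrix (Fin 3) (Fin 3) F), ?_⟩, fun u v => g.2 u v⟩, fun x i => ?_⟩
    · rw [hg, Matrix.det_permutation]
      rw [sign_finRotate]; simp
    · show (((g : GL (Fin 3) F) : Matrix (Fin 3) (Fin 3) F) *ᵥ x) i = _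
      rw [hg, Matrix.permMatrix_mulVec]
      simp [finRotate_succ_apply]
  have hadd : ∀ x y, x ∈ W → y ∈ W → x + y ∈ W := fun x y hx hy g => by rw [mulVec_add, hx g, hy g]
  have hsmul : ∀ (c : F) x, x ∈ W → c • x ∈ W := fun c x hx g => by rw [mulVec_smul, hx g]
  obtain ⟨u, hu0, hu⟩ : ∃ u, u 0 ≠ 0 ∧ u ∈ W := by
    obtain ⟨i, hi⟩ : ∃ i, v i ≠ 0 := by
      by_contra hall
      push Not at hall
      exact hv0 (funext hall)
    fin_cases i
    · exact ⟨v, hi, hv⟩
    · exact ⟨_, by rw [hC]; simpa using hi, hWinv C v hv⟩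
    · exact ⟨_, by rw [hC, hC]; simpa using hi, hWinv C _ (hWinv C v hv)⟩
  have h3 : (3 : F) = 1 := by linear_combination h2F
  have he0 : (Pi.single 0 1 : Fin 3 → F) ∈ W := by
    have hmem : u + ω ^ 2 • (D₀.1.1 *ᵥ u) + ω • (D₀.1.1 *ᵥ (D₀.1.1 *ᵥ u)) ∈ W :=
      hadd _ _ (hadd _ _ hu (hsmul _ _ (hWinv D₀ u hu))) (hsmul _ _ (hWinv D₀ _ (hWinv D₀ u hu)))
    have e : (u 0)⁻¹ • (u + ω ^ 2 • (D₀.1.1 *ᵥ u) + ω • (D₀.1.1 *ᵥ (D₀.1.1 *ᵥ u))) = Pi.single 0 1 := by
      funext i
      rw [hD₀]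
      fin_cases i <;> simp [mulVec_diagonal, w₀]
      · field_simp
        linear_combination 2 * hω3 + h2F
      · refine Or.inr ?_
        linear_combination (u 1) * hω + (u 1) * ω * hω3 + (u 1) * ω ^ 2 * hω3
      · refine Or.inr ?_
        linear_combination (u 2) * hω
    exact e ▸ hsmul _ _ hmem
  have hall : ∀ x : Fin 3 → F, x ∈ W := by
    have hC1 : C.1.1 *ᵥ (Pi.single 0 1 : Fin 3 → F) = Pi.single 2 1 := funext fun i => by
      rw [hC]; fin_cases i <;> simp [Pi.single_apply]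
    have hC2 : C.1.1 *ᵥ (Pi.single 2 1 : Fin 3 → F) = Pi.single 1 1 := funext fun i => by
      rw [hC]; fin_cases i <;> simp [Pi.single_apply]
    have he2 : (Pi.single 2 1 : Fin 3 → F) ∈ W := hC1 ▸ hWinv C _ he0
    have he1 : (Pi.single 1 1 : Fin 3 → F) ∈ W := hC2 ▸ hWinv C _ he2
    intro x
    have e : x = x 0 • (Pi.single 0 1 : Fin 3 → F) + x 1 • Pi.single 1 1 + x 2 • Pi.single 2 1 := by
      funext i
      fin_cases i <;> simp [Pi.single_apply]
    rw [e]
    exact hadd _ _ (hadd _ _ (hsmul _ _ he0) (hsmul _ _ he1)) (hsmul _ _ he2)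
  have hcube : ∀ g : N, g ^ 3 = 1 := fun g => by
    refine Subtype.ext (Subtype.ext (Subtype.ext (Matrix.ext_iff_mulVec.2 fun x => ?_)))
    rw [SubmonoidClass.coe_pow]
    exact (hall x g).trans (one_mulVec x).symm
  haveI : Fact (Nat.Prime 3) := ⟨Nat.prime_three⟩
  obtain ⟨i, hi⟩ := IsPGroup.iff_card.1 (show IsPGroup 3 N from fun g => ⟨1, by rw [pow_one]; exact hcube g⟩)
  have h3N : Nat.card N = 3 := by
    have h3 : 3 ∣ Nat.card N := by have h := Subgroup.card_dvd_of_le hZ; rwa [hZ3] at h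
    rw [hi] at h24 h3 h9 ⊢
    rcases i with _ | _ | i
    · simp at h3
    · rfl
    · exact absurd (dvd_mul_of_dvd_right (dvd_refl 9) (3 ^ i)) (by
        rwa [show 3 ^ i * 9 = 3 ^ (i + 1 + 1) by ring])
  exact hN (Subgroup.eq_of_le_of_card_ge hZ (by rw [h3N, hZ3])).ge

end Groups

variable {F : Type u} [Field F] [Fintype F] {q n : ℕ} (K : Conj F q)
variable (p : ℕ) [Fact p.Prime] [CharP F p] (hn : 3 ≤ n)

include K p hn in
/-- A field automorphism on special unitary matrices. -/
theorem exists_mapSU (σ : F ≃+* F) : ∃ m : SU n F q →* SU n F q,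
    ∀ s, (m s).1 = Matrix.SpecialLinearGroup.map σ.toRingHom s.1 :=
  ⟨MonoidHom.mk' (fun s => ⟨Matrix.SpecialLinearGroup.map σ.toRingHom s.1, fun u v =>
      ((carrier K hn p).map_H σ (Matrix.SpecialLinearGroup.toGL s.1) (fun u v => s.2 u v)) u v⟩)
    fun a b => Subtype.ext (map_mul _ a.1 b.1), fun _ => rfl⟩

include K p hn in
/-- The field automorphism on a matrix. -/
theorem phi_mk (σ : F ≃+* F) (s t : SU n F q)
    (h : (t.1 : Matrix (Fin n) (Fin n) F) = (s.1 : Matrix (Fin n) (Fin n) F).map σ) :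
    (twist K p hn).φ σ (QuotientGroup.mk s) = (QuotientGroup.mk t : PSU n F q) :=
  (carrier K hn p).fieldAut_spec σ s t (by
    show (t.1 : Matrix (Fin n) (Fin n) F) = _ * _ * _
    rw [inv_one, Units.val_one, Matrix.one_mul, Matrix.mul_one, h]; rfl)

include K p hn in
/-- The fixed special unitary group, and the two hypotheses of the criterion. -/
theorem field_hyps {f : ℕ} (hq : q = p ^ f) (hf : 1 ≤ f) (h32 : ¬ (n = 3 ∧ q = 2)) {σ : F ≃+* F} {r : ℕ}
    [Fact r.Prime] (hrp : r ≠ p) (hro : Odd r) (hσ : orderOf σ = r) :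
    (∃ k : PSU n F q, k ≠ 1 ∧ (twist K p hn).φ σ k = k) ∧
      (∀ g : MulAut (PSU n F q), (∀ k, (twist K p hn).φ σ k = k → g k = k) →
        g ∈ Subgroup.zpowers ((twist K p hn).φ σ)) ∧
      (r ∣ Nat.card (Fix ((twist K p hn).φ σ)) →
        ∀ M : Subgroup (Fix ((twist K p hn).φ σ)), M.Normal → M ≠ ⊥ → r ∣ Nat.card M) := by
  classical
  have hr : r.Prime := Fact.out
  have hp : p.Prime := Fact.out
  have hn0 : 0 < n := by omega
  haveI : Nonempty (Fin n) := ⟨⟨0, hn0⟩⟩
  set D := twist K p hn with hD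
  set x : MulAut (PSU n F q) := D.φ σ
  obtain ⟨hrf, hK0, hsub⟩ := exists_sub K p hq hro hσ
  set q₀ := p ^ (f / r) with hq₀
  set K0 := fixedField σ
  haveI : Fintype K0 := Fintype.ofFinite _
  let ι : K0 →+* F := K0.subtype
  haveI : CharP K0 p := (RingHom.charP_iff ι Subtype.val_injective p).2 ‹_›
  obtain ⟨K₀⟩ := exists_conj (F := K0) (q := q₀) rfl (by rw [hK0, hq₀, ← pow_mul, mul_comm])
  have hιbar : ∀ y, K.bar (ι y) = ι (K₀.bar y) := fun y => by
    show K.bar (y : F) = _
    rw [hsub _ y.2, K₀.bar_apply, map_pow]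
    rfl
  have hmem : ∀ s : SU n K0 q₀, ∀ u v,
      hermForm n F q ((s.1.1.map ι) *ᵥ u) ((s.1.1.map ι) *ᵥ v) = hermForm n F q u v := by
    intro s
    have h0 := (mem_GU_iff K₀ (g := ((toGU s : GU n K0 q₀) : GL (Fin n) K0))).1 (toGU s).2
    have h1 : Units.map ι.mapMatrix.toMonoidHom (Matrix.SpecialLinearGroup.toGL s.1) ∈ GU n F q := by
      refine (mem_GU_iff K).2 ?_
      show (s.1.1.map ι)ᵀ * (s.1.1.map ι).map K.bar = 1
      rw [show (s.1.1.map ι).map K.bar = (s.1.1.map K₀.bar).map ι from Matrix.ext fun i j => hιbar _,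
        ← Matrix.transpose_map, ← Matrix.map_mul]
      refine (congrArg (fun M : Matrix (Fin n) (Fin n) K0 => M.map ι) h0).trans ?_
      exact Matrix.map_one _ (map_zero ι) (map_one ι)
    exact fun u v => h1 u v
  let θ : SU n K0 q₀ →* SU n F q := MonoidHom.mk'
    (fun s => ⟨Matrix.SpecialLinearGroup.map ι s.1, hmem s⟩)
    fun a b => Subtype.ext (map_mul (Matrix.SpecialLinearGroup.map ι) a.1 b.1)
  have hθc : ∀ s, ((θ s).1 : Matrix (Fin n) (Fin n) F) = s.1.1.map ι := fun s => rfl
  have hθσ : ∀ s, ((θ s).1 : Matrix (Fin n) (Fin n) F).map σ = ((θ s).1 : Matrix (Fin n) (Fin n) F) := fun s =>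
    Matrix.ext fun i j => (s.1.1 i j).2
  let h : SU n K0 q₀ →* Fix x :=
    ((QuotientGroup.mk' _).comp θ).codRestrict _ fun s => phi_mk K p hn σ _ _ (hθσ s).symm
  have hn2 : 2 ≤ n := by omega
  have hker : ∀ s, h s = 1 ↔ s ∈ Subgroup.center (SU n K0 q₀) := by
    intro s
    have e1 : h s = 1 ↔ θ s ∈ Subgroup.center (SU n F q) :=
      Subtype.ext_iff.trans (QuotientGroup.eq_one_iff _)
    rw [e1, Herm.center_iff K hn2, Herm.center_iff K₀ hn2]
    constructor
    · rintro ⟨c, hc⟩
      let i₀ : Fin n := ⟨0, hn0⟩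
      refine ⟨s.1.1 i₀ i₀, Matrix.ext fun i j => ι.injective ?_⟩
      have h00 := congrFun (congrFun hc i₀) i₀
      have hij := congrFun (congrFun hc i) j
      rw [hθc, Matrix.map_apply] at h00 hij
      rw [hij]
      by_cases he : i = j
      · subst he; simp [h00]
      · simp [he]
    · rintro ⟨c, hc⟩
      exact ⟨ι c, by rw [hθc, hc, Matrix.map_smul' _ _ _ (map_mul ι), Matrix.map_one _ (map_zero _) (map_one _)]⟩
  have hform : ∀ u v : Fin n → K0, hermForm n F q (fun i => ι (u i)) (fun i => ι (v i)) =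
      ι (hermForm n K0 q₀ u v) := fun u v => by
    rw [herm_apply K, herm_apply K₀, map_sum]
    exact Finset.sum_congr rfl fun i _ => by rw [hιbar, map_mul]
  -- semisimilarities fixing the fixed group
  have hcent : ∀ g : MulAut (PSU n F q), (∀ s, g (h s : PSU n F q) = (h s : PSU n F q)) →
      g ∈ Subgroup.zpowers x := by
    intro g hg
    obtain ⟨w, τ, rfl⟩ := full_twist K p hn h32 g
    exact field_cent_aux K p hn K₀ w τ fun s => ⟨θ s, hθc s, hg s⟩
  refine ⟨?_, fun g hg => hcent g fun s => hg _ (h s).2, fun hd M hMn hMne => ?_⟩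
  · -- a fixed element
    by_contra hne
    push Not at hne
    have htop : ∀ s, s ∈ Subgroup.center (SU n K0 q₀) := fun s => (hker s).1 (by
      refine Subtype.ext ?_
      by_contra hs
      exact hne _ hs (h s).2)
    obtain ⟨a, ha⟩ := exists_normOne_sq_ne K₀
    let i₀ : Fin n := ⟨0, hn0⟩
    let i₁ : Fin n := ⟨1, by omega⟩
    have h01 : i₁ ≠ i₀ := by simp [i₀, i₁]
    obtain ⟨s, hs⟩ := exists_diag_SU K₀
      (fun i : Fin n => if i = i₀ then (a : K0ˣ) else if i = i₁ then ((a⁻¹ : normOne K₀) : K0ˣ) else 1)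
      (fun i => by
        split_ifs
        · exact (mem_normOne K₀).1 a.2
        · exact (mem_normOne K₀).1 (a⁻¹).2
        · simp)
      (by
        rw [Finset.prod_eq_mul_of_mem i₀ i₁ (Finset.mem_univ _) (Finset.mem_univ _) h01.symm
          (fun m _ hm => by simp [hm.1, hm.2])]
        simp [h01])
    obtain ⟨c, hc⟩ := (Herm.center_iff K₀ hn2 s).1 (htop s)
    rw [hs] at hc
    have e0 := congrFun (congrFun hc i₀) i₀
    have e1 := congrFun (congrFun hc i₁) i₁
    simp [h01] at e0 e1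
    refine ha (Subtype.ext (Units.ext ?_))
    rw [SubmonoidClass.coe_pow, Units.val_pow_eq_pow_val, sq]
    nth_rw 2 [show ((a : K0ˣ) : K0) = (((a : K0ˣ)⁻¹ : K0ˣ) : K0) from e0.trans (by rw [← e1]; simp)]
    rw [Units.mul_inv]
    simp
  set z := Nat.card (Subgroup.center (SU n K0 q₀))
  set N := M.comap h
  haveI : N.Normal := hMn.comap h
  have hZN : Subgroup.center (SU n K0 q₀) ≤ N := fun s hs => by
    show h s ∈ M
    rw [(hker s).2 hs]
    exact one_mem _
  by_cases hNZ : N ≤ Subgroup.center (SU n K0 q₀)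
  · -- no elements outside the centre: `M` centralises the image of `h`
    exfalso
    refine hMne ((Subgroup.eq_bot_iff_forall _).2 fun k hk => ?_)
    obtain ⟨S₀, hS₀⟩ := QuotientGroup.mk_surjective (k : PSU n F q)
    obtain ⟨m, hm⟩ := exists_mapSU K p hn σ
    have hmS : (QuotientGroup.mk (m S₀) : PSU n F q) = QuotientGroup.mk S₀ := by
      rw [← phi_mk K p hn σ S₀ (m S₀) (by rw [hm]; rfl), hS₀]
      exact k.2
    have hz := QuotientGroup.eq.1 hmS
    have hcomm : ∀ s, MulAut.conj (k : PSU n F q) (h s : PSU n F q) = (h s : PSU n F q) := by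
      intro s
      let C : SU n F q := S₀ * θ s * S₀⁻¹
      have hC : m C = C := by
        have hθ : m (θ s) = θ s := Subtype.ext (by rw [hm]; exact Subtype.ext (hθσ s))
        have hzc : Commute ((m S₀)⁻¹ * S₀) (θ s) := (Subgroup.mem_center_iff.1 hz _).symm
        show m (S₀ * θ s * S₀⁻¹) = S₀ * θ s * S₀⁻¹
        rw [map_mul, map_mul, map_inv, hθ]
        calc m S₀ * θ s * (m S₀)⁻¹
            = m S₀ * (((m S₀)⁻¹ * S₀) * θ s * ((m S₀)⁻¹ * S₀)⁻¹) * (m S₀)⁻¹ := by
              rw [hzc.eq, mul_inv_cancel_right]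
          _ = S₀ * θ s * S₀⁻¹ := by group
      have hent : ∀ i j, σ (C.1.1 i j) = C.1.1 i j := fun i j => by
        have h1 := congrArg (fun x : SU n F q => x.1.1 i j) hC
        change (m C).1.1 i j = C.1.1 i j at h1
        rwa [hm] at h1
      let M₀ : Matrix (Fin n) (Fin n) K0 := fun i j => ⟨_, hent i j⟩
      have hdet : M₀.det = 1 := Subtype.val_injective (by
        show ι M₀.det = ι 1
        rw [RingHom.map_det, map_one]
        exact C.1.2)
      let A₀ : SU n K0 q₀ := ⟨⟨M₀, hdet⟩, fun u v => ι.injective (by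
        show ι (hermForm n K0 q₀ (M₀ *ᵥ u) (M₀ *ᵥ v)) = ι (hermForm n K0 q₀ u v)
        have e : ∀ u : Fin n → K0, (fun i => ι ((M₀ *ᵥ u) i)) = C.1.1 *ᵥ fun i => ι (u i) := fun u =>
          funext fun i => RingHom.map_mulVec ι M₀ u i
        rw [← hform, ← hform, e, e]
        exact C.2 _ _)⟩
      have hA₀ : θ A₀ = C := Subtype.ext (Subtype.ext rfl)
      have hs' : k * h s * k⁻¹ = h A₀ := Subtype.ext (by
        show (k : PSU n F q) * QuotientGroup.mk (θ s) * (k : PSU n F q)⁻¹ = QuotientGroup.mk (θ A₀)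
        rw [hA₀, ← hS₀, ← QuotientGroup.mk_inv, ← QuotientGroup.mk_mul, ← QuotientGroup.mk_mul])
      have hin : h (A₀ * s⁻¹) ∈ M := by
        rw [map_mul, map_inv, ← hs', mul_assoc, mul_assoc]
        refine M.mul_mem hk ?_
        simpa [mul_assoc] using hMn.conj_mem k⁻¹ (M.inv_mem hk) (h s)
      have h1 := (hker _).2 (hNZ hin)
      rw [map_mul, map_inv, mul_inv_eq_one, ← hs'] at h1
      exact congrArg Subtype.val h1
    obtain ⟨i, hi⟩ := Subgroup.mem_zpowers_iff.1 (hcent _ hcomm)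
    have h1 : D.δ (toGU S₀) * D.φ 1 = D.δ 1 * D.φ (σ ^ i) := by
      rw [map_one D.φ, map_one D.δ, mul_one, one_mul, map_zpow, delta_toGU K p hn, hS₀]
      exact hi.symm
    refine Subtype.ext (conj_faithful K p hn _ ?_)
    rw [← hi, ← map_zpow, ← ((D.eq_iff).1 h1).1, map_one]
  · -- a noncentral normal subgroup
    let hN' : N →* M := (h.comp N.subtype).codRestrict M fun y => y.2
    have hker2 : Nat.card hN'.ker ∣ z :=
      Subgroup.card_dvd_of_injective
        ((N.subtype.comp hN'.ker.subtype).codRestrict _ fun y =>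
          (hker _).1 (congrArg (fun w : M => (w : Fix x)) y.2))
        fun a b e => Subtype.ext (Subtype.ext (congrArg (fun w : Subgroup.center (SU n K0 q₀) => (w : SU n K0 q₀)) e))
    have hsplit : Nat.card N ∣ Nat.card hN'.range * z := by
      rw [Subgroup.card_eq_card_quotient_mul_card_subgroup hN'.ker,
        Nat.card_congr (QuotientGroup.quotientKerEquivRange hN').toEquiv]
      exact mul_dvd_mul_left _ hker2
    refine dvd_trans ?_ (Subgroup.card_subgroup_dvd_card hN'.range)
    have hS : r ∣ Nat.card (SU n K0 q₀) := by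
      have hσ1 : σ ≠ 1 := fun e => hr.ne_one (by rw [← hσ, e, orderOf_one])
      have hxr : orderOf x = r := (D.orderOf_φ σ).trans hσ
      have hcls : IsFieldAutClassPSU x :=
        ⟨1, x, σ, hσ1, by rwa [hσ], (std_iff K p hn σ x).2 rfl, by rw [one_mul, inv_one, mul_one]⟩
      obtain ⟨-, ⟨e⟩, -⟩ := field_centralizer K p hq hf hn h32 hcls hxr K0 (by
        rw [← Nat.card_eq_fintype_card]; exact hK0)
      refine hd.trans ?_
      rw [← card_PGU K₀ (by omega), ← Nat.card_congr e.toEquiv]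
      refine Subgroup.card_dvd_of_injective ((MulAut.conj.comp (Fix x).subtype).codRestrict _ fun k => ?_)
        fun a b e => ?_
      · refine ⟨?_, Subgroup.mem_centralizer_singleton_iff.2 ?_⟩
        · obtain ⟨s, hs⟩ := QuotientGroup.mk_surjective (k : PSU n F q)
          rw [inndiag_eq K p hn]
          exact ⟨toGU s, (delta_toGU K p hn s).trans (congrArg MulAut.conj hs)⟩
        · show MulAut.conj (k : PSU n F q) * x = x * MulAut.conj (k : PSU n F q)
          rw [CfsgLib.ClassicalAut.Balance.mul_conj x, show x (k : PSU n F q) = k from k.2]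
      · have e' : MulAut.conj (a : PSU n F q) = MulAut.conj (b : PSU n F q) := congrArg Subtype.val e
        refine Subtype.ext (mul_inv_eq_one.1 (conj_faithful K p hn _ ?_))
        rw [map_mul, map_inv, e', mul_inv_cancel]
    by_cases h32' : n = 3 ∧ q₀ = 2
    · obtain ⟨rfl, h2⟩ := h32'
      have h9 : 9 ∣ Nat.card N := by
        clear_value q₀
        subst h2
        exact nine_dvd_of_normal K₀ N hZN hNZ
      have h216 : Nat.card (SU 3 K0 q₀) = 216 ∧ z = 3 := by
        clear_value q₀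
        subst h2
        have hz3 : z = 3 := by rw [show z = _ from Herm.card_center K₀ (by norm_num)]; norm_num
        refine ⟨?_, hz3⟩
        rw [Subgroup.card_eq_card_quotient_mul_card_subgroup (Subgroup.center (SU 3 K0 2)),
          CfsgLib.Classical.PSUThreeTwo.card_PSU_three_two K₀, show Nat.card (Subgroup.center _) = 3 from hz3]
      rw [h216.1] at hS
      have hr3 : r = 3 := by
        have h1 : r ∣ 2 ^ 3 * 3 ^ 3 := hS
        rcases (hr.dvd_mul).1 h1 with e | e
        · have e2 := (Nat.prime_dvd_prime_iff_eq hr Nat.prime_two).1 (hr.dvd_of_dvd_pow e)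
          rw [e2] at hro
          exact absurd hro (by decide)
        · exact (Nat.prime_dvd_prime_iff_eq hr Nat.prime_three).1 (hr.dvd_of_dvd_pow e)
      subst hr3
      have h1 := h9.trans hsplit
      rw [h216.2] at h1
      exact Nat.dvd_of_mul_dvd_mul_right (k := 3) (by norm_num) h1
    · haveI := CfsgLib.Classical.Herm.isSimpleGroup K₀ p hn h32'
      have hNtop : N = ⊤ := by
        let π := QuotientGroup.mk' (Subgroup.center (SU n K0 q₀))
        have hn' : (N.map π).Normal := Subgroup.Normal.map inferInstance _ (QuotientGroup.mk'_surjective _)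
        rcases hn'.eq_bot_or_eq_top with hb | ht
        · refine absurd (fun s hs => ?_) hNZ
          have : π s ∈ N.map π := ⟨s, hs, rfl⟩
          rw [hb, Subgroup.mem_bot] at this
          exact (QuotientGroup.eq_one_iff s).1 this
        · refine (Subgroup.eq_top_iff' _).2 fun s => ?_
          obtain ⟨y, hy, hys⟩ : π s ∈ N.map π := by rw [ht]; trivial
          have h4 : y⁻¹ * s ∈ Subgroup.center (SU n K0 q₀) := QuotientGroup.eq.1 hys
          simpa using N.mul_mem hy (hZN h4)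
      have hall : Nat.card N = Nat.card (SU n K0 q₀) := by rw [hNtop]; exact Subgroup.card_top
      rw [hall] at hsplit
      by_cases hrz : r ∣ z
      · have h1 := (center_mul_dvd K₀ hn hrz).trans hsplit
        rw [mul_comm _ z] at h1
        exact Nat.dvd_of_mul_dvd_mul_left Nat.card_pos h1
      · exact ((hr.dvd_mul).1 (hS.trans hsplit)).resolve_right hrz

end CfsgLib.ClassicalAut.Unitary
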