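import Cfsg.Agent.Lib.ClassicalAut.UnitaryGraphCent
import Cfsg.Agent.Lib.AutPSL.GraphPSLSplit

set_option autoImplicit false

/-!
The classes, centralisers and splitting of the involutory graph automorphisms of `PSU_n(q)`.
-/

namespace CfsgLib.ClassicalAut.Unitary

open Matrix Cfsg CfsgLib.AutPSL CfsgLib.AutPSL.Models
open CfsgLib.AutPSL.Graph (Cong reGL reGL_coe mkGL mkGL_coe exists_equiv simGroup mem_simGroup)

universe u v

variable {F : Type u} [Field F] [Finite F] {q n : ℕ} {K : Conj F q} {F₀ : Type v} [Field F₀]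
  (S : Sub K F₀) (p : ℕ) [hp : Fact p.Prime] [CharP F p] (hn : 3 ≤ n)

include hn in
theorem exists_rep {γ : MulAut (PSU n F q)} (hγ : IsGraphAutClassPSU γ) (h2 : orderOf γ = 2) :
    ∃ (g : GU n F q) (M : GL (Fin n) F₀), γ = gu K p hn g ∧
      S.Pres g (M : Matrix (Fin n) (Fin n) F₀) ∧
      ((M : Matrix (Fin n) (Fin n) F₀)ᵀ = M ∨
        (M : Matrix (Fin n) (Fin n) F₀)ᵀ = -(M : Matrix (Fin n) (Fin n) F₀)) := by
  obtain ⟨g, rfl⟩ := exists_gu (K := K) p hn hγ h2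
  obtain ⟨e, he, hge⟩ := (orderOf_gu_iff p hn g).1 h2
  obtain ⟨e₀, he₀, rfl⟩ : ∃ e₀ : F₀, (e₀ = 1 ∨ e₀ = -1) ∧ S.emb e₀ = e := by
    rcases he with rfl | rfl
    · exact ⟨1, Or.inl rfl, map_one _⟩
    · exact ⟨-1, Or.inr rfl, by rw [map_neg, map_one]⟩
  obtain ⟨M, hd, hMt, hP⟩ := S.exists_of_gu g he₀ hge
  refine ⟨g, mkGL M hd, rfl, hP, ?_⟩
  rcases he₀ with rfl | rfl
  · left; rw [mkGL_coe, hMt, one_smul]
  · right; rw [mkGL_coe, hMt, neg_one_smul]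

include hn in
theorem exists_aut (M : GL (Fin n) F₀)
    (hM : (M : Matrix (Fin n) (Fin n) F₀)ᵀ = M ∨
      (M : Matrix (Fin n) (Fin n) F₀)ᵀ = -(M : Matrix (Fin n) (Fin n) F₀)) :
    ∃ g : GU n F q, S.Pres g (M : Matrix (Fin n) (Fin n) F₀) ∧
      IsGraphAutClassPSU (gu K p hn g) ∧ orderOf (gu K p hn g) = 2 := by
  obtain ⟨e, he, hMt⟩ : ∃ e : F₀, (e = 1 ∨ e = -1) ∧
      (M : Matrix (Fin n) (Fin n) F₀)ᵀ = e • (M : Matrix (Fin n) (Fin n) F₀) := by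
    rcases hM with h | h
    · exact ⟨1, Or.inl rfl, by rw [h, one_smul]⟩
    · exact ⟨-1, Or.inr rfl, by rw [h, neg_one_smul]⟩
  obtain ⟨g, hP, hge⟩ := S.exists_of_matrix (M : Matrix (Fin n) (Fin n) F₀) (Graph.det_ne M) he hMt
  refine ⟨g, hP, isGraph_gu p hn g, (orderOf_gu_iff p hn g).2 ⟨S.emb e, ?_, hge⟩⟩
  rcases he with rfl | rfl <;> simp

include hn in
theorem isConj_iff {g g' : GU n F q} {M M' : GL (Fin n) F₀}
    (h : S.Pres g (M : Matrix (Fin n) (Fin n) F₀)) (h' : S.Pres g' (M' : Matrix (Fin n) (Fin n) F₀)) :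
    Cfsg.IsConjUnder (inndiagPSU n F q) (gu K p hn g) (gu K p hn g') ↔
      Cong (M : Matrix (Fin n) (Fin n) F₀) (M' : Matrix (Fin n) (Fin n) F₀) :=
  ⟨S.cong_of_conj p hn h h' (Graph.det_ne M'), fun hc => S.conj_of_pres p hn (S.pres_cong h hc) h'⟩

include hn in
theorem centralizer_model {ι : Type} [Fintype ι] [DecidableEq ι] (e : ι ≃ Fin n) (A : GL ι F₀)
    (H : Subgroup (GL ι F₀))
    (hH : ∀ h : GL ι F₀, h ∈ H ↔ ∃ c : F₀ˣ,
      (h : Matrix ι ι F₀)ᵀ * A * h = (c : F₀) • (A : Matrix ι ι F₀))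
    {g : GU n F q} {M : GL (Fin n) F₀} (h : S.Pres g (M : Matrix (Fin n) (Fin n) F₀))
    (hc : Cong (reGL e A : Matrix (Fin n) (Fin n) F₀) (M : Matrix (Fin n) (Fin n) F₀)) :
    Nonempty (↥(inndiagPSU n F q ⊓ Subgroup.centralizer {gu K p hn g}) ≃* Cfsg.projQuot H) := by
  obtain ⟨D⟩ := S.exists_data e (S.pres_cong h hc.symm')
  exact Sub.centralizer_equiv D p hn H hH

theorem self_cong {ι : Type} [Fintype ι] [DecidableEq ι] (A : Matrix ι ι F₀) : Cong A A :=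
  ⟨1, 1, by simp⟩

/-- Symmetric matrices of even size. -/
theorem sym_models [Fintype F₀] (h2 : (2 : F₀) ≠ 0) {m : ℕ} (hm : 1 ≤ m) {α : F₀} (hα : ¬ IsSquare α)
    (eP : Fin m ⊕ Fin m ≃ Fin n) (eM : (Fin (m - 1) ⊕ Fin (m - 1)) ⊕ Fin 2 ≃ Fin n)
    (hdm : (minusA (m - 1) F₀ 0 (-α)).det ≠ 0)
    {M : GL (Fin n) F₀} (hM : (M : Matrix (Fin n) (Fin n) F₀)ᵀ = M) :
    (IsSquare ((-1) ^ m * (M : Matrix (Fin n) (Fin n) F₀).det) →
      Cong (reGL eP (mkGL (plusA m F₀) Graph.det_plus_ne) : Matrix (Fin n) (Fin n) F₀) M) ∧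
    (¬ IsSquare ((-1) ^ m * (M : Matrix (Fin n) (Fin n) F₀).det) →
      Cong (reGL eM (mkGL (minusA (m - 1) F₀ 0 (-α)) hdm) : Matrix (Fin n) (Fin n) F₀) M) := by
  refine ⟨fun hsq => Graph.cong_sym h2 (Graph.reGL_transpose _ (plusA_transpose m)) hM (Graph.det_ne _)
    (Graph.det_ne M) (by rw [Graph.reGL_det, mkGL_coe, det_plusA]; exact hsq),
    fun hsq => Graph.cong_sym h2 (Graph.reGL_transpose _ (minusA_transpose _ _ _)) hM (Graph.det_ne _)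
      (Graph.det_ne M) ?_⟩
  rw [Graph.reGL_det, mkGL_coe, det_minusA]
  obtain ⟨r, hr⟩ := CfsgLib.Forms.isSquare_mul_of_not hα hsq
  refine ⟨2 * r, ?_⟩
  have hpow : ((-1 : F₀) ^ m) = -((-1) ^ (m - 1)) := by
    rw [← Nat.sub_add_cancel hm, pow_succ, Nat.add_sub_cancel]; ring
  rw [hpow] at hr
  linear_combination 4 * hr

theorem exists_nonsq [Fintype F₀] (h2 : (2 : F₀) ≠ 0) : ∃ α : F₀, ¬ IsSquare α :=
  FiniteField.exists_nonsquare (F := F₀) (fun h => h2 (by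
    have := ringChar.Nat.cast_ringChar (R := F₀)
    rw [h] at this
    exact_mod_cast this))

theorem aniso_of_nonsq {α : F₀} (hα : ¬ IsSquare α) (z₁ z₂ : F₀)
    (hz : z₁ ^ 2 + 0 * z₁ * z₂ + -α * z₂ ^ 2 = 0) : z₁ = 0 ∧ z₂ = 0 := by
  by_cases hz2 : z₂ = 0
  · subst hz2
    exact ⟨by simpa using hz, rfl⟩
  · exact absurd ⟨z₁ / z₂, by field_simp; linear_combination -hz⟩ hα

theorem det_minus_ok [Fintype F₀] {α : F₀} (h2 : (2 : F₀) ≠ 0) (hα : ¬ IsSquare α) (k : ℕ) :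
    (minusA k F₀ 0 (-α)).det ≠ 0 := by
  have hα0 : α ≠ 0 := fun h => hα (by rw [h]; exact IsSquare.zero)
  have h4 : (4 : F₀) ≠ 0 := by
    have : (2 : F₀) * 2 ≠ 0 := mul_ne_zero h2 h2
    norm_num at this
    exact this
  exact Graph.det_minus_ne (by simp [hα0, h4])

include S p hn in
theorem odd_dim [Fintype F₀] {m : ℕ} (hnm : n = 2 * m + 1) {γ γ' : MulAut (PSU n F q)}
    (hγ : IsGraphAutClassPSU γ) (hγ2 : orderOf γ = 2) (hγ' : IsGraphAutClassPSU γ')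
    (hγ'2 : orderOf γ' = 2) :
    Nonempty (↥(inndiagPSU n F q ⊓ Subgroup.centralizer {γ}) ≃* Cfsg.PGO F₀ (Cfsg.quadFormOdd m F₀)) ∧
      Cfsg.IsConjUnder (inndiagPSU n F q) γ γ' := by
  obtain ⟨g, M, rfl, hP, hM⟩ := exists_rep S p hn hγ hγ2
  obtain ⟨g', M', rfl, hP', hM'⟩ := exists_rep S p hn hγ' hγ'2
  have hodd : Odd n := ⟨m, hnm⟩
  obtain ⟨e⟩ := exists_equiv (ι := Unit ⊕ (Fin m ⊕ Fin m)) (n := n) (by simp; omega)
  by_cases h2 : (2 : F₀) = 0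
  · haveI : CharP F₀ 2 := CharTwo.of_one_ne_zero_of_two_eq_zero one_ne_zero h2
    have hs := Graph.sym_of_two hM
    refine ⟨?_, (isConj_iff S p hn hP hP').2
      (Graph.cong_odd_two hodd hs (Graph.sym_of_two hM') (Graph.det_ne M) (Graph.det_ne M'))⟩
    let A : GL (Unit ⊕ (Fin m ⊕ Fin m)) F₀ := mkGL (oddN m F₀) det_oddN
    obtain ⟨e₁⟩ := centralizer_model S p hn e A (simGroup (oddN m F₀)) (mem_simGroup _) hP
      (Graph.cong_odd_two hodd (Graph.reGL_transpose e (by simp only [A, mkGL_coe, oddN_transpose])) hs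
        (Graph.det_ne _) (Graph.det_ne M))
    obtain ⟨e₂⟩ := equiv_oddN (F := F₀) (simGroup (oddN m F₀)) (mem_simGroup _)
    obtain ⟨e₃⟩ := equiv_PGO_odd (F := F₀) (m := m)
    exact ⟨(e₁.trans e₂).trans e₃.symm⟩
  · have hs : ∀ {N : GL (Fin n) F₀}, ((N : Matrix (Fin n) (Fin n) F₀)ᵀ = N ∨
        (N : Matrix (Fin n) (Fin n) F₀)ᵀ = -(N : Matrix (Fin n) (Fin n) F₀)) →
        (N : Matrix (Fin n) (Fin n) F₀)ᵀ = N := fun {N} h => h.resolve_right fun h' =>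
      (Nat.not_even_iff_odd.2 hodd) (Graph.even_of_alt (Graph.alt_quad h2 h') (Graph.det_ne N))
    refine ⟨?_, (isConj_iff S p hn hP hP').2
      (Graph.cong_sym_odd h2 hodd (hs hM) (hs hM') (Graph.det_ne M) (Graph.det_ne M'))⟩
    let A : GL (Unit ⊕ (Fin m ⊕ Fin m)) F₀ := mkGL (oddA m F₀) (by
      rw [det_oddA]; exact mul_ne_zero h2 (pow_ne_zero _ (neg_ne_zero.2 one_ne_zero)))
    exact centralizer_model S p hn e A _ (quadSimilarity_iff h2 (oddA_transpose m) (quad_odd m)) hP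
      (Graph.cong_sym_odd h2 hodd (Graph.reGL_transpose e (oddA_transpose m)) (hs hM)
        (Graph.det_ne _) (Graph.det_ne M))

include S p in
theorem even_dim_odd [Fintype F₀] (h2 : (2 : F₀) ≠ 0) {m : ℕ} (hm : 2 ≤ m) (hnm : n = 2 * m) :
    ∃ (γ₁ γ₂ γ₃ : MulAut (Cfsg.PSU n F q)) (a b : F₀), (∀ z₁ z₂ : F₀, z₁ ^ 2 + a * z₁ * z₂ + b * z₂ ^ 2 = 0 → z₁ = 0 ∧ z₂ = 0) ∧ Cfsg.IsGraphAutClassPSU γ₁ ∧ orderOf γ₁ = 2 ∧ Cfsg.IsGraphAutClassPSU γ₂ ∧ orderOf γ₂ = 2 ∧ Cfsg.IsGraphAutClassPSU γ₃ ∧ orderOf γ₃ = 2 ∧ ¬ Cfsg.IsConjUnder (Cfsg.inndiagPSU n F q) γ₁ γ₂ ∧ ¬ Cfsg.IsConjUnder (Cfsg.inndiagPSU n F q) γ₁ γ₃ ∧ ¬ Cfsg.IsConjUnder (Cfsg.inndiagPSU n F q) γ₂ γ₃ ∧ (∀ γ : MulAut (Cfsg.PSU n F q), Cfsg.IsGraphAutClassPSU γ → orderOf γ = 2 → Cfsg.IsConjUnder (Cfsg.inndiagPSU n F q) γ₁ γ ∨ Cfsg.IsConjUnder (Cfsg.inndiagPSU n F q) γ₂ γ ∨ Cfsg.IsConjUnder (Cfsg.inndiagPSU n F q) γ₃ γ) ∧ Nonempty (↥(Cfsg.inndiagPSU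 n F q ⊓ Subgroup.centralizer {γ₁}) ≃* Cfsg.PGSp m F₀) ∧ Nonempty (↥(Cfsg.inndiagPSU n F q ⊓ Subgroup.centralizer {γ₂}) ≃* Cfsg.PGO F₀ (Cfsg.quadFormPlus m F₀)) ∧ Nonempty (↥(Cfsg.inndiagPSU n F q ⊓ Subgroup.centralizer {γ₃}) ≃* Cfsg.PGO F₀ (Cfsg.quadFormMinus (m - 1) F₀ a b)) := by
  have hn : 3 ≤ n := by omega
  obtain ⟨α, hα⟩ := exists_nonsq h2
  have hdm := det_minus_ok h2 hα (m - 1)
  obtain ⟨eJ⟩ := exists_equiv (ι := Fin m ⊕ Fin m) (n := n) (by simp; omega)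
  obtain ⟨eM⟩ := exists_equiv (ι := (Fin (m - 1) ⊕ Fin (m - 1)) ⊕ Fin 2) (n := n) (by simp; omega)
  set MJ := reGL eJ (jGL m F₀) with hMJ
  set MP := reGL eJ (mkGL (plusA m F₀) Graph.det_plus_ne) with hMP
  set MM := reGL eM (mkGL (minusA (m - 1) F₀ 0 (-α)) hdm) with hMM
  have hJt : (MJ : Matrix (Fin n) (Fin n) F₀)ᵀ = -(MJ : Matrix (Fin n) (Fin n) F₀) := by
    rw [hMJ, reGL_coe, transpose_submatrix, jGL_coe, J_transpose]
    rfl
  have hPt : (MP : Matrix (Fin n) (Fin n) F₀)ᵀ = MP := Graph.reGL_transpose eJ (plusA_transpose m)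
  have hMt : (MM : Matrix (Fin n) (Fin n) F₀)ᵀ = MM :=
    Graph.reGL_transpose eM (minusA_transpose _ _ _)
  obtain ⟨g₁, hP₁, hg₁, ho₁⟩ := exists_aut S p hn MJ (Or.inr hJt)
  obtain ⟨g₂, hP₂, hg₂, ho₂⟩ := exists_aut S p hn MP (Or.inl hPt)
  obtain ⟨g₃, hP₃, hg₃, ho₃⟩ := exists_aut S p hn MM (Or.inl hMt)
  have hev : Even (Fintype.card (Fin n)) := by rw [Fintype.card_fin]; exact ⟨m, by omega⟩
  have h12 : ∀ (g : GU n F q) (N : GL (Fin n) F₀), S.Pres g (N : Matrix (Fin n) (Fin n) F₀) →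
      (N : Matrix (Fin n) (Fin n) F₀)ᵀ = N →
      ¬ Cfsg.IsConjUnder (inndiagPSU n F q) (gu K p hn g₁) (gu K p hn g) := fun g N hP hN h =>
    Graph.not_sym_and_alt h2 (by omega) (Graph.det_ne N) hN
      (((isConj_iff S p hn hP₁ hP).1 h).transpose_neg hJt)
  refine ⟨gu K p hn g₁, gu K p hn g₂, gu K p hn g₃, 0, -α, aniso_of_nonsq hα, hg₁, ho₁, hg₂, ho₂, hg₃,
    ho₃, h12 g₂ MP hP₂ hPt, h12 g₃ MM hP₃ hMt, fun h => ?_, fun γ hγ hγ2 => ?_,
    centralizer_model S p hn eJ (jGL m F₀) (Cfsg.GSp m F₀) mem_GSp_iff hP₁ (self_cong _),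
    centralizer_model S p hn eJ _ _ (quadSimilarity_iff h2 (plusA_transpose m) (quad_plus m)) hP₂
      (self_cong _),
    centralizer_model S p hn eM _ _
      (quadSimilarity_iff h2 (minusA_transpose _ _ _) (quad_minus (m - 1) 0 (-α))) hP₃ (self_cong _)⟩
  · obtain ⟨r, hr⟩ := ((isConj_iff S p hn hP₂ hP₃).1 h).det_sq hev
    rw [hMP, hMM, Graph.reGL_det, Graph.reGL_det, mkGL_coe, mkGL_coe, det_plusA, det_minusA, ← mul_assoc,
      ← pow_add, show m + (m - 1) = 2 * (m - 1) + 1 by omega, pow_succ, pow_mul] at hr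
    refine hα ⟨r / 2, ?_⟩
    field_simp
    simp at hr
    linear_combination hr
  · obtain ⟨g, M, rfl, hP, hM⟩ := exists_rep S p hn hγ hγ2
    rcases hM with hM | hM
    · obtain ⟨hp1, hp2⟩ := sym_models h2 (show 1 ≤ m by omega) hα eJ eM hdm hM
      by_cases hsq : IsSquare ((-1) ^ m * (M : Matrix (Fin n) (Fin n) F₀).det)
      · exact Or.inr (Or.inl ((isConj_iff S p hn hP₂ hP).2 (hp1 hsq)))
      · exact Or.inr (Or.inr ((isConj_iff S p hn hP₃ hP).2 (hp2 hsq)))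
    · exact Or.inl ((isConj_iff S p hn hP₁ hP).2
        (Graph.cong_J eJ (Graph.alt_quad h2 hM) (Graph.det_ne M)))

include S p in
theorem even_dim_two [Fintype F₀] [CharP F₀ 2] {m : ℕ} (hm : 2 ≤ m) (hnm : n = 2 * m) :
    ∃ (γ₁ γ₃ : MulAut (Cfsg.PSU n F q)) (t : ↥(Matrix.symplecticGroup (Fin m) F₀)), Cfsg.IsTransvection (t : Matrix (Fin m ⊕ Fin m) (Fin m ⊕ Fin m) F₀) ∧ Cfsg.IsGraphAutClassPSU γ₁ ∧ orderOf γ₁ = 2 ∧ Cfsg.IsGraphAutClassPSU γ₃ ∧ orderOf γ₃ = 2 ∧ ¬ Cfsg.IsConjUnder (Cfsg.inndiagPSU n F q) γ₁ γ₃ ∧ (∀ γ : MulAut (Cfsg.PSU n F q), Cfsg.IsGraphAutClassPSU γ → orderOf γ = 2 → Cfsg.IsConjUnder (Cfsg.inndiagPSU n F q) γ₁ γ ∨ Cfsg.IsConjUnder (Cfsg.inndiagPSU n F q) γ₃ γ) ∧ Nonempty (↥(Cfsg.inndiagPSU n F q ⊓ Subgroup.centralizer {γ₁}) ≃* ↥(Matrix.symplecticGroup (Fin m) F₀)) ∧ Nonempty (↥(Cfsg.inndiagPSU n F q ⊓ Subgroup.centralizer {γ₃}) ≃* ↥(Subgroup.centralizer ({t} :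 Set ↥(Matrix.symplecticGroup (Fin m) F₀)))) := by
  have hn : 3 ≤ n := by omega
  obtain ⟨eJ⟩ := exists_equiv (ι := Fin m ⊕ Fin m) (n := n) (by simp; omega)
  let i : Fin m := ⟨0, by omega⟩
  let A : GL (Fin m ⊕ Fin m) F₀ := mkGL (evenN m F₀ i) (det_evenN i)
  set MJ := reGL eJ (jGL m F₀) with hMJ
  set MN := reGL eJ A with hMN
  have hJt : (MJ : Matrix (Fin n) (Fin n) F₀)ᵀ = MJ := Graph.reGL_transpose eJ (J_symm m)
  have hNt : (MN : Matrix (Fin n) (Fin n) F₀)ᵀ = MN := Graph.reGL_transpose eJ (evenN_transpose i)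
  have hJq : ∀ v : Fin n → F₀, v ⬝ᵥ ((MJ : Matrix (Fin n) (Fin n) F₀) *ᵥ v) = 0 := fun v => by
    rw [quad_diag hJt]
    refine Finset.sum_eq_zero fun r _ => ?_
    rw [hMJ, reGL_coe, submatrix_apply, jGL_coe]
    rcases eJ.symm r with s | s <;> simp [Matrix.J]
  have hNd : (MN : Matrix (Fin n) (Fin n) F₀) (eJ (.inl i)) (eJ (.inl i)) = 1 := by
    simp [hMN, A, evenN_diag]
  obtain ⟨g₁, hP₁, hg₁, ho₁⟩ := exists_aut S p hn MJ (Or.inl hJt)
  obtain ⟨g₃, hP₃, hg₃, ho₃⟩ := exists_aut S p hn MN (Or.inl hNt)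
  refine ⟨gu K p hn g₁, gu K p hn g₃, transvec i, isTransvection i, hg₁, ho₁, hg₃, ho₃, fun h => ?_,
    fun γ hγ hγ2 => ?_, ?_, ?_⟩
  · have := ((isConj_iff S p hn hP₁ hP₃).1 h).alt hJq (Pi.single (eJ (.inl i)) 1)
    rw [Matrix.mulVec_single_one, single_dotProduct, one_mul] at this
    exact one_ne_zero (α := F₀) (hNd.symm.trans this)
  · obtain ⟨g, M, rfl, hP, hM⟩ := exists_rep S p hn hγ hγ2
    have hs := Graph.sym_of_two hM
    by_cases h : ∀ v : Fin n → F₀, v ⬝ᵥ ((M : Matrix (Fin n) (Fin n) F₀) *ᵥ v) = 0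
    · exact Or.inl ((isConj_iff S p hn hP₁ hP).2 (Graph.cong_J eJ h (Graph.det_ne M)))
    · exact Or.inr ((isConj_iff S p hn hP₃ hP).2
        (Graph.Cong.of_eq (Congr.exists_congr_two hNt hs (Graph.det_ne MN) (Graph.det_ne M)
          ⟨eJ (.inl i), by rw [hNd]; exact one_ne_zero⟩ (Graph.diag_of_not_alt hs h)).choose_spec))
  · obtain ⟨e₁⟩ := centralizer_model S p hn eJ (jGL m F₀) (Cfsg.GSp m F₀) mem_GSp_iff hP₁ (self_cong _)
    refine ⟨e₁.trans (Nonempty.some (projQuot_equiv (Cfsg.GSp m F₀) (spHom m F₀)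
      (fun k => (mem_GSp_iff _).2 ⟨1, ?_⟩) (fun k hk => ?_) fun h hh => ?_))⟩
    · rw [Units.val_one, one_smul, spHom_coe, jGL_coe]
      exact SymplecticGroup.mem_iff'.1 k.2
    · have h1 := eq_one_of_scalar (M := Matrix.J (Fin m) F₀) (fun h => by
          haveI : Nonempty (Fin m ⊕ Fin m) := ⟨.inl i⟩
          have := isUnit_det_J (Fin m) F₀
          rw [h] at this
          simp at this) (k := spHom m F₀ k)
        (by rw [spHom_coe]; exact SymplecticGroup.mem_iff'.1 k.2) hk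
      exact Subtype.ext (congrArg Units.val h1)
    · obtain ⟨c, hc⟩ := (mem_GSp_iff h).1 hh
      obtain ⟨d, k, rfl, hk⟩ := isometry_part hc
      exact ⟨d, ⟨_, SymplecticGroup.mem_iff'.2 hk⟩, congrArg _ (Units.ext rfl)⟩
  · obtain ⟨e₁⟩ := centralizer_model S p hn eJ A (simGroup (evenN m F₀ i)) (mem_simGroup _) hP₃
      (self_cong _)
    obtain ⟨e₂⟩ := equiv_evenN i (simGroup (evenN m F₀ i)) (mem_simGroup _)
    exact ⟨e₁.trans e₂⟩

include S p in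
/-- The `q`-power automorphism. -/
theorem std_class [Fintype F₀] (h2 : (2 : F₀) ≠ 0) {m : ℕ} (hm : 2 ≤ m) (hev : Even m) (hnm : n = 2 * m)
    {σ : F ≃+* F} (hσ : ∀ a : F, σ a = a ^ q) {φ : MulAut (PSU n F q)} (hφ : IsFieldAutPSUOf σ φ) :
    Nonempty (↥(inndiagPSU n F q ⊓ Subgroup.centralizer {φ}) ≃* Cfsg.PGO F₀ (Cfsg.quadFormPlus m F₀)) := by
  have hn : 3 ≤ n := by omega
  obtain rfl : σ = K.bar := RingEquiv.ext fun a => by rw [hσ, K.bar_apply]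
  obtain rfl := (std_iff K p hn K.bar φ).1 hφ
  have he : (twist K p hn).φ K.bar = gu K p hn 1 := by rw [gu, map_one, one_mul]
  rw [he]
  have hP : S.Pres ((1 : GU n F q) : GL (Fin n) F) ((1 : GL (Fin n) F₀) : Matrix (Fin n) (Fin n) F₀) :=
    ⟨1, 1, 1, by simp, by simp⟩
  obtain ⟨α, hα⟩ := exists_nonsq h2
  obtain ⟨eJ⟩ := exists_equiv (ι := Fin m ⊕ Fin m) (n := n) (by simp; omega)
  obtain ⟨eM⟩ := exists_equiv (ι := (Fin (m - 1) ⊕ Fin (m - 1)) ⊕ Fin 2) (n := n) (by simp; omega)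
  obtain ⟨hp1, -⟩ := sym_models h2 (show 1 ≤ m by omega) hα eJ eM (det_minus_ok h2 hα (m - 1))
    (M := (1 : GL (Fin n) F₀)) (by rw [Units.val_one, transpose_one])
  exact centralizer_model S p hn eJ _ _ (quadSimilarity_iff h2 (plusA_transpose m) (quad_plus m)) hP
    (hp1 (by rw [hev.neg_one_pow, Units.val_one, det_one, one_mul]; exact IsSquare.one))

/-! ### Splitting -/

theorem index_sq_pow {G : Type*} [CommGroup G] [Finite G] [IsCyclic G] {N : ℕ} (hN : Nat.card G = N)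
    (hev : Even N) (hn' : Even n) :
    ((powMonoidHom n : G →* G).range.comap (powMonoidHom 2)).index = Nat.gcd n N / 2 := by
  have hle : (powMonoidHom n : G →* G).range ≤ (powMonoidHom 2 : G →* G).range := by
    rintro _ ⟨c, rfl⟩
    obtain ⟨k, hk⟩ := hn'
    refine ⟨c ^ k, ?_⟩
    show (c ^ k) ^ 2 = c ^ n
    rw [← pow_mul, hk, mul_two]
  have h := Subgroup.relIndex_mul_index hle
  rw [← Subgroup.index_comap, index_range_pow, index_range_pow, hN, Nat.gcd_eq_right hev.two_dvd] at h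
  rw [Nat.gcd_comm n, ← h, Nat.mul_div_cancel _ two_pos]

theorem index_pow' {G : Type*} [CommGroup G] [Finite G] [IsCyclic G] {N : ℕ} (hN : Nat.card G = N)
    (d : ℕ) : (powMonoidHom d : G →* G).range.index = Nat.gcd d N := by
  rw [index_range_pow, hN, Nat.gcd_comm]

/-- `μ / μ̄`. -/
def ratio (μ : Fˣ) : normOne K :=
  ⟨μ * (Units.map K.bar.toRingHom.toMonoidHom μ)⁻¹, (mem_normOne K).2 (by
    have h0 : K.bar (μ : F) ≠ 0 := (_root_.map_ne_zero K.bar).2 μ.ne_zero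
    rw [Units.val_mul, Units.val_inv_eq_inv_val]
    show (μ : F) * (K.bar μ)⁻¹ * K.bar (μ * (K.bar μ)⁻¹) = 1
    rw [map_mul, map_inv₀, K.bar_bar]
    field_simp)⟩

omit hp [CharP F p] in
theorem ratio_coe (μ : Fˣ) : ((ratio (K := K) μ : Fˣ) : F) = (μ : F) / K.bar μ := by
  show ((μ * (Units.map K.bar.toRingHom.toMonoidHom μ)⁻¹ : Fˣ) : F) = _
  rw [Units.val_mul, Units.val_inv_eq_inv_val, div_eq_mul_inv]
  rfl

theorem exists_ratio (v : normOne K) : ∃ μ : Fˣ, ratio μ = v := by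
  obtain ⟨μ, hμ⟩ := exists_div_bar (K := K) ((mem_normOne K).1 v.2)
  refine ⟨μ, Subtype.ext (Units.ext ?_)⟩
  rw [ratio_coe, div_eq_iff ((_root_.map_ne_zero K.bar).2 μ.ne_zero)]
  exact hμ.symm

theorem det_sq_of {ι : Type} [Fintype ι] [DecidableEq ι] {A : Matrix ι ι F₀} (hA : A.det ≠ 0)
    {a : Matrix ι ι F₀} {c : F₀} (h : aᵀ * A * a = c • A) : a.det ^ 2 = c ^ Fintype.card ι := by
  have h' := congrArg Matrix.det h
  rw [det_mul, det_mul, det_transpose, det_smul] at h'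
  exact mul_right_cancel₀ hA (by rw [← h']; ring)

theorem sq_eq {μ : Fˣ} {c : F} {δ : F} {d : normOne K} (hμ : (μ : F) * K.bar μ * c = 1)
    (hδ : δ ^ 2 = c ^ n) (hd : ((d : Fˣ) : F) = (μ : F) ^ n * δ) :
    d ^ 2 = ratio μ ^ n := by
  refine Subtype.ext (Units.ext ?_)
  simp only [SubmonoidClass.coe_pow, Units.val_pow_eq_pow_val, ratio_coe]
  have h0 : K.bar (μ : F) ≠ 0 := (_root_.map_ne_zero K.bar).2 μ.ne_zero
  have hc : c = ((μ : F) * K.bar μ)⁻¹ :=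
    (eq_inv_of_mul_eq_one_right hμ)
  rw [hd, mul_pow, hδ, hc, ← pow_mul, mul_comm n 2, pow_mul, ← mul_pow]
  congr 1
  field_simp

include S p hn in
theorem split_plain (hcase : Odd n ∨ (2 : F₀) = 0) {g : GU n F q} {M : GL (Fin n) F₀}
    (h : S.Pres g (M : Matrix (Fin n) (Fin n) F₀)) :
    Cfsg.splitClassCount (inndiagPSU n F q) (Cfsg.Inn (PSU n F q)) (gu K p hn g) =
      Nat.gcd n (q + 1) := by
  obtain ⟨D⟩ := S.exists_data (Equiv.refl (Fin n)) (M := M) (by rw [Graph.reGL_refl]; exact h)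
  rw [Sub.split D p hn (powMonoidHom n).range le_rfl ?_ ?_, index_pow' (card_normOne K)]
  · intro a c μ d ha hμ hd
    have hδ := det_sq_of (Graph.det_ne M) ha
    rw [Fintype.card_fin] at hδ
    have hsq := sq_eq (n := n) (δ := S.emb (a : Matrix (Fin n) (Fin n) F₀).det) hμ
      (by rw [← map_pow, hδ, map_pow]) hd
    rcases hcase with ⟨k, hk⟩ | h2
    · generalize ratio (K := K) μ = w at hsq
      refine ⟨d / w ^ k, ?_⟩
      show (d / w ^ k) ^ n = d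
      rw [hk] at hsq ⊢
      rw [pow_succ (n := 2 * k), pow_mul, div_pow, hsq]
      rw [show w ^ (2 * k + 1) / (w ^ k) ^ 2 = w by
        rw [← pow_mul, pow_succ, mul_comm k 2, mul_div_cancel_left]]
      rw [mul_comm, div_mul_cancel]
    · haveI : CharP F₀ 2 := CharTwo.of_one_ne_zero_of_two_eq_zero one_ne_zero h2
      haveI : CharP F 2 :=
        CharTwo.of_one_ne_zero_of_two_eq_zero one_ne_zero (by rw [← map_ofNat S.emb 2, h2, map_zero])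
      obtain ⟨v, hv⟩ := exists_sqrt ((ratio (K := K) μ : Fˣ))
      have hvn : v ∈ normOne K := (mem_normOne K).2 (by
        have h1 := (mem_normOne K).1 (ratio (K := K) μ).2
        rw [hv, Units.val_pow_eq_pow_val, map_pow, ← mul_pow] at h1
        have : ((v : F) * K.bar v - 1) ^ 2 = 0 := by
          rw [CharTwo.sub_eq_add, CharTwo.add_sq, h1, one_pow, CharTwo.add_self_eq_zero]
        exact sub_eq_zero.1 (sq_eq_zero_iff.1 this))
      refine ⟨⟨v, hvn⟩, ?_⟩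
      show (⟨v, hvn⟩ : normOne K) ^ n = d
      rw [← div_eq_one]
      refine Subtype.ext (eq_one_of_sq (F := F) ?_)
      rw [← SubmonoidClass.coe_pow, div_pow, hsq]
      show ((((⟨v, hvn⟩ : normOne K) ^ n) ^ 2 / ratio (K := K) μ ^ n : normOne K) : Fˣ) = 1
      rw [← pow_mul, mul_comm n 2, pow_mul, show (⟨v, hvn⟩ : normOne K) ^ 2 = ratio μ from
        Subtype.ext hv.symm, div_self']
      rfl
  · rintro d ⟨v, rfl⟩
    refine ⟨1, 1, (v : Fˣ), by simp, ?_, ?_⟩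
    · rw [Units.val_one, map_one, mul_one]
      exact (mem_normOne K).1 v.2
    · simp

include S p hn in
theorem split_orth [Fintype F₀] (h2 : (2 : F₀) ≠ 0) (hqodd : Odd q) (hev : Even n) {g : GU n F q}
    {M : GL (Fin n) F₀} (h : S.Pres g (M : Matrix (Fin n) (Fin n) F₀))
    (hM : (M : Matrix (Fin n) (Fin n) F₀)ᵀ = M) :
    Cfsg.splitClassCount (inndiagPSU n F q) (Cfsg.Inn (PSU n F q)) (gu K p hn g) =
      Nat.gcd n (q + 1) / 2 := by
  obtain ⟨D⟩ := S.exists_data (Equiv.refl (Fin n)) (M := M) (by rw [Graph.reGL_refl]; exact h)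
  rw [Sub.split D p hn ((powMonoidHom n : normOne K →* normOne K).range.comap (powMonoidHom 2)) ?_ ?_ ?_,
    index_sq_pow (card_normOne K) (hqodd.add_odd odd_one) hev]
  · rintro _ ⟨c, rfl⟩
    refine ⟨c ^ 2, ?_⟩
    show (c ^ 2) ^ n = (c ^ n) ^ 2
    rw [← pow_mul, ← pow_mul, mul_comm]
  · intro a c μ d ha hμ hd
    have hδ := det_sq_of (Graph.det_ne M) ha
    rw [Fintype.card_fin] at hδ
    exact ⟨ratio μ, (sq_eq (n := n) (δ := S.emb (a : Matrix (Fin n) (Fin n) F₀).det) hμ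
      (by rw [← map_pow, hδ, map_pow]) hd).symm⟩
  · rintro d ⟨v, hv⟩
    change v ^ n = d ^ 2 at hv
    obtain ⟨μ, rfl⟩ := exists_ratio v
    have hμ0 : (μ : F) * K.bar μ ≠ 0 := mul_ne_zero μ.ne_zero ((_root_.map_ne_zero K.bar).2 μ.ne_zero)
    obtain ⟨c, hc⟩ := (S.fixed (((μ : F) * K.bar μ)⁻¹)).1 (by
      rw [map_inv₀, map_mul, K.bar_bar, mul_comm])
    have hc0 : c ≠ 0 := fun h0 => inv_ne_zero hμ0 (by rw [← hc, h0, map_zero])
    obtain ⟨k, hk⟩ := hev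
    set δ : F := ((d : Fˣ) : F) / (μ : F) ^ n with hδdef
    have hδ : δ ^ 2 = (S.emb c ^ k) ^ 2 := by
      have h1 := congrArg (fun x : normOne K => ((x : Fˣ) : F)) hv
      simp only [SubmonoidClass.coe_pow, Units.val_pow_eq_pow_val, ratio_coe] at h1
      rw [← pow_mul, show k * 2 = n by omega, hc, hδdef, div_pow, ← h1, ← pow_mul, mul_comm n 2, pow_mul,
        ← div_pow]
      congr 1
      have hb : K.bar (μ : F) ≠ 0 := (_root_.map_ne_zero K.bar).2 μ.ne_zero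
      field_simp
    obtain ⟨δ₀, hδ₀⟩ : ∃ δ₀ : F₀, S.emb δ₀ = δ := by
      rcases eq_or_eq_neg_of_sq_eq_sq _ _ hδ with h | h
      · exact ⟨c ^ k, by rw [map_pow, h]⟩
      · exact ⟨-c ^ k, by rw [map_neg, map_pow, h]⟩
    have hδ₀2 : δ₀ ^ 2 = c ^ n := S.emb.injective (by
      rw [map_pow, map_pow, hδ₀, hδ, ← pow_mul, show k * 2 = n by omega])
    have hδne : δ₀ ≠ 0 := fun h0 => by
      rw [h0, zero_pow two_ne_zero] at hδ₀2
      exact pow_ne_zero n hc0 hδ₀2.symm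
    obtain ⟨a, ha, hda⟩ := Graph.exists_similitude_det h2 ⟨k, hk⟩ (by omega) hM (Graph.det_ne M)
      (Units.mk0 c hc0) (Units.mk0 δ₀ hδne) (Units.ext hδ₀2)
    refine ⟨a, Units.mk0 c hc0, μ, ha, by rw [Units.val_mk0, hc, mul_inv_cancel₀ hμ0], ?_⟩
    have h2' := congrArg Units.val hda
    rw [GeneralLinearGroup.val_det_apply, Units.val_mk0] at h2'
    rw [h2', hδ₀, hδdef, mul_div_cancel₀ _ (pow_ne_zero _ μ.ne_zero)]

include S p hn in
theorem split_symp [Finite F₀] {m : ℕ} (hnm : n = 2 * m) (e : Fin m ⊕ Fin m ≃ Fin n) {g : GU n F q}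
    {M : GL (Fin n) F₀} (h : S.Pres g (M : Matrix (Fin n) (Fin n) F₀))
    (hc : Cong (reGL e (jGL m F₀) : Matrix (Fin n) (Fin n) F₀) (M : Matrix (Fin n) (Fin n) F₀)) :
    Cfsg.splitClassCount (inndiagPSU n F q) (Cfsg.Inn (PSU n F q)) (gu K p hn g) =
      Nat.gcd m (q + 1) := by
  obtain ⟨D⟩ := S.exists_data e (S.pres_cong h hc.symm')
  rw [Sub.split D p hn (powMonoidHom m).range ?_ ?_ ?_, index_pow' (card_normOne K)]
  · rintro _ ⟨v, rfl⟩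
    refine ⟨v ^ 2, ?_⟩
    show (v ^ 2) ^ m = v ^ n
    rw [← pow_mul, hnm]
  · intro a c μ d ha hμ hd
    refine ⟨ratio μ, Subtype.ext (Units.ext ?_)⟩
    have hdet := congrArg Units.val (det_similitude_J a c ha)
    rw [GeneralLinearGroup.val_det_apply, Units.val_pow_eq_pow_val] at hdet
    show (((ratio (K := K) μ ^ m : normOne K) : Fˣ) : F) = _
    simp only [SubmonoidClass.coe_pow, Units.val_pow_eq_pow_val, ratio_coe]
    rw [hd, hdet, map_pow, eq_inv_of_mul_eq_one_right hμ, hnm, pow_mul, ← mul_pow]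
    congr 1
    field_simp [(_root_.map_ne_zero K.bar).2 μ.ne_zero]
  · rintro d ⟨v, rfl⟩
    obtain ⟨μ, rfl⟩ := exists_ratio v
    have hμ0 : (μ : F) * K.bar μ ≠ 0 := mul_ne_zero μ.ne_zero ((_root_.map_ne_zero K.bar).2 μ.ne_zero)
    obtain ⟨c, hc⟩ := (S.fixed (((μ : F) * K.bar μ)⁻¹)).1 (by
      rw [map_inv₀, map_mul, K.bar_bar, mul_comm])
    have hc0 : c ≠ 0 := fun h0 => inv_ne_zero hμ0 (by rw [← hc, h0, map_zero])
    refine ⟨diagC m (Units.mk0 c hc0), Units.mk0 c hc0, μ, diagC_similitude m _,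
      by rw [Units.val_mk0, hc, mul_inv_cancel₀ hμ0], ?_⟩
    have hdet := congrArg Units.val (det_diagC (F := F₀) m (Units.mk0 c hc0))
    rw [GeneralLinearGroup.val_det_apply, Units.val_pow_eq_pow_val, Units.val_mk0] at hdet
    show (((ratio (K := K) μ ^ m : normOne K) : Fˣ) : F) = _
    simp only [SubmonoidClass.coe_pow, Units.val_pow_eq_pow_val, ratio_coe]
    rw [hdet, map_pow, hc, hnm, pow_mul, ← mul_pow]
    congr 1
    field_simp [(_root_.map_ne_zero K.bar).2 μ.ne_zero]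

include S p hn in
theorem splitting [Fintype F₀] {γ : MulAut (PSU n F q)} (hγ : IsGraphAutClassPSU γ) (hγ2 : orderOf γ = 2)
    (hpar : Odd q ↔ (2 : F₀) ≠ 0) :
    ((Even n ∧ Odd q ∧ Nonempty (↥(inndiagPSU n F q ⊓ Subgroup.centralizer {γ}) ≃* Cfsg.PGSp (n / 2) F₀)) →
      Cfsg.splitClassCount (inndiagPSU n F q) (Cfsg.Inn (PSU n F q)) γ = Nat.gcd (n / 2) (q + 1)) ∧
    ((Even n ∧ Odd q ∧ ¬ Nonempty (↥(inndiagPSU n F q ⊓ Subgroup.centralizer {γ}) ≃* Cfsg.PGSp (n / 2) F₀)) →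
      Cfsg.splitClassCount (inndiagPSU n F q) (Cfsg.Inn (PSU n F q)) γ = Nat.gcd n (q + 1) / 2) ∧
    (¬ (Even n ∧ Odd q) →
      Cfsg.splitClassCount (inndiagPSU n F q) (Cfsg.Inn (PSU n F q)) γ = Nat.gcd n (q + 1)) := by
  obtain ⟨g, M, rfl, hP, hM⟩ := exists_rep S p hn hγ hγ2
  refine ⟨?_, ?_, fun h => ?_⟩
  · rintro ⟨⟨m, hm⟩, hodd, ⟨f⟩⟩
    have h2 := hpar.1 hodd
    have hdiv : n / 2 = m := by omega
    rw [hdiv]
    have f' : ↥(inndiagPSU n F q ⊓ Subgroup.centralizer {gu K p hn g}) ≃* Cfsg.PGSp m F₀ := hdiv ▸ f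
    obtain ⟨eJ⟩ := exists_equiv (ι := Fin m ⊕ Fin m) (n := n) (by simp; omega)
    rcases hM with hM | hM
    · exfalso
      obtain ⟨α, hα⟩ := exists_nonsq h2
      obtain ⟨eM⟩ := exists_equiv (ι := (Fin (m - 1) ⊕ Fin (m - 1)) ⊕ Fin 2) (n := n) (by simp; omega)
      have hdm := det_minus_ok h2 hα (m - 1)
      obtain ⟨hp1, hp2⟩ := sym_models h2 (show 1 ≤ m by omega) hα eJ eM hdm hM
      obtain ⟨k1, k2⟩ := Graph.card_ne h2 (show 2 ≤ m by omega) hα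
      by_cases hs : IsSquare ((-1) ^ m * (M : Matrix (Fin n) (Fin n) F₀).det)
      · obtain ⟨f₁⟩ := centralizer_model S p hn eJ _ _
          (quadSimilarity_iff h2 (plusA_transpose m) (quad_plus m)) hP (hp1 hs)
        exact k1 (Nat.card_congr (f₁.symm.trans f').toEquiv)
      · obtain ⟨f₁⟩ := centralizer_model S p hn eM _ _
          (quadSimilarity_iff h2 (minusA_transpose _ _ _) (quad_minus (m - 1) 0 (-α))) hP (hp2 hs)
        exact k2 (Nat.card_congr (f₁.symm.trans f').toEquiv)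
    · exact split_symp S p hn (by omega) eJ hP (Graph.cong_J eJ (Graph.alt_quad h2 hM) (Graph.det_ne M))
  · rintro ⟨⟨m, hm⟩, hodd, hiso⟩
    have h2 := hpar.1 hodd
    rcases hM with hM | hM
    · exact split_orth S p hn h2 hodd ⟨m, hm⟩ hP hM
    · have hdiv : n / 2 = m := by omega
      rw [hdiv] at hiso
      obtain ⟨e⟩ := exists_equiv (ι := Fin m ⊕ Fin m) (n := n) (by simp; omega)
      exact absurd (centralizer_model S p hn e (jGL m F₀) (Cfsg.GSp m F₀) mem_GSp_iff hP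
        (Graph.cong_J e (Graph.alt_quad h2 hM) (Graph.det_ne M))) hiso
  · refine split_plain S p hn ?_ hP
    by_cases he : Even n
    · exact Or.inr (not_not.1 fun h2 => h ⟨he, hpar.2 h2⟩)
    · exact Or.inl (Nat.not_even_iff_odd.1 he)

end CfsgLib.ClassicalAut.Unitary
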