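import Cfsg.Agent.Lib.AutPSL.BalancePSL
import Cfsg.Agent.Lib.ClassicalAut.UnitaryGraphMain
import Cfsg.Agent.Lib.ClassicalAut.SympBalance
import Cfsg.Agent.Lib.Classical.UnitaryOrder

set_option autoImplicit false
set_option linter.unusedSectionVars false

/-!
Local balance at involutory graph automorphisms of `PSU_n(q)`, `q` odd.
-/

namespace CfsgLib.ClassicalAut.Balance

variable {X : Type*} [Group X] [Finite X]

/-- The largest odd-order normal subgroup of the fixed points, seen in the ambient group. -/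
def oddPart (x : MulAut X) : Subgroup X := (Cfsg.pPrimeCore 2 (Fix x)).map (Fix x).subtype

theorem oddPart_fixed {x : MulAut X} {k : X} (hk : k ∈ oddPart x) : x k = k := by
  obtain ⟨k', -, rfl⟩ := hk
  exact k'.2

theorem oddPart_sq {x : MulAut X} {k : X} (hk : k ∈ oddPart x) (h : k * k = 1) : k = 1 := by
  obtain ⟨k', hk', rfl⟩ := hk
  have h1 : orderOf (⟨k', hk'⟩ : Cfsg.pPrimeCore 2 (Fix x)) ∣ 2 :=
    orderOf_dvd_of_pow_eq_one (Subtype.ext (Subtype.ext (by rw [pow_two]; exact h)))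
  have h3 := Nat.dvd_gcd (orderOf_dvd_natCard _) h1
  rw [(CfsgLib.Transfer.pPrimeCore_coprime (G := Fix x) 2).gcd_eq_one, Nat.dvd_one, orderOf_eq_one_iff] at h3
  exact congrArg Subtype.val (congrArg Subtype.val h3)

/-- Automorphisms commuting with `x` act on the odd part. -/
theorem apply_mem_oddPart {x a : MulAut X} (ha : Commute a x) {k : X} (hk : k ∈ oddPart x) :
    a k ∈ oddPart x := by
  have hfix : ∀ y, x y = y ↔ x (a y) = a y := fun y => by
    rw [← MulAut.mul_apply, ← ha.eq, MulAut.mul_apply, EmbeddingLike.apply_eq_iff_eq]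
  let e : Fix x ≃* Fix x :=
    { toFun := fun y => ⟨a y, (hfix y).1 y.2⟩
      invFun := fun y => ⟨a.symm y, (hfix _).2 (by rw [a.apply_symm_apply]; exact y.2)⟩
      left_inv := fun y => Subtype.ext (a.symm_apply_apply _)
      right_inv := fun y => Subtype.ext (a.apply_symm_apply _)
      map_mul' := fun y z => Subtype.ext (map_mul a _ _) }
  obtain ⟨k', hk', rfl⟩ := hk
  refine ⟨e k', CfsgLib.Transfer.le_pPrimeCore
    (Subgroup.Normal.map (CfsgLib.Transfer.pPrimeCore_normal 2 _) e.toMonoidHom e.surjective) ?_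
    ⟨k', hk', rfl⟩, rfl⟩
  rw [← Nat.card_congr (Subgroup.equivMapOfInjective _ e.toMonoidHom e.injective).toEquiv]
  exact CfsgLib.Transfer.pPrimeCore_coprime 2

/-- An involution with trivial odd part has trivial core. -/
theorem core_eq_bot (A : Subgroup (MulAut X)) (hinn : ∀ k, MulAut.conj k ∈ A)
    (hker : ∀ k : X, MulAut.conj k = 1 → k = 1) {x : MulAut X} (hxA : x ∈ A) (hord : orderOf x = 2)
    (hinv : ∃ k, k ≠ 1 ∧ k * k = 1 ∧ x k = k) (hC : oddPart x = ⊥)
    (hcent : ∀ g : MulAut X, (∀ k, x k = k → g k = k) → g ∈ Subgroup.zpowers x) :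
    Cfsg.pPrimeCore 2 ↥(A ⊓ Subgroup.centralizer {x}) = ⊥ := by
  haveI : Fact (Nat.Prime 2) := ⟨Nat.prime_two⟩
  obtain ⟨k, hk, hkk, hxk⟩ := hinv
  have hodd : ∀ N : Subgroup (Fix x), N.Normal → N ≠ ⊥ → 2 ∣ Nat.card N := fun N hN hne => by
    by_contra h2
    refine hne ((Subgroup.eq_bot_iff_forall _).2 fun y hy => Subtype.ext ?_)
    show (y : X) = 1
    rw [← Subgroup.mem_bot, ← hC]
    exact ⟨y, CfsgLib.Transfer.le_pPrimeCore hN ((Nat.prime_two.coprime_iff_not_dvd).2 h2).symm hy, rfl⟩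
  by_contra hne
  have h1 := (pPrimeCore_ne_bot_iff A hinn hker hxA hord ⟨k, hk, hxk⟩ (fun _ => hodd) hcent).1 hne
  refine (Nat.Prime.coprime_iff_not_dvd Nat.prime_two).1 h1 ?_
  have h2 : orderOf (⟨k, hxk⟩ : Fix x) = 2 :=
    orderOf_eq_prime (Subtype.ext (by rw [pow_two]; exact hkk)) fun e => hk (congrArg Subtype.val e)
  exact h2 ▸ orderOf_dvd_natCard _

end CfsgLib.ClassicalAut.Balance

namespace CfsgLib.ClassicalAut.Unitary

open Matrix Cfsg CfsgLib.AutPSL
open CfsgLib.AutPSL.Graph (Cong reGL reGL_coe)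
open CfsgLib.ClassicalAut (scal scal_coe scal_mul_coe)

universe u v

variable {F : Type u} [Field F] [Finite F] {q n : ℕ} {K : Conj F q}

section

variable (K) (p : ℕ) [Fact p.Prime] [CharP F p] (hn : 3 ≤ n)

include K p hn in
theorem conj_faithful (k : PSU n F q) (h : MulAut.conj k = 1) : k = 1 := by
  obtain ⟨s, rfl⟩ := QuotientGroup.mk_surjective k
  obtain ⟨g, hg, hgs⟩ := (carrier K hn p).mem_H s
  have hd := (carrier K hn p).delta_eq_conj (g := ⟨g, hg⟩) (s := s) hgs
  rw [h] at hd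
  obtain ⟨b, hb⟩ := ((carrier K hn p).delta_eq_one_iff p (exists_frame K hn).some (g := ⟨g, hg⟩)).1 hd
  exact (QuotientGroup.eq_one_iff s).2 ((CfsgLib.Classical.Herm.center_iff K (by omega) s).2 ⟨b, hgs.symm.trans hb⟩)

/-- An element of `SU_n` inside `GU_n`. -/
def toGU (s : SU n F q) : GU n F q := ⟨Matrix.SpecialLinearGroup.toGL s.1, fun u v => s.2 u v⟩

theorem delta_toGU (s : SU n F q) :
    (twist K p hn).δ (toGU s) = MulAut.conj (QuotientGroup.mk s : PSU n F q) :=
  (carrier K hn p).delta_eq_conj (g := toGU s) (s := s) rfl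

/-- Conjugation of a special unitary matrix by a unitary one. -/
def conjSU (w : GU n F q) (s : SU n F q) : SU n F q :=
  ⟨⟨(((w : GL (Fin n) F) * Matrix.SpecialLinearGroup.toGL s.1 * (w : GL (Fin n) F)⁻¹ : GL (Fin n) F) :
      Matrix (Fin n) (Fin n) F), by
    rw [Units.val_mul, Units.val_mul, Matrix.det_units_conj]; exact s.1.2⟩,
   fun u v => ((w * toGU s * w⁻¹ : GU n F q)).2 u v⟩

theorem delta_mk (w : GU n F q) (s : SU n F q) :
    (twist K p hn).δ w (QuotientGroup.mk s) = (QuotientGroup.mk (conjSU w s) : PSU n F q) :=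
  (carrier K hn p).delta_spec w s (conjSU w s) (by
    show _ = _ * ((s.1 : Matrix (Fin n) (Fin n) F).map ⇑(1 : F ≃+* F)) * _
    rfl)

end

variable {F₀ : Type v} [Field F₀] {S : Sub K F₀} {ι : Type} [Fintype ι] [DecidableEq ι] {e : ι ≃ Fin n}
variable {g : GU n F q} {M : GL ι F₀} (D : S.Data e g M)

namespace Sub

/-- Similitude of the model. -/
def IsSim (M : GL ι F₀) (a : GL ι F₀) (k : F₀ˣ) : Prop :=
  (a : Matrix ι ι F₀)ᵀ * M * a = (k : F₀) • (M : Matrix ι ι F₀)

/-- `lift 1` as a homomorphism. -/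
noncomputable def lift₁ : GL ι F₀ →* GL (Fin n) F where
  toFun a := lift D 1 a
  map_one' := by simp [lift]
  map_mul' a b := by simp [lift, mul_assoc]

theorem lift_eq (μ : Fˣ) (a : GL ι F₀) : lift D μ a = scal μ * lift₁ D a := by
  show lift D μ a = scal μ * lift D 1 a
  simp [lift]

theorem lift_mul (μ ν : Fˣ) (a a' : GL ι F₀) : lift D (μ * ν) (a * a') = lift D μ a * lift D ν a' := by
  rw [lift_eq, lift_eq, lift_eq, map_mul, map_mul]
  calc scal μ * scal ν * (lift₁ D a * lift₁ D a') = scal μ * (scal ν * lift₁ D a) * lift₁ D a' := by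
        simp only [mul_assoc]
    _ = scal μ * (lift₁ D a * scal ν) * lift₁ D a' := by rw [scal_comm]
    _ = _ := by simp only [mul_assoc]

theorem det_lift₁ (a : GL ι F₀) :
    ((lift₁ D a : GL (Fin n) F) : Matrix (Fin n) (Fin n) F).det = S.emb (a : Matrix ι ι F₀).det := by
  show (lift D 1 a : Matrix (Fin n) (Fin n) F).det = _
  rw [lift, map_one, one_mul, Units.val_mul, Units.val_mul, Matrix.det_units_conj, S.up_coe, S.det_map,
    det_submatrix_equiv_self]

theorem mem_of_sim (a : GL ι F₀) {μ : Fˣ} {k : F₀ˣ} (h : IsSim M a k) (hμ : (μ : F) * K.bar μ * S.emb k = 1) :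
    lift D μ a ∈ GU n F q := lift_mem D μ a k h hμ

theorem mem_of_iso (a : GL ι F₀) (h : IsSim M a 1) : lift₁ D a ∈ GU n F q :=
  mem_of_sim D a h (by simp)

theorem scalar_isSim (c : F₀ˣ) : IsSim M (GeneralLinearGroup.scalar ι c) (c ^ 2) :=
  Models.scalar_similitude (M : Matrix ι ι F₀) c

theorem lift_scalar (μ : Fˣ) (c : F₀ˣ) :
    lift D μ (GeneralLinearGroup.scalar ι c) = scal (μ * Units.map S.emb.toMonoidHom c) := by
  have h : S.up e (GeneralLinearGroup.scalar ι c) = scal (Units.map S.emb.toMonoidHom c) := by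
    refine Units.ext ?_
    rw [S.up_coe, scal_coe]
    show ((Matrix.scalar ι (c : F₀)).submatrix e.symm e.symm).map S.emb = _
    rw [Matrix.scalar_apply, submatrix_diagonal_equiv, diagonal_map (map_zero _), Matrix.smul_one_eq_diagonal]
    rfl
  rw [lift, h, scal_comm, mul_assoc (scal _) D.b, mul_inv_cancel, mul_one, map_mul]

theorem exists_scalar_of_lift {μ : Fˣ} {a : GL ι F₀} {c : F}
    (h : (lift D μ a : Matrix (Fin n) (Fin n) F) = c • 1) : ∃ t : F₀ˣ, a = GeneralLinearGroup.scalar ι t := by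
  rcases isEmpty_or_nonempty ι with hι | hι
  · exact ⟨1, Units.ext (Matrix.ext fun i => (hι.false i).elim)⟩
  have h1 := lift_b D μ a
  rw [h, Matrix.smul_mul, one_mul, ← Matrix.mul_smul] at h1
  have h2 : (μ : F) • (D.b : Matrix (Fin n) (Fin n) F) * (S.up e a : Matrix (Fin n) (Fin n) F) =
      (D.b : Matrix (Fin n) (Fin n) F) * (c • 1) := by
    rw [Matrix.smul_mul, ← Matrix.mul_smul, ← h1, Matrix.mul_smul, mul_one]
  rw [Matrix.smul_mul, ← Matrix.mul_smul] at h2
  have h3 := D.b.isUnit.mul_left_cancel h2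
  have hent : ∀ i j, (μ : F) * S.emb ((a : Matrix ι ι F₀) i j) = if i = j then c else 0 := fun i j => by
    have h4 := congrFun (congrFun h3 (e i)) (e j)
    rw [S.up_coe] at h4
    simpa [Matrix.one_apply, e.injective.eq_iff] using h4
  obtain ⟨i₀⟩ := hι
  have ha : (a : Matrix ι ι F₀) = Matrix.scalar ι ((a : Matrix ι ι F₀) i₀ i₀) := by
    ext i j
    apply S.emb.injective
    refine mul_left_cancel₀ μ.ne_zero ?_
    rw [hent, Matrix.scalar_apply, Matrix.diagonal_apply]
    split_ifs with hij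
    · rw [hent, if_pos rfl]
    · rw [map_zero, mul_zero]
  have hne : (a : Matrix ι ι F₀) i₀ i₀ ≠ 0 := fun h0 => by
    haveI : Nonempty ι := ⟨i₀⟩
    have h5 := a.isUnit
    rw [ha, h0, map_zero] at h5
    exact not_isUnit_zero h5
  exact ⟨Units.mk0 _ hne, Units.ext ha⟩

variable (p : ℕ) [Fact p.Prime] [CharP F p] (hn : 3 ≤ n)

theorem commute_lift {a : GL ι F₀} {μ : Fˣ} (w : GU n F q) (hw : (w : GL (Fin n) F) = lift D μ a) :
    Commute ((twist K p hn).δ w) (gu K p hn g) :=
  (commute_gu_iff p hn w g).2 ⟨_, by rw [hw]; exact lift_comm D μ a⟩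

theorem fixed_of_lift {a : GL ι F₀} {μ : Fˣ} (s : SU n F q)
    (hs : Matrix.SpecialLinearGroup.toGL s.1 = lift D μ a) :
    gu K p hn g (QuotientGroup.mk s) = (QuotientGroup.mk s : PSU n F q) := by
  have h1 := (commute_lift D p hn (toGU s) hs).eq
  rw [delta_toGU, CfsgLib.ClassicalAut.Balance.mul_conj, mul_left_inj] at h1
  refine mul_inv_eq_one.1 (conj_faithful K p hn _ ?_)
  rw [map_mul, map_inv, ← h1, mul_inv_cancel]

include D p in
theorem exists_lift_of_fixed (s : SU n F q)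
    (h : gu K p hn g (QuotientGroup.mk s) = (QuotientGroup.mk s : PSU n F q)) :
    ∃ (a : GL ι F₀) (μ : Fˣ) (k : F₀ˣ), Matrix.SpecialLinearGroup.toGL s.1 = lift D μ a ∧ IsSim M a k := by
  haveI : Nonempty (Fin n) := ⟨⟨0, by omega⟩⟩
  have hc : Commute ((twist K p hn).δ (toGU s)) (gu K p hn g) := by
    rw [delta_toGU, commute_iff_eq, CfsgLib.ClassicalAut.Balance.mul_conj, h]
  obtain ⟨c, hc⟩ := (commute_gu_iff p hn (toGU s) g).1 hc
  obtain ⟨μ, a, k, h1, h2, -⟩ := exists_of_commute D (toGU s) hc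
  exact ⟨a, μ, k, h1, h2⟩

/-- The matrices lifting the odd part. -/
noncomputable def oddLifts : Subgroup (GL ι F₀) where
  carrier := {a | ∃ (μ : Fˣ) (s : SU n F q), Matrix.SpecialLinearGroup.toGL s.1 = lift D μ a ∧
    (QuotientGroup.mk s : PSU n F q) ∈ Balance.oddPart (gu K p hn g)}
  one_mem' := ⟨1, 1, by rw [lift_eq, map_one, map_one, mul_one]; exact map_one _, one_mem _⟩
  mul_mem' := fun {a a'} ⟨μ, s, h, hC⟩ ⟨ν, s', h', hC'⟩ =>
    ⟨μ * ν, s * s', by rw [lift_mul, Subgroup.coe_mul, map_mul, h, h'], by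
      rw [QuotientGroup.mk_mul]; exact mul_mem hC hC'⟩
  inv_mem' := fun {a} ⟨μ, s, h, hC⟩ =>
    ⟨μ⁻¹, s⁻¹, by
      rw [Subgroup.coe_inv, map_inv, h]
      refine inv_eq_of_mul_eq_one_right ?_
      rw [← lift_mul, mul_inv_cancel, mul_inv_cancel, lift_eq, map_one, map_one, mul_one], by
      rw [QuotientGroup.mk_inv]; exact inv_mem hC⟩

theorem oddLifts_sim {a : GL ι F₀} (ha : a ∈ oddLifts D p hn) : ∃ k, IsSim M a k := by
  obtain ⟨μ, s, hs, hC⟩ := ha
  obtain ⟨a', μ', k, hs', hk⟩ := exists_lift_of_fixed D p hn s (Balance.oddPart_fixed hC)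
  have h1 : lift D 1 1 = lift D (μ⁻¹ * μ') (a⁻¹ * a') := by
    rw [lift_mul, ← hs', ← (show (lift D μ a)⁻¹ = lift D μ⁻¹ a⁻¹ from inv_eq_of_mul_eq_one_right (by
      rw [← lift_mul, mul_inv_cancel, mul_inv_cancel, lift_eq, map_one, map_one, mul_one])), ← hs, inv_mul_cancel,
      lift_eq, map_one, map_one, mul_one]
  obtain ⟨t, ht⟩ := exists_scalar_of_lift D (μ := μ⁻¹ * μ') (a := a⁻¹ * a') (c := 1) (by
    rw [← h1, lift_eq, map_one, map_one, mul_one, one_smul, Units.val_one])
  have ha : a = a' * GeneralLinearGroup.scalar ι t⁻¹ := by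
    rw [map_inv, ← ht]; simp
  refine ⟨k * (t⁻¹) ^ 2, ?_⟩
  show (a : Matrix ι ι F₀)ᵀ * M * a = _
  have hsc : ((GeneralLinearGroup.scalar ι t⁻¹ : GL ι F₀) : Matrix ι ι F₀)ᵀ * M *
      (GeneralLinearGroup.scalar ι t⁻¹ : GL ι F₀) = ((t⁻¹ ^ 2 : F₀ˣ) : F₀) • (M : Matrix ι ι F₀) :=
    scalar_isSim t⁻¹
  rw [ha, Units.val_mul, transpose_mul]
  calc _ = ((GeneralLinearGroup.scalar ι t⁻¹ : GL ι F₀) : Matrix ι ι F₀)ᵀ * ((a' : Matrix ι ι F₀)ᵀ * M * a') *
        (GeneralLinearGroup.scalar ι t⁻¹ : GL ι F₀) := by simp only [mul_assoc]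
    _ = _ := by
        rw [hk, Matrix.mul_smul, Matrix.smul_mul, hsc, smul_smul, Units.val_mul]

theorem oddLifts_conj {a h : GL ι F₀} (ha : a ∈ oddLifts D p hn) (hh : IsSim M h 1) :
    h * a * h⁻¹ ∈ oddLifts D p hn := by
  obtain ⟨μ, s, hs, hC⟩ := ha
  let w : GU n F q := ⟨lift₁ D h, mem_of_iso D h hh⟩
  refine ⟨μ, conjSU w s, ?_, ?_⟩
  · refine Units.ext ?_
    show ((lift₁ D h * Matrix.SpecialLinearGroup.toGL s.1 * (lift₁ D h)⁻¹ : GL (Fin n) F) :
      Matrix (Fin n) (Fin n) F) = _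
    rw [hs, lift_eq, lift_eq, map_mul, map_mul, map_inv, ← mul_assoc, scal_comm]
    simp [mul_assoc]
  · rw [← delta_mk K p hn]
    exact Balance.apply_mem_oddPart (commute_lift D p hn w (μ := 1) (a := h) rfl) hC

theorem oddLifts_sq {a : GL ι F₀} (ha : a ∈ oddLifts D p hn) {c : F₀ˣ}
    (h : a * a = GeneralLinearGroup.scalar ι c) : ∃ t, a = GeneralLinearGroup.scalar ι t := by
  obtain ⟨μ, s, hs, hC⟩ := ha
  have h1 : Matrix.SpecialLinearGroup.toGL (s * s).1 = scal (μ * μ * Units.map S.emb.toMonoidHom c) := by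
    rw [Subgroup.coe_mul, map_mul, hs, ← lift_mul, h, lift_scalar]
  have hcen : (s * s) ∈ Subgroup.center (SU n F q) :=
    (CfsgLib.Classical.Herm.center_iff K (by omega) _).2 ⟨_, (congrArg Units.val h1).trans (scal_coe _)⟩
  have h2 := Balance.oddPart_sq hC (by rw [← QuotientGroup.mk_mul]; exact (QuotientGroup.eq_one_iff _).2 hcen)
  obtain ⟨b, hb⟩ := (CfsgLib.Classical.Herm.center_iff K (by omega) s).1 ((QuotientGroup.eq_one_iff _).1 h2)
  exact exists_scalar_of_lift D (μ := μ) (a := a) (c := b) (by rw [← hs]; exact hb)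

include D p hn in
/-- The criterion on the model. -/
theorem graph_core_bot (h32 : ¬ (n = 3 ∧ q = 2)) (A : Subgroup (MulAut (PSU n F q))) (hinn : ∀ k, MulAut.conj k ∈ A)
    (hxA : gu K p hn g ∈ A) (hord : orderOf (gu K p hn g) = 2)
    (hinv : ∃ (a : GL ι F₀) (c : F₀ˣ), IsSim M a 1 ∧ (a : Matrix ι ι F₀).det = 1 ∧
      a * a = GeneralLinearGroup.scalar ι c ∧ ∀ t, a ≠ GeneralLinearGroup.scalar ι t)
    (hscal : ∀ T : Subgroup (GL ι F₀), (∀ a ∈ T, ∃ k, IsSim M a k) →
      (∀ a ∈ T, ∀ h, IsSim M h 1 → h * a * h⁻¹ ∈ T) →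
      (∀ a ∈ T, ∀ c, a * a = GeneralLinearGroup.scalar ι c → ∃ t, a = GeneralLinearGroup.scalar ι t) →
      ∀ a ∈ T, ∃ t, a = GeneralLinearGroup.scalar ι t)
    (hrel : ∀ (B : GL ι F) (ι' : F₀ →+* F),
      (∀ a : GL ι F₀, IsSim M a 1 → (a : Matrix ι ι F₀).det = 1 →
        ∃ l : F, (B : Matrix ι ι F) * (a : Matrix ι ι F₀).map ι' =
          l • ((a : Matrix ι ι F₀).map S.emb * (B : Matrix ι ι F))) →
      B ∈ Subgroup.center (GL ι F) ∧ ι' = S.emb) :
    Cfsg.pPrimeCore 2 ↥(A ⊓ Subgroup.centralizer {gu K p hn g}) = ⊥ := by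
  haveI : Nonempty (Fin n) := ⟨⟨0, by omega⟩⟩
  -- the special unitary element of an isometry
  have hsu : ∀ a : GL ι F₀, IsSim M a 1 → (a : Matrix ι ι F₀).det = 1 →
      ∃ s : SU n F q, Matrix.SpecialLinearGroup.toGL s.1 = lift D 1 a := fun a ha hd =>
    ⟨⟨⟨(lift₁ D a : Matrix (Fin n) (Fin n) F), by rw [det_lift₁, hd, map_one]⟩,
      fun u v => mem_of_iso D a ha u v⟩, Units.ext rfl⟩
  refine Balance.core_eq_bot A hinn (conj_faithful K p hn) hxA hord ?_ ?_ ?_
  · obtain ⟨a, c, ha, hd, haa, hne⟩ := hinv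
    obtain ⟨s, hs⟩ := hsu a ha hd
    refine ⟨QuotientGroup.mk s, fun h => ?_, ?_, fixed_of_lift D p hn s hs⟩
    · obtain ⟨b, hb⟩ := (CfsgLib.Classical.Herm.center_iff K (by omega) s).1 ((QuotientGroup.eq_one_iff _).1 h)
      obtain ⟨t, ht⟩ := exists_scalar_of_lift D (μ := 1) (a := a) (c := b) (by rw [← hs]; exact hb)
      exact hne t ht
    · rw [← QuotientGroup.mk_mul]
      refine (QuotientGroup.eq_one_iff _).2 ((CfsgLib.Classical.Herm.center_iff K (by omega) _).2
        ⟨((1 * 1 * Units.map S.emb.toMonoidHom c : Fˣ) : F), ?_⟩)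
      have h1 : Matrix.SpecialLinearGroup.toGL (s * s).1 = scal (1 * 1 * Units.map S.emb.toMonoidHom c) := by
        rw [Subgroup.coe_mul, map_mul, hs, ← lift_mul, haa, lift_scalar]
      exact (congrArg Units.val h1).trans (scal_coe _)
  · refine (Subgroup.eq_bot_iff_forall _).2 fun k hk => ?_
    obtain ⟨s, rfl⟩ := QuotientGroup.mk_surjective k
    obtain ⟨a, μ, -, hs, -⟩ := exists_lift_of_fixed D p hn s (Balance.oddPart_fixed hk)
    obtain ⟨t, rfl⟩ := hscal (oddLifts D p hn) (fun a ha => oddLifts_sim D p hn ha)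
      (fun a ha h hh => oddLifts_conj D p hn ha hh) (fun a ha c hc => oddLifts_sq D p hn ha hc) a ⟨μ, s, hs, hk⟩
    rw [lift_scalar] at hs
    exact (QuotientGroup.eq_one_iff _).2
      ((CfsgLib.Classical.Herm.center_iff K (by omega) _).2 ⟨_, (congrArg Units.val hs).trans (scal_coe _)⟩)
  · intro g' hg'
    obtain ⟨w, τ, rfl⟩ := full_twist K p hn h32 g'
    let W : GL (Fin n) F := D.b⁻¹ * (w : GL (Fin n) F) * mapGL τ D.b
    obtain ⟨B, hB⟩ := (reGL (F := F) e).surjective W
    have key := hrel B ((τ : F →+* F).comp S.emb) fun a ha hd => ?_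
    · obtain ⟨hBc, hτ⟩ := key
      haveI := Fintype.ofFinite F
      have hτb : τ ∈ Subgroup.zpowers K.bar := Symp.fixedField_fix_mem K.bar τ fun x hx => by
        obtain ⟨y, rfl⟩ := (S.fixed x).1 hx
        exact RingHom.congr_fun hτ y
      have hW : ∀ x, W * x = x * W := fun x => by
        obtain ⟨x', rfl⟩ := (reGL (F := F) e).surjective x
        rw [← hB, ← map_mul, ← map_mul, Subgroup.mem_center_iff.1 hBc x']
      obtain ⟨c, hc⟩ : ∃ c : Fˣ, W = scal c := by
        have h1 : W ∈ Subgroup.center (GL (Fin n) F) := Subgroup.mem_center_iff.2 fun x => (hW x).symm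
        rw [GeneralLinearGroup.center_eq_range_scalar] at h1
        obtain ⟨c, hc⟩ := h1
        exact ⟨c, hc.symm⟩
      have hwb : (w : GL (Fin n) F) * mapGL τ D.b = scal c * D.b := by
        rw [← scal_comm, ← hc]
        simp [W, mul_assoc]
      obtain ⟨z, rfl⟩ := Subgroup.mem_zpowers_iff.1 hτb
      rcases Int.even_or_odd z with ⟨j, rfl⟩ | ⟨j, rfl⟩
      · have hbar : K.bar ^ (j + j) = 1 := by
          rw [← two_mul, _root_.zpow_mul, show K.bar ^ (2 : ℤ) = 1 by
            rw [show (2 : ℤ) = ((2 : ℕ) : ℤ) from rfl, zpow_natCast, ← K.orderOf_bar, pow_orderOf_eq_one], _root_.one_zpow]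
        rw [hbar, show mapGL (1 : F ≃+* F) D.b = D.b from mapGL_one _, mul_left_inj] at hwb
        rw [hbar, map_one, mul_one, show (twist K p hn).δ w = 1 from
          (carrier K hn p).delta_eq_one_of_scalar (g := w) (b := (c : F)) (by rw [hwb, scal_coe])]
        exact one_mem _
      · have hbar : K.bar ^ (2 * j + 1) = K.bar := by
          rw [_root_.zpow_add_one, _root_.zpow_mul, show K.bar ^ (2 : ℤ) = 1 by
            rw [show (2 : ℤ) = ((2 : ℕ) : ℤ) from rfl, zpow_natCast, ← K.orderOf_bar, pow_orderOf_eq_one], _root_.one_zpow,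
            one_mul]
        rw [hbar] at hwb ⊢
        have h1 : gu K p hn w = gu K p hn g := (gu_eq_iff p hn).2 ⟨(c : F) / D.lam, by
          have h2 := congrArg Units.val hwb
          rw [scal_mul_coe, Units.val_mul] at h2
          refine (isUnit_bb D).mul_right_cancel ?_
          rw [Matrix.smul_mul, D.h1, smul_smul, div_mul_cancel₀ _ D.lam.ne_zero]
          exact h2⟩
        rw [show (twist K p hn).δ w * (twist K p hn).φ K.bar = gu K p hn g from h1]
        exact Subgroup.mem_zpowers _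
    · obtain ⟨s, hs⟩ := hsu a ha hd
      have h1 := hg' _ (fixed_of_lift D p hn s hs)
      obtain ⟨t, ht⟩ := (carrier K hn p).rep.conjMem ((carrier K hn p).semi w.2 τ) s
      have hind : (carrier K hn p).Ind w τ ((twist K p hn).δ w * (twist K p hn).φ τ) :=
        (carrier K hn p).ind_eq.2 rfl
      have h2 := (((carrier K hn p).ind_iff w.2 τ _).1 hind) s t ht
      rw [show ((twist K p hn).δ w * (twist K p hn).φ τ) (QuotientGroup.mk s) = QuotientGroup.mk t from h2,
        eq_comm, QuotientGroup.eq] at h1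
      obtain ⟨l, hl⟩ := (CfsgLib.Classical.Herm.center_iff K (by omega) _).1 h1
      refine ⟨l, ?_⟩
      -- the matrix of the image
      have htm : (t.1 : Matrix (Fin n) (Fin n) F) = ((w : GL (Fin n) F) : Matrix (Fin n) (Fin n) F) *
          (s.1 : Matrix (Fin n) (Fin n) F).map τ * (((w : GL (Fin n) F)⁻¹ : GL (Fin n) F) : Matrix (Fin n) (Fin n) F) := by
        apply Matrix.ext_of_mulVec_single
        intro j
        obtain ⟨x, hxy⟩ := ((carrier K hn p).semi w.2 τ).M.surjective (Pi.single j 1)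
        have h3 := ht x
        erw [(carrier K hn p).hρ, (carrier K hn p).hρ, Carrier.semi_M, Carrier.semi_M] at h3
        rw [← hxy]
        erw [Carrier.semi_M]
        refine h3.trans ?_
        rw [mulVec_mulVec, Matrix.mul_assoc, Units.inv_mul, Matrix.mul_one, ← mulVec_mulVec, map_comp_mulVec]
        rfl
      have h4 : (t.1 : Matrix (Fin n) (Fin n) F) = l • (s.1 : Matrix (Fin n) (Fin n) F) := by
        have h5 : t = s * (s⁻¹ * t) := (mul_inv_cancel_left s t).symm
        have h6 := congrArg (fun z : SU n F q => (z.1 : Matrix (Fin n) (Fin n) F)) h5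
        simp only [Subgroup.coe_mul, Matrix.SpecialLinearGroup.coe_mul] at h6
        have h7 : ((s⁻¹ * t : SU n F q).1 : Matrix (Fin n) (Fin n) F) = l • 1 := hl
        simp only [Subgroup.coe_mul, Matrix.SpecialLinearGroup.coe_mul] at h7
        rw [h6, h7, Matrix.mul_smul, Matrix.mul_one]
      -- back on the model
      have hsL : Matrix.SpecialLinearGroup.toGL s.1 = D.b * S.up e a * D.b⁻¹ := by
        rw [hs, lift, map_one, one_mul]
      have hsm : (s.1 : Matrix (Fin n) (Fin n) F) = ((D.b * S.up e a * D.b⁻¹ : GL (Fin n) F) :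
          Matrix (Fin n) (Fin n) F) := congrArg Units.val hsL
      have h8 : (w : GL (Fin n) F) * mapGL τ (D.b * S.up e a * D.b⁻¹) =
          scal (Units.mk0 l ?hl0) *
            ((D.b * S.up e a * D.b⁻¹) * (w : GL (Fin n) F)) := by
        refine Units.ext ?_
        show ((w : GL (Fin n) F) : Matrix (Fin n) (Fin n) F) *
          ((D.b * S.up e a * D.b⁻¹ : GL (Fin n) F) : Matrix (Fin n) (Fin n) F).map τ =
          Matrix.scalar (Fin n) l * (((D.b * S.up e a * D.b⁻¹ : GL (Fin n) F) : Matrix (Fin n) (Fin n) F) *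
            ((w : GL (Fin n) F) : Matrix (Fin n) (Fin n) F))
        rw [← hsm, Matrix.scalar_apply, ← Matrix.smul_one_eq_diagonal, Matrix.smul_mul, one_mul, ← Matrix.smul_mul,
          ← h4, htm, Matrix.mul_assoc, Units.inv_mul, Matrix.mul_one]
      case hl0 =>
        intro h0
        rw [h0, zero_smul] at h4
        have h9 := t.1.2
        rw [h4, det_zero] at h9
        exact zero_ne_one h9
      set L : GL (Fin n) F := scal (Units.mk0 l _) with hL
      have hLc : ∀ x, x * L = L * x := fun x => scal_comm _ x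
      have h10 : W * mapGL τ (S.up e a) = L * (S.up e a * W) := by
        have h11 : D.b⁻¹ * ((w : GL (Fin n) F) * mapGL τ (D.b * S.up e a * D.b⁻¹)) * mapGL τ D.b =
            D.b⁻¹ * (L * ((D.b * S.up e a * D.b⁻¹) * (w : GL (Fin n) F))) * mapGL τ D.b := by rw [h8]
        calc W * mapGL τ (S.up e a) =
              D.b⁻¹ * ((w : GL (Fin n) F) * mapGL τ (D.b * S.up e a * D.b⁻¹)) * mapGL τ D.b := by
                simp [W, mul_assoc]
          _ = _ := by
                rw [h11, ← mul_assoc D.b⁻¹ L, hLc]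
                simp [W, mul_assoc]
      rw [← hB] at h10
      ext i j
      have h12 := congrFun (congrFun (congrArg (fun z : GL (Fin n) F => (z : Matrix (Fin n) (Fin n) F)) h10) (e i)) (e j)
      simp only [hL, Units.val_mul, reGL_coe, scal_coe] at h12
      change ((B : Matrix ι ι F).submatrix e.symm e.symm *
        ((((a : Matrix ι ι F₀)).submatrix e.symm e.symm).map S.emb).map τ) (e i) (e j) =
        ((l • (1 : Matrix (Fin n) (Fin n) F)) * ((((a : Matrix ι ι F₀)).submatrix e.symm e.symm).map S.emb *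
          (B : Matrix ι ι F).submatrix e.symm e.symm)) (e i) (e j) at h12
      rw [Matrix.map_map, ← submatrix_map, ← submatrix_map, submatrix_mul_equiv, submatrix_mul_equiv,
        Matrix.smul_mul, one_mul, Matrix.smul_apply, smul_eq_mul] at h12
      rw [Matrix.smul_apply, smul_eq_mul]
      simpa using h12

end Sub

end CfsgLib.ClassicalAut.Unitary
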