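import Cfsg.Agent.Lib.ClassicalAut.UnitaryBalanceGraph

set_option autoImplicit false
set_option linter.unusedSectionVars false

/-!
Local balance at involutory graph automorphisms of `PSU_n(q)`, `q` odd: symmetric and alternating models.
-/

namespace CfsgLib.ClassicalAut.Unitary

open Matrix Cfsg CfsgLib.AutPSL CfsgLib.AutPSL.LocalBal
open CfsgLib.AutPSL.Graph (Cong reGL reGL_coe)
open scoped MatrixGroups

universe u v

variable {F : Type u} [Field F] [Finite F] {q n : ℕ} {K : Conj F q}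
variable {F₀ : Type v} [Field F₀] [Finite F₀] {S : Sub K F₀} {g : GU n F q}
variable (p : ℕ) [Fact p.Prime] [CharP F p] (hn : 3 ≤ n)

include hn in
/-- Orthogonal models. -/
theorem graph_core_bot_diag (h32 : ¬ (n = 3 ∧ q = 2)) (h2 : (2 : F₀) ≠ 0) (d : Fin n → F₀ˣ) {i₀ : Fin n}
    (hone : ∀ i, i ≠ i₀ → d i = 1)
    (hthree : ∃ a b c : Fin n, a ≠ b ∧ a ≠ c ∧ b ≠ c ∧ d a = 1 ∧ d b = 1 ∧ d c = 1)
    (D : S.Data (Equiv.refl (Fin n)) g (diagGL d))
    (A : Subgroup (MulAut (PSU n F q))) (hinn : ∀ k, MulAut.conj k ∈ A)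
    (hxA : gu K p hn g ∈ A) (hord : orderOf (gu K p hn g) = 2) :
    Cfsg.pPrimeCore 2 ↥(A ⊓ Subgroup.centralizer {gu K p hn g}) = ⊥ := by
  have hθ : ∀ x : F₀, (1 : F₀ ≃+* F₀) ((1 : F₀ ≃+* F₀) x) = x := fun _ => rfl
  have hd' : ∀ i, (1 : F₀ ≃+* F₀) (d i : F₀) = d i := fun _ => rfl
  refine Sub.graph_core_bot D p hn h32 A hinn hxA hord ?_ (fun T hT hconj hsq a ha => ?_) fun B ι' hB => ?_
  · obtain ⟨a, b, c, hab, -⟩ := hthree
    have hsa : hd (1 : F₀ ≃+* F₀) (fun i => (d i : F₀)) (Pi.single a 1) (Pi.single a 1) ≠ 0 := by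
      rw [hd_single]; exact (d a).ne_zero
    have hsb : hd (1 : F₀ ≃+* F₀) (fun i => (d i : F₀)) (Pi.single b 1) (Pi.single b 1) ≠ 0 := by
      rw [hd_single]; exact (d b).ne_zero
    have horth : hd (1 : F₀ ≃+* F₀) (fun i => (d i : F₀)) (Pi.single a 1) (Pi.single b 1) = 0 := by
      rw [hd_single_left, Pi.single_eq_of_ne hab, mul_zero]
    refine ⟨Matrix.SpecialLinearGroup.toGL (pr _ _ _ _ hsa hsb), 1, pr_sim 1 hθ d hd' hsa hsb,
      (pr _ _ _ _ hsa hsb).2, ?_, fun t ht => ?_⟩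
    · rw [← map_mul, pr_sq 1 hθ d hd' hsa hsb horth, map_one, map_one]
    · exact refMat_mul_ne_scalar 1 hθ d hd' h2 hn hsb horth (t : F₀) (congrArg Units.val ht)
  · obtain ⟨r, hr⟩ := scalar_of_closed 1 hθ d hd' h2 hn
      (fun M => ∃ x ∈ T, (x : Matrix (Fin n) (Fin n) F₀) = M)
      (fun M ⟨x, hx, hxM⟩ => by
        obtain ⟨k, hk⟩ := hT x hx
        exact ⟨k, k.ne_zero, fun u v => hxM ▸ sim_to_form 1 d (g := x) (c := k) hk u v⟩)
      (fun M ⟨x, hx, hxM⟩ v hv => by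
        obtain ⟨k, hk⟩ := hT x hx
        set R := refGL (1 : F₀ ≃+* F₀) (fun i => (d i : F₀)) v hv
        refine ⟨x * (R * x⁻¹ * R⁻¹), T.mul_mem hx (hconj _ (T.inv_mem hx) R (refGL_sim 1 hθ d hd' hv)), ?_⟩
        show (x : Matrix (Fin n) (Fin n) F₀) * (refMat _ _ v * ((x⁻¹ : GL (Fin n) F₀) : Matrix (Fin n) (Fin n) F₀) *
          refMat _ _ v) = _
        rw [← mul_assoc, ← mul_assoc, mul_refMat k.ne_zero (fun u w => sim_to_form 1 d (g := x) hk u w) v, hxM,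
          mul_assoc (refMat _ _ (M *ᵥ v)) M, ← hxM, Units.mul_inv, mul_one])
      (fun u v hu hv huv ⟨x, hx, hxM⟩ => by
        have h1 : x = Matrix.SpecialLinearGroup.toGL (pr _ _ u v hu hv) := Units.ext hxM
        obtain ⟨t, ht⟩ := hsq x hx 1 (by rw [h1, ← map_mul, pr_sq 1 hθ d hd' hu hv huv, map_one, map_one])
        exact refMat_mul_ne_scalar 1 hθ d hd' h2 hn hv huv (t : F₀) (hxM.symm.trans (congrArg Units.val ht)))
      (S := (a : Matrix (Fin n) (Fin n) F₀)) ⟨a, ha, rfl⟩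
    haveI : Nonempty (Fin n) := ⟨i₀⟩
    have hr0 : r ≠ 0 := fun h0 => by
      have h := a.isUnit
      rw [hr, h0, map_zero] at h
      exact not_isUnit_zero h
    exact ⟨Units.mk0 r hr0, Units.ext hr⟩
  · exact scalar_of_rel 1 hθ d hd' S.emb ι' h2 hn hone hthree B fun u v hu hv =>
      hB (Matrix.SpecialLinearGroup.toGL (pr _ _ u v hu hv)) (pr_sim 1 hθ d hd' hu hv) (pr _ _ u v hu hv).2

variable {m : ℕ}

/-- The symplectic group inside `GL`. -/
def sympGL : Matrix.symplecticGroup (Fin m) F₀ →* GL (Fin m ⊕ Fin m) F₀ :=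
  (Units.map (Matrix.symplecticGroup (Fin m) F₀).subtype).comp toUnits.toMonoidHom

omit [Finite F₀] in
theorem sympGL_coe (s : Matrix.symplecticGroup (Fin m) F₀) :
    (sympGL s : Matrix (Fin m ⊕ Fin m) (Fin m ⊕ Fin m) F₀) = (s : Matrix (Fin m ⊕ Fin m) (Fin m ⊕ Fin m) F₀) := rfl

omit [Finite F₀] in
theorem sympGL_sim (s : Matrix.symplecticGroup (Fin m) F₀) : Sub.IsSim (Models.jGL m F₀) (sympGL s) 1 := by
  show _ = ((1 : F₀ˣ) : F₀) • _
  rw [Units.val_one, one_smul]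
  exact SymplecticGroup.mem_iff'.1 s.2

include hn in
/-- Symplectic models. -/
theorem graph_core_bot_symp (h32 : ¬ (n = 3 ∧ q = 2)) (h2 : (2 : F₀) ≠ 0) (hm : 2 ≤ m) (p₀ : ℕ) [Fact p₀.Prime]
    [CharP F₀ p₀] (e : Fin m ⊕ Fin m ≃ Fin n) (D : S.Data e g (Models.jGL m F₀))
    (A : Subgroup (MulAut (PSU n F q))) (hinn : ∀ k, MulAut.conj k ∈ A)
    (hxA : gu K p hn g ∈ A) (hord : orderOf (gu K p hn g) = 2) :
    Cfsg.pPrimeCore 2 ↥(A ⊓ Subgroup.centralizer {gu K p hn g}) = ⊥ := by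
  haveI : Nonempty (Fin m ⊕ Fin m) := ⟨.inl ⟨0, by omega⟩⟩
  set j₀ := sympGL (SymplecticGroup.symJ (Fin m) F₀)
  have hjj : j₀ * j₀ = GeneralLinearGroup.scalar (Fin m ⊕ Fin m) (-1 : F₀ˣ) := Units.ext (by
    show Matrix.J (Fin m) F₀ * Matrix.J (Fin m) F₀ = Matrix.scalar _ ((-1 : F₀ˣ) : F₀)
    rw [J_squared, Units.val_neg, Units.val_one, map_neg, map_one])
  have hjns : ∀ t, j₀ ≠ GeneralLinearGroup.scalar (Fin m ⊕ Fin m) t := fun t ht => by
    have h1 := congrFun (congrFun (congrArg (fun z : GL (Fin m ⊕ Fin m) F₀ => (z : Matrix (Fin m ⊕ Fin m) (Fin m ⊕ Fin m) F₀)) ht) (.inl ⟨0, by omega⟩)) (.inr ⟨0, by omega⟩)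
    simp [j₀, sympGL_coe, SymplecticGroup.coe_J, Matrix.J] at h1
  refine Sub.graph_core_bot D p hn h32 A hinn hxA hord
    ⟨j₀, -1, sympGL_sim _, det_symp h2 hm _, hjj, hjns⟩ (fun T hT hconj hsq a ha => ?_) fun B ι' hB => ?_
  · let π := QuotientGroup.mk' (Subgroup.center (GL (Fin m ⊕ Fin m) F₀))
    have hcen : ∀ x : GL (Fin m ⊕ Fin m) F₀, π x = 1 → ∃ t, x = GeneralLinearGroup.scalar (Fin m ⊕ Fin m) t := by
      intro x hx
      have h1 : x ∈ Subgroup.center (GL (Fin m ⊕ Fin m) F₀) := (QuotientGroup.eq_one_iff _).1 hx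
      rw [GeneralLinearGroup.center_eq_range_scalar] at h1
      obtain ⟨t, ht⟩ := h1
      exact ⟨t, ht.symm⟩
    have hscal : ∀ t, π (GeneralLinearGroup.scalar (Fin m ⊕ Fin m) t) = 1 := fun t =>
      (QuotientGroup.eq_one_iff _).2 (by rw [GeneralLinearGroup.center_eq_range_scalar]; exact ⟨t, rfl⟩)
    obtain ⟨k, hk⟩ := hT a ha
    have hform : ∀ u v, sympForm m F₀ ((a : Matrix (Fin m ⊕ Fin m) (Fin m ⊕ Fin m) F₀) *ᵥ u)
        ((a : Matrix (Fin m ⊕ Fin m) (Fin m ⊕ Fin m) F₀) *ᵥ v) = (k : F₀) * sympForm m F₀ u v := fun u v => by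
      rw [sympForm, sympForm, mulVec_mulVec, ← vecMul_transpose, ← dotProduct_mulVec, mulVec_mulVec, ← mul_assoc]
      rw [show ((a : Matrix (Fin m ⊕ Fin m) (Fin m ⊕ Fin m) F₀))ᵀ * Matrix.J (Fin m) F₀ *
        (a : Matrix (Fin m ⊕ Fin m) (Fin m ⊕ Fin m) F₀) = (k : F₀) • Matrix.J (Fin m) F₀ from hk]
      rw [smul_mulVec, dotProduct_smul, smul_eq_mul]
    obtain ⟨r, hr⟩ := scalar_of_odd (F := F₀) h2 hm (π.comp sympGL) (T.map π)
      (fun s x hx => by
        obtain ⟨y, hy, rfl⟩ := hx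
        exact ⟨sympGL s * y * (sympGL s)⁻¹, hconj y hy _ (sympGL_sim s), by simp⟩)
      (fun x hx hxx => by
        obtain ⟨y, hy, rfl⟩ := hx
        obtain ⟨c, hc⟩ := hcen (y * y) (by rw [map_mul]; exact hxx)
        obtain ⟨t, rfl⟩ := hsq y hy c hc
        exact hscal t)
      (fun h => by
        obtain ⟨t, ht⟩ := hcen _ h
        exact hjns t ht)
      (by
        show π j₀ * π j₀ = 1
        rw [← map_mul, hjj, hscal])
      (S₀ := (a : Matrix (Fin m ⊕ Fin m) (Fin m ⊕ Fin m) F₀)) (c := (k : F₀))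
      fun v _ => by
        set t := sympGL (CfsgLib.Classical.SympTrans.T v (1 : F₀))
        refine ⟨a * (t * a⁻¹ * t⁻¹), T.mul_mem ha (hconj _ (T.inv_mem ha) t (sympGL_sim _)), ?_⟩
        rw [MonoidHom.comp_apply, map_mul sympGL, map_inv sympGL]
        refine congrArg π ?_
        rw [← mul_assoc, ← mul_assoc, mul_left_inj, mul_inv_eq_iff_eq_mul]
        refine Units.ext (Matrix.ext_iff_mulVec.2 fun x => ?_)
        show ((a : Matrix (Fin m ⊕ Fin m) (Fin m ⊕ Fin m) F₀) * sympTransvection m v 1) *ᵥ x =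
          (sympTransvection m ((a : Matrix (Fin m ⊕ Fin m) (Fin m ⊕ Fin m) F₀) *ᵥ v) (k : F₀)⁻¹ *
            (a : Matrix (Fin m ⊕ Fin m) (Fin m ⊕ Fin m) F₀)) *ᵥ x
        rw [← mulVec_mulVec, ← mulVec_mulVec, CfsgLib.Classical.SympTrans.transvection_mulVec,
          CfsgLib.Classical.SympTrans.transvection_mulVec, mulVec_add, mulVec_smul, hform, one_mul, ← mul_assoc,
          inv_mul_cancel₀ k.ne_zero, one_mul]
    have hr0 : r ≠ 0 := fun h0 => by
      have h := a.isUnit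
      rw [hr, h0, map_zero] at h
      exact not_isUnit_zero h
    exact ⟨Units.mk0 r hr0, Units.ext hr⟩
  · exact symp_scalar_of_rel hm p₀ S.emb ι' B fun s => hB (sympGL s) (sympGL_sim s) (det_symp h2 hm s)

include hn in
/-- The core at an involutory graph automorphism. -/
theorem gu_core_bot (h32 : ¬ (n = 3 ∧ q = 2)) (h2 : (2 : F) ≠ 0) (A : Subgroup (MulAut (PSU n F q)))
    (hinn : ∀ k, MulAut.conj k ∈ A) (g : GU n F q) (hxA : gu K p hn g ∈ A)
    (hord : orderOf (gu K p hn g) = 2) :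
    Cfsg.pPrimeCore 2 ↥(A ⊓ Subgroup.centralizer {gu K p hn g}) = ⊥ := by
  let S : Sub K (fixedField K.bar) := ⟨(fixedField K.bar).subtype,
    fun x => ⟨fun hx => ⟨⟨x, hx⟩, rfl⟩, by rintro ⟨y, rfl⟩; exact y.2⟩⟩
  haveI : CharP (fixedField K.bar) p := (RingHom.charP_iff S.emb S.emb.injective p).2 ‹_›
  have h20 : (2 : fixedField K.bar) ≠ 0 := fun h => h2 (by rw [← map_ofNat S.emb 2, h, map_zero])
  obtain ⟨e, he, hge⟩ := (orderOf_gu_iff p hn g).1 hord
  obtain ⟨e₀, he₀, rfl⟩ : ∃ e₀ : fixedField K.bar, (e₀ = 1 ∨ e₀ = -1) ∧ S.emb e₀ = e := by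
    rcases he with rfl | rfl
    · exact ⟨1, Or.inl rfl, map_one _⟩
    · exact ⟨-1, Or.inr rfl, by rw [map_neg, map_one]⟩
  obtain ⟨M, hd, hMt, hP⟩ := S.exists_of_gu g he₀ hge
  obtain ⟨i₀, x₁, x₂, h12, h1, h3⟩ : ∃ a b c : Fin n, b ≠ c ∧ a ≠ b ∧ a ≠ c :=
    ⟨⟨n - 1, by omega⟩, ⟨0, by omega⟩, ⟨1, by omega⟩, by simp [Fin.ext_iff], by simp [Fin.ext_iff]; omega,
      by simp [Fin.ext_iff]; omega⟩
  rcases he₀ with rfl | rfl
  · rw [one_smul] at hMt
    let c : (fixedField K.bar)ˣ := if Even n then Units.mk0 _ hd else 1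
    let d : Fin n → (fixedField K.bar)ˣ := fun i => if i = i₀ then c else 1
    have hsym : ((diagGL d : GL (Fin n) (fixedField K.bar)) : Matrix (Fin n) (Fin n) (fixedField K.bar))ᵀ = diagGL d :=
      diagonal_transpose _
    have hdd : ((diagGL d : GL (Fin n) (fixedField K.bar)) : Matrix (Fin n) (Fin n) (fixedField K.bar)).det = c := by
      simp [diagGL, det_diagonal, d, apply_ite ((↑) : (fixedField K.bar)ˣ → fixedField K.bar)]
    have hc : Cong M ((diagGL d : GL (Fin n) (fixedField K.bar)) : Matrix (Fin n) (Fin n) (fixedField K.bar)) := by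
      rcases Nat.even_or_odd n with hev | ho
      · refine Graph.cong_sym h20 hMt hsym hd (Graph.det_ne _) ?_
        rw [hdd]
        simp [c, hev]
      · exact Graph.cong_sym_odd h20 ho hMt hsym hd (Graph.det_ne _)
    obtain ⟨D⟩ := S.exists_data (Equiv.refl (Fin n)) (g := g) (M := diagGL d) (by
      rw [reGL_coe]
      exact S.pres_cong hP hc)
    by_cases hev : Even n
    · have h4 : 4 ≤ n := by obtain ⟨t, ht⟩ := hev; omega
      obtain ⟨x₃, -, hx₃⟩ := Finset.exists_mem_notMem_of_card_lt_card (s := ({i₀, x₁, x₂} : Finset (Fin n)))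
        (t := Finset.univ) (lt_of_le_of_lt Finset.card_le_three (by rw [Finset.card_univ, Fintype.card_fin]; omega))
      simp only [Finset.mem_insert, Finset.mem_singleton, not_or] at hx₃
      exact graph_core_bot_diag p hn h32 h20 d (i₀ := i₀) (fun i hi => if_neg hi)
        ⟨x₁, x₂, x₃, h12, Ne.symm hx₃.2.1, Ne.symm hx₃.2.2, if_neg h1.symm, if_neg h3.symm, if_neg hx₃.1⟩
        D A hinn hxA hord
    · have hd1 : ∀ i, d i = 1 := fun i => by simp [d, c, hev]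
      exact graph_core_bot_diag p hn h32 h20 d (i₀ := i₀) (fun i _ => hd1 i)
        ⟨i₀, x₁, x₂, h1, h3, h12, hd1 _, hd1 _, hd1 _⟩ D A hinn hxA hord
  · rw [neg_one_smul] at hMt
    have hA := Graph.alt_quad h20 hMt
    obtain ⟨m, hm⟩ := Graph.even_of_alt hA hd
    let e : Fin m ⊕ Fin m ≃ Fin n := finSumFinEquiv.trans (finCongr hm.symm)
    obtain ⟨D⟩ := S.exists_data e (g := g) (M := Models.jGL m (fixedField K.bar))
      (S.pres_cong hP (Graph.cong_J e hA hd).symm')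
    exact graph_core_bot_symp p hn h32 h20 (by omega) p e D A hinn hxA hord

end CfsgLib.ClassicalAut.Unitary
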