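import Cfsg.Agent.Lib.ClassicalAut.UnitaryTwist
import Cfsg.Agent.Lib.AutPSL.Hermitian
import Cfsg.Agent.Lib.AutPSL.GraphPSL

set_option autoImplicit false

/-!
Involutory graph automorphisms of `PSU_n(q)`: descent to matrices over the field with `q` elements.
-/

namespace CfsgLib.ClassicalAut.Unitary

open Matrix Cfsg CfsgLib.AutPSL
open CfsgLib.AutPSL.Graph (Cong reGL reGL_coe)

universe u v

/-- A general form of the splitting count. -/
theorem split_general {X H A : Type*} [Group X] [Group H] [CommGroup A] (δ : H →* MulAut X)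
    (ν : H →* A) (hsurj : Function.Surjective ν) (hν : ∀ h, ν h = 1 ↔ δ h ∈ Cfsg.Inn X)
    (hinn : Cfsg.Inn X ≤ δ.range) (x : MulAut X) (P : Subgroup A)
    (hP₁ : ∀ h, Commute (δ h) x → ν h ∈ P) (hP₂ : ∀ c ∈ P, ∃ h, ν h = c ∧ Commute (δ h) x) :
    Cfsg.splitClassCount δ.range (Cfsg.Inn X) x = P.index := by
  have key : ∀ g g' : H, Cfsg.IsConjUnder (Cfsg.Inn X) (δ g * x * (δ g)⁻¹)
      (δ g' * x * (δ g')⁻¹) ↔ (ν g)⁻¹ * ν g' ∈ P := by
    intro g g'
    constructor
    · rintro ⟨i, hi, he⟩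
      obtain ⟨s, rfl⟩ := hinn hi
      have hc : Commute (δ (g'⁻¹ * (s * g))) x := by
        rw [commute_iff_eq, ← mul_inv_eq_iff_eq_mul]
        simp only [map_mul, map_inv, _root_.mul_inv_rev, inv_inv]
        have h5 := congrArg (fun z => (δ g')⁻¹ * z * δ g') he
        simp only [mul_assoc, inv_mul_cancel_left, inv_mul_cancel, mul_one] at h5 ⊢
        exact h5.symm
      have h6 := hP₁ _ hc
      rw [map_mul, map_inv, map_mul, (hν s).2 hi, one_mul] at h6
      have h7 := P.inv_mem h6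
      rwa [_root_.mul_inv_rev, inv_inv] at h7
    · intro hmem
      obtain ⟨k, hk, hc⟩ := hP₂ _ (P.inv_mem hmem)
      refine ⟨δ (g' * k * g⁻¹), (hν _).1 ?_, ?_⟩
      · rw [map_mul, map_mul, map_inv, hk, _root_.mul_inv_rev, inv_inv]
        simp
      · have hcx : δ k * x * (δ k)⁻¹ = x := by rw [hc.eq, mul_inv_cancel_right]
        calc δ g' * x * (δ g')⁻¹ = δ g' * (δ k * x * (δ k)⁻¹) * (δ g')⁻¹ := by rw [hcx]
          _ = _ := by simp [map_mul, mul_assoc]
  let T := {y : MulAut X // Cfsg.IsConjUnder δ.range x y}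
  let R : T → T → Prop := fun y z => Cfsg.IsConjUnder (Cfsg.Inn X) y.1 z.1
  have heqv : Equivalence R := by
    refine ⟨fun y => ⟨1, one_mem _, by simp⟩, ?_, ?_⟩
    · rintro y z ⟨i, hi, he⟩
      exact ⟨i⁻¹, inv_mem hi, by rw [he]; simp [mul_assoc]⟩
    · rintro y z w ⟨i, hi, he⟩ ⟨j, hj, he'⟩
      exact ⟨j * i, mul_mem hj hi, by rw [he', he]; simp [mul_assoc]⟩
  let F0 : H → Quot R := fun g => Quot.mk R ⟨δ g * x * (δ g)⁻¹, δ g, ⟨g, rfl⟩, rfl⟩
  have hF0 : ∀ g g', (ν g)⁻¹ * ν g' ∈ P → F0 g = F0 g' := fun g g' h => Quot.sound ((key g g').2 h)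
  let Φ : A ⧸ P → Quot R := fun c => Quotient.liftOn' c (fun a => F0 (hsurj a).choose)
    fun a b h => hF0 _ _ (by
      rw [(hsurj a).choose_spec, (hsurj b).choose_spec]
      exact QuotientGroup.leftRel_apply.1 h)
  have hbij : Function.Bijective Φ := by
    constructor
    · intro c c'
      refine QuotientGroup.induction_on c fun a => QuotientGroup.induction_on c' fun b h => ?_
      have h2 := (key _ _).1 (heqv.eqvGen_iff.1 (Quot.eqvGen_exact h))
      rw [(hsurj a).choose_spec, (hsurj b).choose_spec] at h2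
      exact QuotientGroup.eq.2 h2
    · intro c
      refine Quot.inductionOn c ?_
      rintro ⟨y, _, ⟨g, rfl⟩, rfl⟩
      refine ⟨((ν g : A) : A ⧸ P), Quot.sound ((key _ _).2 ?_)⟩
      rw [(hsurj (ν g)).choose_spec, inv_mul_cancel]
      exact one_mem P
  rw [Subgroup.index]
  exact (Nat.card_congr (Equiv.ofBijective Φ hbij)).symm

variable {F : Type u} [Field F] [Finite F] {q n : ℕ} (K : Conj F q)

/-- A copy of the field with `q` elements inside `F`. -/
structure Sub (F₀ : Type v) [Field F₀] where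
  emb : F₀ →+* F
  fixed : ∀ x : F, K.bar x = x ↔ x ∈ Set.range emb

theorem exists_sub_field (F₀ : Type v) [Field F₀] [Fintype F₀] (hF₀ : Fintype.card F₀ = q) :
    Nonempty (Sub K F₀) := by
  cases nonempty_fintype F
  haveI : Fintype (fixedField K.bar) := Fintype.ofFinite _
  have h : Fintype.card F₀ = Fintype.card (fixedField K.bar) := by
    have h1 := card_fixedField_pow K.orderOf_bar
    rw [K.card] at h1
    rw [hF₀, ← Nat.card_eq_fintype_card, Nat.pow_left_injective two_ne_zero h1]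
  let e := FiniteField.ringEquivOfCardEq h
  exact ⟨⟨(fixedField K.bar).subtype.comp e.toRingHom, fun x => ⟨fun hx => ⟨e.symm ⟨x, hx⟩, by simp⟩,
    by rintro ⟨y, rfl⟩; exact (e y).2⟩⟩⟩

variable {K} {F₀ : Type v} [Field F₀] (S : Sub K F₀)

namespace Sub

omit [Finite F] in
theorem bar_emb (x : F₀) : K.bar (S.emb x) = S.emb x := (S.fixed _).2 ⟨x, rfl⟩

omit [Finite F] in
theorem bar_map {ι : Type*} (M : Matrix ι ι F₀) : (M.map S.emb).map K.bar = M.map S.emb :=
  Matrix.ext fun _ _ => S.bar_emb _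

omit [Finite F] in
theorem exists_map {ι : Type*} {A : Matrix ι ι F} (h : A.map K.bar = A) :
    ∃ M : Matrix ι ι F₀, M.map S.emb = A := by
  choose M hM using fun i j => (S.fixed (A i j)).1 (congrFun (congrFun h i) j)
  exact ⟨Matrix.of M, Matrix.ext hM⟩

omit [Finite F] in
theorem map_inj {ι : Type*} {M N : Matrix ι ι F₀} (h : M.map S.emb = N.map S.emb) : M = N :=
  Matrix.ext fun i j => S.emb.injective (congrFun (congrFun h i) j)

omit [Finite F] in
theorem det_map {ι : Type*} [Fintype ι] [DecidableEq ι] (M : Matrix ι ι F₀) :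
    (M.map S.emb).det = S.emb M.det := (S.emb.map_det M).symm

/-- `M` presents `g`. -/
def Pres (g : GL (Fin n) F) (M : Matrix (Fin n) (Fin n) F₀) : Prop :=
  ∃ (b : GL (Fin n) F) (lam θ : Fˣ),
    (g : Matrix (Fin n) (Fin n) F) * (b : Matrix (Fin n) (Fin n) F).map K.bar =
        (lam : F) • (b : Matrix (Fin n) (Fin n) F) ∧
      (b : Matrix (Fin n) (Fin n) F)ᵀ * (b : Matrix (Fin n) (Fin n) F).map K.bar =
        (θ : F) • M.map S.emb

omit [Finite F] in
theorem pres_cong {g : GL (Fin n) F} {M M' : Matrix (Fin n) (Fin n) F₀} (h : S.Pres g M)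
    (hc : Cong M M') : S.Pres g M' := by
  obtain ⟨b, lam, θ, h1, h2⟩ := h
  obtain ⟨a, c, rfl⟩ := hc
  let a' : GL (Fin n) F := Units.map S.emb.mapMatrix.toMonoidHom a
  have ha : (a' : Matrix (Fin n) (Fin n) F) = (a : Matrix (Fin n) (Fin n) F₀).map S.emb := rfl
  refine ⟨b * a', lam, θ * (Units.map S.emb.toMonoidHom c)⁻¹, ?_, ?_⟩
  · rw [Units.val_mul, ha, Matrix.map_mul, S.bar_map, ← Matrix.mul_assoc, h1, Matrix.smul_mul]
  · have hce : (((Units.map S.emb.toMonoidHom c)⁻¹ : Fˣ) : F) * S.emb c = 1 := by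
      show (((Units.map S.emb.toMonoidHom c)⁻¹ : Fˣ) : F) * ((Units.map S.emb.toMonoidHom c : Fˣ) : F) = 1
      exact Units.inv_mul _
    rw [Units.val_mul, ha, Matrix.map_mul, S.bar_map, transpose_mul, Matrix.mul_assoc,
      ← Matrix.mul_assoc (b : Matrix (Fin n) (Fin n) F)ᵀ, h2, Matrix.map_smul' _ _ _ (map_mul S.emb),
      Matrix.map_mul, Matrix.map_mul, ← transpose_map, Matrix.smul_mul, Matrix.mul_smul, smul_smul,
      Units.val_mul, mul_assoc (θ : F), hce, mul_one]
    simp only [Matrix.mul_assoc]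

end Sub

/-! ### The automorphisms -/

omit [Finite F] in
theorem smul_one_inj [Nonempty (Fin n)] {a b : F}
    (h : a • (1 : Matrix (Fin n) (Fin n) F) = b • 1) : a = b := by
  obtain ⟨i⟩ := ‹Nonempty (Fin n)›
  simpa using congrFun (congrFun h i) i

omit [Finite F] in
theorem GU_inv_eq {g : GL (Fin n) F} (hg : g ∈ GU n F q) :
    (g : Matrix (Fin n) (Fin n) F).map K.bar * (g : Matrix (Fin n) (Fin n) F)ᵀ = 1 :=
  mul_eq_one_comm.1 ((mem_GU_iff K).1 hg)

variable (p : ℕ) [hp : Fact p.Prime] [CharP F p]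

variable (K) in
/-- The automorphism of `v ↦ g v̄`. -/
noncomputable def gu (hn : 3 ≤ n) (g : GU n F q) : MulAut (PSU n F q) :=
  (twist K p hn).δ g * (twist K p hn).φ K.bar

variable (hn : 3 ≤ n)

include hn in
theorem delta_eq_iff {x y : GU n F q} :
    (twist K p hn).δ x = (twist K p hn).δ y ↔
      ∃ c : F, ((x : GL (Fin n) F) : Matrix (Fin n) (Fin n) F) =
        c • ((y : GL (Fin n) F) : Matrix (Fin n) (Fin n) F) := by
  have h1 : (twist K p hn).δ x = (twist K p hn).δ y ↔ (twist K p hn).δ (y⁻¹ * x) = 1 := by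
    rw [map_mul, map_inv, inv_mul_eq_one]
    exact eq_comm
  rw [h1]
  have h2 : (twist K p hn).δ (y⁻¹ * x) = 1 ↔
      ∃ b : F, (((y⁻¹ * x : GU n F q) : GL (Fin n) F) : Matrix (Fin n) (Fin n) F) = b • 1 :=
    (carrier K hn p).delta_eq_one_iff p (exists_frame K hn).some
  rw [h2]
  have hyy : ((y : GL (Fin n) F) : Matrix (Fin n) (Fin n) F) *
      (((y : GL (Fin n) F)⁻¹ : GL (Fin n) F) : Matrix (Fin n) (Fin n) F) = 1 := Units.mul_inv _
  refine exists_congr fun c => ⟨fun h => ?_, fun h => ?_⟩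
  · have h' : (((y : GL (Fin n) F)⁻¹ : GL (Fin n) F) : Matrix (Fin n) (Fin n) F) *
        ((x : GL (Fin n) F) : Matrix (Fin n) (Fin n) F) = c • 1 := h
    rw [← Matrix.one_mul ((x : GL (Fin n) F) : Matrix (Fin n) (Fin n) F), ← hyy, Matrix.mul_assoc, h',
      Matrix.mul_smul, Matrix.mul_one]
  · show (((y : GL (Fin n) F)⁻¹ : GL (Fin n) F) : Matrix (Fin n) (Fin n) F) *
        ((x : GL (Fin n) F) : Matrix (Fin n) (Fin n) F) = c • 1
    rw [h, Matrix.mul_smul, Units.inv_mul]

theorem act_coe (u : GU n F q) :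
    ((((twist K p hn).act K.bar u : GU n F q) : GL (Fin n) F) : Matrix (Fin n) (Fin n) F) =
      ((u : GL (Fin n) F) : Matrix (Fin n) (Fin n) F).map K.bar := rfl

theorem conj_gu (u g : GU n F q) :
    (twist K p hn).δ u * gu K p hn g * ((twist K p hn).δ u)⁻¹ =
      gu K p hn (u * g * ((twist K p hn).act K.bar u)⁻¹) := by
  rw [gu, gu, ← map_inv, ← mul_assoc, ← map_mul, mul_assoc, (twist K p hn).φ_mul_δ, ← mul_assoc,
    ← map_mul, map_inv]

include hn in
theorem gu_eq_iff {g g' : GU n F q} : gu K p hn g = gu K p hn g' ↔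
    ∃ c : F, ((g : GL (Fin n) F) : Matrix (Fin n) (Fin n) F) =
      c • ((g' : GL (Fin n) F) : Matrix (Fin n) (Fin n) F) := by
  rw [gu, gu, mul_left_inj, delta_eq_iff p hn]

include hn in
theorem commute_gu_iff (h g : GU n F q) : Commute ((twist K p hn).δ h) (gu K p hn g) ↔
    ∃ c : F, ((h : GL (Fin n) F) : Matrix (Fin n) (Fin n) F) * (g : GL (Fin n) F) =
      c • (((g : GL (Fin n) F) : Matrix (Fin n) (Fin n) F) *
        ((h : GL (Fin n) F) : Matrix (Fin n) (Fin n) F).map K.bar) := by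
  rw [commute_iff_eq, gu, ← mul_assoc, ← map_mul, mul_assoc, (twist K p hn).φ_mul_δ, ← mul_assoc,
    ← map_mul, mul_left_inj, delta_eq_iff p hn]
  exact Iff.rfl

theorem isGraph_gu (g : GU n F q) : IsGraphAutClassPSU (gu K p hn g) :=
  ⟨hn, _, _, K.bar, by rw [K.orderOf_bar]; exact even_two, isInnerDiagonal_delta K p hn g,
    (std_iff K p hn K.bar _).2 rfl, rfl⟩

include hn in
theorem orderOf_gu_iff (g : GU n F q) : orderOf (gu K p hn g) = 2 ↔
    ∃ e : F, (e = 1 ∨ e = -1) ∧ ((g : GL (Fin n) F) : Matrix (Fin n) (Fin n) F) *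
      ((g : GL (Fin n) F) : Matrix (Fin n) (Fin n) F).map K.bar = e • 1 := by
  haveI : Nonempty (Fin n) := ⟨⟨0, by omega⟩⟩
  have hsq : gu K p hn g ^ 2 = 1 ↔ ∃ e : F, ((g : GL (Fin n) F) : Matrix (Fin n) (Fin n) F) *
      ((g : GL (Fin n) F) : Matrix (Fin n) (Fin n) F).map K.bar = e • 1 := by
    have hbb : K.bar * K.bar = 1 := RingEquiv.ext fun x => K.bar_bar x
    rw [sq, gu, (twist K p hn).mul_form, hbb, map_one, mul_one,
      ← map_one (twist K p hn).δ, delta_eq_iff p hn]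
    exact exists_congr fun c => Iff.rfl
  constructor
  · intro ho
    obtain ⟨e, he⟩ := hsq.1 (by have := pow_orderOf_eq_one (gu K p hn g); rwa [ho] at this)
    refine ⟨e, ?_, he⟩
    set G : Matrix (Fin n) (Fin n) F := ↑(g : GL (Fin n) F) with hG
    have h1 : G.map K.bar * Gᵀ = 1 := GU_inv_eq g.2
    have h2 : G = e • Gᵀ := by
      calc G = G * (G.map K.bar * Gᵀ) := by rw [h1, Matrix.mul_one]
        _ = _ := by rw [← Matrix.mul_assoc, he, Matrix.smul_mul, Matrix.one_mul]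
    have h3 : Gᵀ = e • G := by
      have := congrArg Matrix.transpose h2
      rwa [transpose_smul, transpose_transpose] at this
    have h4 : G = (e * e) • G := by
      calc G = e • Gᵀ := h2
        _ = _ := by rw [h3, smul_smul]
    have h5 : (e * e - 1) • G = 0 := by rw [sub_smul, one_smul, ← h4, sub_self]
    have hG0 : G ≠ 0 := fun h0 => by
      have := (g : GL (Fin n) F).isUnit
      rw [← hG, h0] at this
      exact not_isUnit_zero this
    exact mul_self_eq_one_iff.1 (sub_eq_zero.1 ((smul_eq_zero.1 h5).resolve_right hG0))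
  · rintro ⟨e, -, he⟩
    refine orderOf_eq_prime (hsq.2 ⟨e, he⟩) fun h => ?_
    exact K.bar_ne ((twist K p hn).uniq g K.bar h)

include hn in
/-- The involutory graph automorphisms. -/
theorem exists_gu {γ : MulAut (PSU n F q)} (hγ : IsGraphAutClassPSU γ) (h2 : orderOf γ = 2) :
    ∃ g : GU n F q, γ = gu K p hn g := by
  cases nonempty_fintype F
  obtain ⟨-, δ, φ, σ, heven, hδ, hφ, rfl⟩ := hγ
  have hmem : δ ∈ inndiagPSU n F q := Subgroup.subset_closure hδ
  rw [inndiag_eq K p hn] at hmem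
  obtain ⟨g, rfl⟩ := hmem
  rw [(std_iff K p hn σ φ).1 hφ] at h2 ⊢
  have hσ2 : σ ^ 2 = 1 := by
    have h := pow_orderOf_eq_one ((twist K p hn).δ g * (twist K p hn).φ σ)
    rw [h2, sq, (twist K p hn).mul_form, ← sq] at h
    exact (twist K p hn).uniq _ _ h
  have hσ : orderOf σ = 2 := by
    refine orderOf_eq_prime hσ2 fun h => ?_
    rw [h, orderOf_one] at heven
    exact Nat.not_even_one heven
  refine ⟨g, ?_⟩
  suffices σ = K.bar by rw [this]; rfl
  obtain ⟨f, hp', hf⟩ := FiniteField.card F p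
  have hcyc : IsCyclic (F ≃+* F) := (card_ringAut_isCyclic hf f.2).1
  haveI : Finite (F ≃+* F) := Finite.of_injective (fun e => (e : F → F)) DFunLike.coe_injective
  haveI : Fintype (F ≃+* F) := Fintype.ofFinite _
  classical
  have hc := IsCyclic.card_orderOf_eq_totient (α := F ≃+* F) (d := 2)
    (hσ ▸ orderOf_dvd_card)
  rw [Nat.totient_two, Finset.card_eq_one] at hc
  obtain ⟨a, ha⟩ := hc
  have m1 : σ ∈ ({a} : Finset (F ≃+* F)) := ha ▸ Finset.mem_filter.2 ⟨Finset.mem_univ _, hσ⟩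
  have m2 : K.bar ∈ ({a} : Finset (F ≃+* F)) := ha ▸ Finset.mem_filter.2 ⟨Finset.mem_univ _, K.orderOf_bar⟩
  rw [Finset.mem_singleton.1 m1, Finset.mem_singleton.1 m2]

/-! ### Presentations -/

omit hp [CharP F p] in
theorem exists_bar_scale (e : F) (he : e = 1 ∨ e = -1) :
    ∃ θ : Fˣ, K.bar θ = e * θ := by
  rcases he with rfl | rfl
  · exact ⟨1, by simp⟩
  · obtain ⟨y, hy⟩ := K.exists_moved
    exact ⟨Units.mk0 (y - K.bar y) (sub_ne_zero.2 (Ne.symm hy)), by
      simp [K.bar_bar]⟩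

omit hp [CharP F p] in
theorem exists_norm_unit (e : F) (he : e = 1 ∨ e = -1) : ∃ lam : Fˣ, (lam : F) * K.bar lam = e := by
  obtain ⟨c, hc⟩ := K.exists_norm e (by rcases he with rfl | rfl <;> simp)
  refine ⟨Units.mk0 c ?_, hc⟩
  rintro rfl
  rw [zero_mul] at hc
  rcases he with rfl | rfl <;> simp at hc

omit hp [CharP F p] hn in
/-- Every symmetric or alternating matrix presents an automorphism. -/
theorem Sub.exists_of_matrix (M : Matrix (Fin n) (Fin n) F₀) (hd : M.det ≠ 0) {e : F₀}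
    (he : e = 1 ∨ e = -1) (hM : Mᵀ = e • M) :
    ∃ g : GU n F q, S.Pres g M ∧ ((g : GL (Fin n) F) : Matrix (Fin n) (Fin n) F) *
      ((g : GL (Fin n) F) : Matrix (Fin n) (Fin n) F).map K.bar = S.emb e • 1 := by
  have he' : S.emb e = 1 ∨ S.emb e = -1 := by rcases he with rfl | rfl <;> simp
  have hee : S.emb e * S.emb e = 1 := by rcases he' with h | h <;> simp [h]
  obtain ⟨θ, hθ⟩ := exists_bar_scale (K := K) (S.emb e) he'
  obtain ⟨lam, hlam⟩ := exists_norm_unit (K := K) (S.emb e) he'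
  set H : Matrix (Fin n) (Fin n) F := (θ : F) • M.map S.emb with hH
  have hHd : H.det ≠ 0 := by
    rw [hH, det_smul, S.det_map]
    exact mul_ne_zero (pow_ne_zero _ θ.ne_zero) ((_root_.map_ne_zero S.emb).2 hd)
  have hHt : Hᵀ = S.emb e • H := by
    rw [hH, transpose_smul, ← transpose_map, hM, Matrix.map_smul' _ _ _ (map_mul S.emb), smul_comm]
  have hHh : (H.map K.bar)ᵀ = H := by
    rw [hH, Matrix.map_smul' _ _ _ (map_mul K.bar), S.bar_map, transpose_smul, ← transpose_map, hM,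
      Matrix.map_smul' _ _ _ (map_mul S.emb), smul_smul, hθ, mul_right_comm, hee, one_mul]
  obtain ⟨h, hh⟩ := AutPSL.exists_hermitian_factor K.orderOf_bar hHd hHh
  set B : Matrix (Fin n) (Fin n) F := (h : Matrix (Fin n) (Fin n) F)ᵀ with hB
  have hBH : Bᵀ * B.map K.bar = H := by rw [hB, transpose_transpose, transpose_map]; exact hh.symm
  have hBd : B.det ≠ 0 := by
    rw [hB, det_transpose]
    exact (isUnit_iff_isUnit_det _).1 h.isUnit |>.ne_zero
  set b : GL (Fin n) F := GeneralLinearGroup.mkOfDetNeZero B hBd with hb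
  set g : GL (Fin n) F := scal lam * (b * (mapGL K.bar b)⁻¹) with hg
  have hgb : (g : Matrix (Fin n) (Fin n) F) * B.map K.bar = (lam : F) • B := by
    rw [hg, scal_mul_coe, Units.val_mul, Matrix.smul_mul, Matrix.mul_assoc]
    show (lam : F) • (B * ((((mapGL K.bar b)⁻¹ : GL (Fin n) F) : Matrix (Fin n) (Fin n) F) *
      ((mapGL K.bar b : GL (Fin n) F) : Matrix (Fin n) (Fin n) F))) = _
    rw [Units.inv_mul, Matrix.mul_one]
  set G : Matrix (Fin n) (Fin n) F := ↑g with hG
  have hmm : B.map K.bar * ((((mapGL K.bar b)⁻¹ : GL (Fin n) F)) : Matrix (Fin n) (Fin n) F) = 1 :=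
    (mapGL K.bar b).mul_inv
  have hGb' : G.map K.bar * B = K.bar lam • B.map K.bar := by
    have h1 := congrArg (fun X : Matrix (Fin n) (Fin n) F => X.map K.bar) hgb
    simp only [Matrix.map_mul, Matrix.map_smul' _ _ _ (map_mul K.bar), Matrix.map_map] at h1
    rwa [show (K.bar ∘ K.bar : F → F) = id from funext K.bar_bar, Matrix.map_id] at h1
  have hu : Gᵀ * G.map K.bar = 1 := by
    have e1 : (B.map K.bar)ᵀ * Gᵀ * (G.map K.bar * B) = (B.map K.bar)ᵀ * B := by
      rw [← transpose_mul, hgb, hGb', transpose_smul, Matrix.smul_mul, Matrix.mul_smul, smul_smul, hlam,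
        hBH, show (B.map K.bar)ᵀ * B = Hᵀ by rw [← hBH, transpose_mul, transpose_transpose], hHt]
    have hu1 : IsUnit ((B.map K.bar)ᵀ) := by
      rw [isUnit_iff_isUnit_det, det_transpose, ← isUnit_iff_isUnit_det]
      exact (mapGL K.bar b).isUnit
    have hu2 : IsUnit B := b.isUnit
    refine hu1.mul_left_cancel (hu2.mul_right_cancel ?_)
    rw [Matrix.mul_one, ← e1]
    simp only [Matrix.mul_assoc]
  refine ⟨⟨g, (mem_GU_iff K).2 hu⟩, ⟨b, lam, θ, hgb, hBH⟩, ?_⟩
  show G * G.map K.bar = S.emb e • 1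
  have hu2 : IsUnit B := b.isUnit
  refine hu2.mul_right_cancel ?_
  rw [Matrix.mul_assoc, hGb', Matrix.mul_smul, hgb, smul_smul, Matrix.smul_mul, Matrix.one_mul,
    mul_comm (K.bar lam), hlam]

omit hp [CharP F p] hn in
/-- Every automorphism is presented by a symmetric or alternating matrix. -/
theorem Sub.exists_of_gu (g : GU n F q) {e : F₀} (he : e = 1 ∨ e = -1)
    (hge : ((g : GL (Fin n) F) : Matrix (Fin n) (Fin n) F) *
      ((g : GL (Fin n) F) : Matrix (Fin n) (Fin n) F).map K.bar = S.emb e • 1) :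
    ∃ M : Matrix (Fin n) (Fin n) F₀, M.det ≠ 0 ∧ Mᵀ = e • M ∧ S.Pres g M := by
  have he' : S.emb e = 1 ∨ S.emb e = -1 := by rcases he with rfl | rfl <;> simp
  have hee : S.emb e * S.emb e = 1 := by rcases he' with h | h <;> simp [h]
  obtain ⟨θ, hθ⟩ := exists_bar_scale (K := K) (S.emb e) he'
  obtain ⟨lam, hlam⟩ := exists_norm_unit (K := K) (S.emb e) he'
  set G : Matrix (Fin n) (Fin n) F := ↑(g : GL (Fin n) F) with hG
  set g' : GL (Fin n) F := scal lam⁻¹ * (g : GL (Fin n) F) with hg'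
  have hg'c : (g' : Matrix (Fin n) (Fin n) F) = ((lam⁻¹ : Fˣ) : F) • G := scal_mul_coe _ _
  have hN : tnorm K.bar g' 2 = 1 := by
    show g' * mapGL K.bar (g' * mapGL K.bar 1) = 1
    rw [map_one, mul_one]
    apply Units.ext
    show (g' : Matrix (Fin n) (Fin n) F) * (g' : Matrix (Fin n) (Fin n) F).map K.bar = 1
    rw [hg'c, Matrix.map_smul' _ _ _ (map_mul K.bar), Matrix.smul_mul, Matrix.mul_smul, smul_smul,
      hge, smul_smul]
    have : ((lam⁻¹ : Fˣ) : F) * K.bar ((lam⁻¹ : Fˣ) : F) * S.emb e = 1 := by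
      rw [← hlam, Units.val_inv_eq_inv_val, map_inv₀]
      have h0 : K.bar (lam : F) ≠ 0 := (_root_.map_ne_zero K.bar).2 lam.ne_zero
      field_simp
    rw [this, one_smul]
  obtain ⟨b, hb⟩ := exists_coboundary two_pos K.orderOf_bar g' hN
  set B : Matrix (Fin n) (Fin n) F := ↑b with hB
  have hgb : G * B.map K.bar = (lam : F) • B := by
    have h1 : g' * mapGL K.bar b = b := by rw [hb, inv_mul_cancel_right]
    have h2 := congrArg Units.val h1
    rw [Units.val_mul, hg'c, Matrix.smul_mul] at h2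
    change ((lam⁻¹ : Fˣ) : F) • (G * B.map K.bar) = B at h2
    conv_rhs => rw [← h2, smul_smul, Units.mul_inv, one_smul]
  have hbb : ∀ X : Matrix (Fin n) (Fin n) F, (X.map K.bar).map K.bar = X := fun X =>
    Matrix.ext fun i j => K.bar_bar _
  have hGb' : G.map K.bar * B = K.bar lam • B.map K.bar := by
    have h1 := congrArg (fun X : Matrix (Fin n) (Fin n) F => X.map K.bar) hgb
    simp only [Matrix.map_mul, Matrix.map_smul' _ _ _ (map_mul K.bar)] at h1
    rwa [hbb] at h1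
  set H : Matrix (Fin n) (Fin n) F := Bᵀ * B.map K.bar with hH
  have hu : Gᵀ * G.map K.bar = 1 := (mem_GU_iff K).1 g.2
  have hHt : Hᵀ = S.emb e • H := by
    have e1 : (B.map K.bar)ᵀ * Gᵀ * (G.map K.bar * B) = (B.map K.bar)ᵀ * B := by
      rw [Matrix.mul_assoc, ← Matrix.mul_assoc Gᵀ, hu, Matrix.one_mul]
    rw [← transpose_mul, hgb, hGb', transpose_smul, Matrix.smul_mul, Matrix.mul_smul, smul_smul,
      hlam] at e1
    rw [hH, transpose_mul, transpose_transpose, ← e1]
  have hHb : H.map K.bar = S.emb e • H := by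
    rw [← hHt, hH, transpose_mul, transpose_transpose, Matrix.map_mul, hbb, transpose_map]
  obtain ⟨M, hM⟩ := S.exists_map (A := ((θ⁻¹ : Fˣ) : F) • H) (by
    rw [Matrix.map_smul' _ _ _ (map_mul K.bar), hHb, smul_smul]
    congr 1
    rw [Units.val_inv_eq_inv_val, map_inv₀, hθ, _root_.mul_inv_rev, mul_assoc,
      inv_eq_of_mul_eq_one_left hee, hee, mul_one])
  have hM' : (θ : F) • M.map S.emb = H := by
    rw [hM, smul_smul, Units.mul_inv, one_smul]
  refine ⟨M, fun h0 => ?_, S.map_inj ?_, b, lam, θ, hgb, hM'.symm⟩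
  · have h1 := congrArg Matrix.det hM'
    rw [det_smul, S.det_map, h0, map_zero, mul_zero] at h1
    rw [hH, det_mul, det_transpose] at h1
    have hB1 : B.det ≠ 0 := ((isUnit_iff_isUnit_det _).1 b.isUnit).ne_zero
    have hB2 : (B.map K.bar).det ≠ 0 := by
      rw [show (B.map K.bar).det = K.bar B.det from (RingHom.map_det K.bar.toRingHom _).symm]
      exact (_root_.map_ne_zero K.bar).2 hB1
    exact mul_ne_zero hB1 hB2 h1.symm
  · rw [transpose_map, Matrix.map_smul' _ _ _ (map_mul S.emb), hM, transpose_smul, hHt, smul_comm]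

/-! ### Conjugacy, centralisers, splitting -/

omit hp [CharP F p] hn in
theorem exists_div_bar {c : F} (hc : c * K.bar c = 1) : ∃ μ : Fˣ, c * K.bar μ = μ := by
  have hc0 : c ≠ 0 := fun h => by rw [h, zero_mul] at hc; exact zero_ne_one hc
  obtain ⟨d, hd⟩ := exists_eq_div_map_of_unorm two_pos K.orderOf_bar (Units.mk0 c hc0)
    ((mem_normOne K).2 hc)
  refine ⟨d, ?_⟩
  have h := congrArg Units.val hd
  rw [Units.val_mk0, Units.val_mul, Units.val_inv_eq_inv_val] at h
  rw [h]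
  show (d : F) * (K.bar (d : F))⁻¹ * K.bar d = d
  rw [mul_assoc, inv_mul_cancel₀ ((_root_.map_ne_zero K.bar).2 d.ne_zero), mul_one]

include hn in
theorem Sub.conj_of_pres {g g' : GU n F q} {M : Matrix (Fin n) (Fin n) F₀}
    (h : S.Pres g M) (h' : S.Pres g' M) :
    Cfsg.IsConjUnder (inndiagPSU n F q) (gu K p hn g) (gu K p hn g') := by
  haveI : Nonempty (Fin n) := ⟨⟨0, by omega⟩⟩
  obtain ⟨b, lam, θ, h1, h2⟩ := h
  obtain ⟨b', lam', θ', h1', h2'⟩ := h'
  by_cases hM0 : M = 0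
  · exfalso
    have := congrArg Matrix.det h2
    rw [hM0, Matrix.map_zero _ (map_zero _), smul_zero, det_mul, det_transpose, det_zero] at this
    have hB1 : (b : Matrix (Fin n) (Fin n) F).det ≠ 0 := ((isUnit_iff_isUnit_det _).1 b.isUnit).ne_zero
    rw [show ((b : Matrix (Fin n) (Fin n) F).map K.bar).det = K.bar (b : Matrix (Fin n) (Fin n) F).det
      from (RingHom.map_det K.bar.toRingHom _).symm] at this
    exact mul_ne_zero hB1 ((_root_.map_ne_zero K.bar).2 hB1) this
  set B : Matrix (Fin n) (Fin n) F := ↑b with hB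
  set B' : Matrix (Fin n) (Fin n) F := ↑b' with hB'
  have hbb : ∀ X : Matrix (Fin n) (Fin n) F, (X.map K.bar).map K.bar = X := fun X =>
    Matrix.ext fun i j => K.bar_bar _
  -- the ratio of the scales is fixed
  have hfix : K.bar ((θ' : F) / θ) = (θ' : F) / θ := by
    have key : ∀ (X : Matrix (Fin n) (Fin n) F) (t : Fˣ), Xᵀ * X.map K.bar = (t : F) • M.map S.emb →
        (t : F) • (M.map S.emb)ᵀ = K.bar t • M.map S.emb := fun X t ht => by
      have e1 := congrArg Matrix.transpose ht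
      rw [transpose_mul, transpose_transpose, transpose_smul] at e1
      have e2 := congrArg (fun Y : Matrix (Fin n) (Fin n) F => Y.map K.bar) ht
      simp only [Matrix.map_mul, hbb, Matrix.map_smul' _ _ _ (map_mul K.bar), S.bar_map] at e2
      rw [← e2, ← e1, transpose_map]
    have k1 := congrArg (fun Y : Matrix (Fin n) (Fin n) F => (θ' : F) • Y) (key B θ h2)
    have k2 := congrArg (fun Y : Matrix (Fin n) (Fin n) F => (θ : F) • Y) (key B' θ' h2')
    simp only [smul_smul] at k1 k2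
    rw [mul_comm (θ : F), k1] at k2
    have hM1 : M.map S.emb ≠ 0 := fun h0 => hM0 (S.map_inj (by
      rw [h0, Matrix.map_zero _ (map_zero _)]))
    have e3 : ((θ' : F) * K.bar θ - θ * K.bar θ') • M.map S.emb = 0 := by
      rw [sub_smul, k2, sub_self]
    have := sub_eq_zero.1 ((smul_eq_zero.1 e3).resolve_right hM1)
    rw [map_div₀, div_eq_div_iff ((_root_.map_ne_zero K.bar).2 θ.ne_zero) θ.ne_zero]
    linear_combination -this
  obtain ⟨μ, hμ⟩ := K.exists_norm _ hfix
  have hμ0 : μ ≠ 0 := fun h0 => div_ne_zero θ'.ne_zero θ.ne_zero (by rw [← hμ, h0, zero_mul])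
  let ugl : GL (Fin n) F := b' * (scal (Units.mk0 μ hμ0) * b)⁻¹
  set U : Matrix (Fin n) (Fin n) F := ↑ugl with hU
  have hUB : U * (μ • B) = B' := by
    rw [← show ((scal (Units.mk0 μ hμ0) * b : GL (Fin n) F) : Matrix (Fin n) (Fin n) F) = μ • B from
      scal_mul_coe _ _, hU, ← Units.val_mul]
    simp [ugl, mul_assoc]
    rfl
  have hUB' : U.map K.bar * (K.bar μ • B.map K.bar) = B'.map K.bar := by
    rw [← Matrix.map_smul' _ _ _ (map_mul K.bar), ← Matrix.map_mul, hUB]
  have humem : ugl ∈ GU n F q := by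
    rw [mem_GU_iff K, ← hU]
    have e1 : (μ • B)ᵀ * (Uᵀ * U.map K.bar) * (K.bar μ • B.map K.bar) =
        (μ • B)ᵀ * 1 * (K.bar μ • B.map K.bar) := by
      calc _ = (U * (μ • B))ᵀ * (U.map K.bar * (K.bar μ • B.map K.bar)) := by
            rw [transpose_mul]; simp only [Matrix.mul_assoc]
        _ = (θ' : F) • M.map S.emb := by rw [hUB, hUB', h2']
        _ = _ := by
            rw [Matrix.mul_one, transpose_smul, Matrix.smul_mul, Matrix.mul_smul, smul_smul, h2,
              smul_smul, hμ, div_mul_cancel₀ _ θ.ne_zero]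
    have hu1 : IsUnit (μ • B)ᵀ := by
      rw [isUnit_iff_isUnit_det, det_transpose, det_smul]
      exact ((isUnit_iff_ne_zero.2 hμ0).pow _).mul ((isUnit_iff_isUnit_det _).1 b.isUnit)
    have hu2 : IsUnit (K.bar μ • B.map K.bar) := by
      rw [isUnit_iff_isUnit_det, det_smul]
      exact ((isUnit_iff_ne_zero.2 ((_root_.map_ne_zero K.bar).2 hμ0)).pow _).mul
        ((isUnit_iff_isUnit_det _).1 (mapGL K.bar b).isUnit)
    exact hu1.mul_left_cancel (hu2.mul_right_cancel e1)
  let u : GU n F q := ⟨ugl, humem⟩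
  refine ⟨(twist K p hn).δ u, by rw [inndiag_eq K p hn]; exact ⟨u, rfl⟩, ?_⟩
  rw [conj_gu, gu_eq_iff p hn]
  refine ⟨(lam' : F) / lam * (μ / K.bar μ), ?_⟩
  have hubar : ((((twist K p hn).act K.bar u)⁻¹ : GU n F q) : GL (Fin n) F) =
      (mapGL K.bar ugl)⁻¹ := rfl
  show _ = _ • ((ugl * (g : GL (Fin n) F) * (mapGL K.bar ugl)⁻¹ : GL (Fin n) F) :
    Matrix (Fin n) (Fin n) F)
  refine (mapGL K.bar (b' : GL (Fin n) F)).isUnit.mul_right_cancel ?_
  show _ * B'.map K.bar = _ • _ * B'.map K.bar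
  rw [h1', Matrix.smul_mul]
  conv_rhs => rw [← hUB']
  rw [Units.val_mul, Units.val_mul, Matrix.mul_assoc _ _ (U.map K.bar * _),
    ← Matrix.mul_assoc ((((mapGL K.bar ugl)⁻¹ : GL (Fin n) F)) : Matrix (Fin n) (Fin n) F),
    show ((((mapGL K.bar ugl)⁻¹ : GL (Fin n) F)) : Matrix (Fin n) (Fin n) F) * U.map K.bar = 1 from
      Units.inv_mul _, Matrix.one_mul, Matrix.mul_assoc, Matrix.mul_smul, h1, smul_smul]
  show (lam' : F) • B' = _
  rw [← hUB]
  simp only [Matrix.mul_smul, smul_smul]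
  congr 1
  field_simp [(_root_.map_ne_zero K.bar).2 hμ0]

include hn in
theorem Sub.cong_of_conj {g g' : GU n F q} {M M' : Matrix (Fin n) (Fin n) F₀}
    (h : S.Pres g M) (h' : S.Pres g' M') (hM : M'.det ≠ 0)
    (hc : Cfsg.IsConjUnder (inndiagPSU n F q) (gu K p hn g) (gu K p hn g')) : Cong M M' := by
  haveI : Nonempty (Fin n) := ⟨⟨0, by omega⟩⟩
  obtain ⟨b, lam, θ, h1, h2⟩ := h
  obtain ⟨b', lam', θ', h1', h2'⟩ := h'
  obtain ⟨x, hx, hx'⟩ := hc
  rw [inndiag_eq K p hn] at hx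
  obtain ⟨u, rfl⟩ := hx
  rw [conj_gu, gu_eq_iff p hn] at hx'
  obtain ⟨c, hc⟩ := hx'
  set G : Matrix (Fin n) (Fin n) F := ↑(g : GL (Fin n) F) with hG
  set G' : Matrix (Fin n) (Fin n) F := ↑(g' : GL (Fin n) F) with hG'
  set U : Matrix (Fin n) (Fin n) F := ↑(u : GL (Fin n) F) with hU
  set B : Matrix (Fin n) (Fin n) F := ↑b with hB
  set B' : Matrix (Fin n) (Fin n) F := ↑b' with hB'
  set Ui : Matrix (Fin n) (Fin n) F := ↑(mapGL K.bar (u : GL (Fin n) F))⁻¹ with hUi
  have hc' : G' = c • (U * G * Ui) := hc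
  have hUiU : Ui * U.map K.bar = 1 := Units.inv_mul _
  have hc0 : c ≠ 0 := fun h0 => by
    rw [h0, zero_smul] at hc'
    have := (g' : GL (Fin n) F).isUnit
    rw [← hG', hc'] at this
    exact not_isUnit_zero this
  have hswap : U * G = c⁻¹ • (G' * U.map K.bar) := by
    rw [hc', Matrix.smul_mul, smul_smul, inv_mul_cancel₀ hc0, one_smul, Matrix.mul_assoc, hUiU,
      Matrix.mul_one]
  -- `A = b'⁻¹ u b` is rational up to a scalar
  let agl : GL (Fin n) F := b'⁻¹ * (u : GL (Fin n) F) * b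
  set A : Matrix (Fin n) (Fin n) F := ↑agl with hA
  have hBA : B' * A = U * B := by
    rw [hA, hB', ← Units.val_mul]
    simp [agl, mul_assoc]
    rfl
  have hAbar : B'.map K.bar * A.map K.bar = U.map K.bar * B.map K.bar := by
    rw [← Matrix.map_mul, hBA, Matrix.map_mul]
  set κ : F := c⁻¹ * lam' / lam with hκ
  have hAA : A = κ • A.map K.bar := by
    have e : (lam : F) • (B' * A) = (c⁻¹ * lam') • (B' * A.map K.bar) := by
      rw [hBA, ← Matrix.mul_smul, ← h1, ← Matrix.mul_assoc, hswap, Matrix.smul_mul, Matrix.mul_assoc,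
        ← hAbar, ← Matrix.mul_assoc, h1', Matrix.smul_mul, smul_smul]
    refine (b' : GL (Fin n) F).isUnit.mul_left_cancel ?_
    show B' * A = B' * _
    rw [Matrix.mul_smul, hκ, div_eq_inv_mul, mul_smul, ← e, smul_smul,
      inv_mul_cancel₀ lam.ne_zero, one_smul]
  have hκn : κ * K.bar κ = 1 := by
    have hbb : (A.map K.bar).map K.bar = A := Matrix.ext fun i j => K.bar_bar _
    have e2 : A.map K.bar = K.bar κ • A := by
      conv_lhs => rw [hAA, Matrix.map_smul' _ _ _ (map_mul K.bar), hbb]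
    have e3 : (κ * K.bar κ - 1) • A = 0 := by
      rw [sub_smul, one_smul, mul_smul, ← e2, ← hAA, sub_self]
    exact sub_eq_zero.1 ((smul_eq_zero.1 e3).resolve_right fun h0 => by
      have := agl.isUnit
      rw [← hA, h0] at this
      exact not_isUnit_zero this)
  obtain ⟨μ, hμ⟩ := exists_div_bar (K := K) hκn
  have hfix : (((μ⁻¹ : Fˣ) : F) • A).map K.bar = ((μ⁻¹ : Fˣ) : F) • A := by
    rw [Matrix.map_smul' _ _ _ (map_mul K.bar)]
    conv_rhs => rw [hAA, smul_smul]
    congr 1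
    have h0 : K.bar (μ : F) ≠ 0 := (_root_.map_ne_zero K.bar).2 μ.ne_zero
    rw [Units.val_inv_eq_inv_val, map_inv₀]
    field_simp
    linear_combination -hμ
  obtain ⟨a, ha⟩ := S.exists_map hfix
  have ha' : A = (μ : F) • a.map S.emb := by rw [ha, smul_smul, Units.mul_inv, one_smul]
  have key : (μ * K.bar μ * θ') • (aᵀ * M' * a).map S.emb = (θ : F) • M.map S.emb := by
    rw [← h2]
    have hu : Uᵀ * U.map K.bar = 1 := (mem_GU_iff K).1 u.2
    calc _ = Aᵀ * ((θ' : F) • M'.map S.emb) * A.map K.bar := by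
          rw [ha', Matrix.map_smul' _ _ _ (map_mul K.bar), S.bar_map, transpose_smul, Matrix.map_mul,
            Matrix.map_mul, ← transpose_map]
          simp only [Matrix.smul_mul, Matrix.mul_smul, smul_smul]
          congr 1
          ring
      _ = (B' * A)ᵀ * (B'.map K.bar * A.map K.bar) := by
          rw [← h2', transpose_mul]; simp only [Matrix.mul_assoc]
      _ = Bᵀ * (Uᵀ * U.map K.bar) * B.map K.bar := by
          rw [hBA, hAbar, transpose_mul]; simp only [Matrix.mul_assoc]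
      _ = _ := by rw [hu, Matrix.mul_one]
  -- the scalar is rational
  have hadet : a.det ≠ 0 := fun h0 => by
    have := (isUnit_iff_isUnit_det _).1 agl.isUnit
    rw [← hA, ha', det_smul, S.det_map, h0, map_zero, mul_zero] at this
    exact not_isUnit_zero this
  have hN : (aᵀ * M' * a).det ≠ 0 := by
    rw [det_mul, det_mul, det_transpose]
    exact mul_ne_zero (mul_ne_zero hadet hM) hadet
  obtain ⟨i, j, hij⟩ : ∃ i j, (aᵀ * M' * a) i j ≠ 0 := by
    by_contra hcon
    push Not at hcon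
    exact hN (by rw [show aᵀ * M' * a = 0 from Matrix.ext hcon]; exact det_zero)
  set k : F₀ := M i j / (aᵀ * M' * a) i j with hk
  have hentry : ∀ i' j', (μ * K.bar μ * θ' : F) * S.emb ((aᵀ * M' * a) i' j') =
      (θ : F) * S.emb (M i' j') := fun i' j' => by
    have h := congrFun (congrFun key i') j'
    simpa only [Matrix.smul_apply, Matrix.map_apply, smul_eq_mul] using h
  have hfac : (μ * K.bar μ * θ' : F) = θ * S.emb k := by
    rw [hk, map_div₀]
    have hh := hentry i j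
    have h0 : S.emb ((aᵀ * M' * a) i j) ≠ 0 := (_root_.map_ne_zero S.emb).2 hij
    rw [← mul_div_assoc, eq_div_iff h0]
    exact hh
  have hMk : M = k • (aᵀ * M' * a) := by
    ext i' j'
    refine S.emb.injective (mul_left_cancel₀ θ.ne_zero ?_)
    rw [Matrix.smul_apply, smul_eq_mul, map_mul, ← hentry, hfac, mul_assoc]
  have hk0 : k ≠ 0 := fun h0 => by
    rw [h0, map_zero, mul_zero] at hfac
    exact mul_ne_zero (mul_ne_zero μ.ne_zero ((_root_.map_ne_zero K.bar).2 μ.ne_zero)) θ'.ne_zero hfac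
  exact Graph.Cong.symm' ⟨GeneralLinearGroup.mkOfDetNeZero a hadet, Units.mk0 k hk0, hMk⟩

end CfsgLib.ClassicalAut.Unitary
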