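import Cfsg.Agent.Lib.ClassicalAut.UnitaryGraph
import Cfsg.Agent.Lib.AutPSL.GraphPSLMain

set_option autoImplicit false

/-!
Centralisers and splitting of the involutory graph automorphisms of `PSU_n(q)`.
-/

namespace CfsgLib.ClassicalAut.Unitary

open Matrix Cfsg CfsgLib.AutPSL
open CfsgLib.AutPSL.Graph (Cong reGL reGL_coe)

universe u v

variable {F : Type u} [Field F] [Finite F] {q n : ℕ} {K : Conj F q} {F₀ : Type v} [Field F₀]
  (S : Sub K F₀) {ι : Type} [Fintype ι] [DecidableEq ι] (e : ι ≃ Fin n)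

namespace Sub

/-- A rational matrix inside `GL_n(F)`. -/
def up : GL ι F₀ →* GL (Fin n) F :=
  (Units.map S.emb.mapMatrix.toMonoidHom).comp (reGL e).toMonoidHom

omit [Finite F] in
theorem up_coe (a : GL ι F₀) : (S.up e a : Matrix (Fin n) (Fin n) F) =
    ((a : Matrix ι ι F₀).submatrix e.symm e.symm).map S.emb := rfl

omit [Finite F] in
theorem up_bar (a : GL ι F₀) :
    (S.up e a : Matrix (Fin n) (Fin n) F).map K.bar = S.up e a := S.bar_map _

omit [Finite F] in
theorem up_congr (M : Matrix ι ι F₀) (a : GL ι F₀) (c : F₀)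
    (h : (a : Matrix ι ι F₀)ᵀ * M * a = c • M) :
    (S.up e a : Matrix (Fin n) (Fin n) F)ᵀ * (M.submatrix e.symm e.symm).map S.emb * S.up e a =
      S.emb c • (M.submatrix e.symm e.symm).map S.emb := by
  rw [up_coe, ← transpose_map, ← Matrix.map_mul, ← Matrix.map_mul, transpose_submatrix,
    submatrix_mul_equiv, submatrix_mul_equiv, h]
  exact Matrix.map_smul' _ _ _ (map_mul S.emb)

/-- The data of a presentation on a model. -/
structure Data (g : GU n F q) (M : GL ι F₀) where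
  b : GL (Fin n) F
  lam : Fˣ
  θ : Fˣ
  h1 : ((g : GL (Fin n) F) : Matrix (Fin n) (Fin n) F) * (b : Matrix (Fin n) (Fin n) F).map K.bar =
    (lam : F) • (b : Matrix (Fin n) (Fin n) F)
  h2 : (b : Matrix (Fin n) (Fin n) F)ᵀ * (b : Matrix (Fin n) (Fin n) F).map K.bar =
    (θ : F) • ((M : Matrix ι ι F₀).submatrix e.symm e.symm).map S.emb

omit [Finite F] in
theorem exists_data {g : GU n F q} {M : GL ι F₀} (h : S.Pres g (reGL e M : Matrix (Fin n) (Fin n) F₀)) :
    Nonempty (S.Data e g M) := by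
  obtain ⟨b, lam, θ, h1, h2⟩ := h
  exact ⟨⟨b, lam, θ, h1, h2⟩⟩

variable {S e} {g : GU n F q} {M : GL ι F₀} (D : S.Data e g M)

/-- The unitary matrix of a similitude. -/
def lift (μ : Fˣ) (a : GL ι F₀) : GL (Fin n) F := scal μ * (D.b * S.up e a * D.b⁻¹)

omit [Finite F] in
theorem lift_b (μ : Fˣ) (a : GL ι F₀) :
    (lift D μ a : Matrix (Fin n) (Fin n) F) * D.b = (μ : F) • ((D.b : Matrix (Fin n) (Fin n) F) * S.up e a) := by
  rw [lift, scal_mul_coe, Matrix.smul_mul, Units.val_mul, Units.val_mul, Matrix.mul_assoc,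
    Units.inv_mul, Matrix.mul_one]

omit [Finite F] in
theorem lift_b_bar (μ : Fˣ) (a : GL ι F₀) :
    (lift D μ a : Matrix (Fin n) (Fin n) F).map K.bar * (D.b : Matrix (Fin n) (Fin n) F).map K.bar =
      K.bar μ • ((D.b : Matrix (Fin n) (Fin n) F).map K.bar * S.up e a) := by
  rw [← Matrix.map_mul, lift_b, Matrix.map_smul' _ _ _ (map_mul K.bar), Matrix.map_mul, S.up_bar]

omit [Finite F] in
theorem isUnit_bb : IsUnit ((D.b : Matrix (Fin n) (Fin n) F).map K.bar) :=
  (mapGL K.bar D.b).isUnit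

omit [Finite F] in
theorem isUnit_bT : IsUnit ((D.b : Matrix (Fin n) (Fin n) F)ᵀ) := by
  rw [isUnit_iff_isUnit_det, det_transpose, ← isUnit_iff_isUnit_det]
  exact D.b.isUnit

omit [Finite F] in
theorem lift_mem (μ : Fˣ) (a : GL ι F₀) (c : F₀ˣ)
    (ha : (a : Matrix ι ι F₀)ᵀ * M * a = (c : F₀) • (M : Matrix ι ι F₀))
    (hμ : (μ : F) * K.bar μ * S.emb c = 1) : lift D μ a ∈ GU n F q := by
  rw [mem_GU_iff K]
  set B : Matrix (Fin n) (Fin n) F := ↑D.b with hB
  set X : Matrix (Fin n) (Fin n) F := ↑(lift D μ a) with hX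
  have key : Bᵀ * (Xᵀ * X.map K.bar) * B.map K.bar = Bᵀ * 1 * B.map K.bar := by
    calc _ = (X * B)ᵀ * (X.map K.bar * B.map K.bar) := by
          rw [transpose_mul]; simp only [Matrix.mul_assoc]
      _ = ((μ : F) * K.bar μ) • ((S.up e a : Matrix (Fin n) (Fin n) F)ᵀ * (Bᵀ * B.map K.bar) * S.up e a) := by
          rw [hX, hB, lift_b, lift_b_bar, transpose_smul, transpose_mul]
          simp only [Matrix.smul_mul, Matrix.mul_smul, smul_smul, Matrix.mul_assoc]
          congr 1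
          ring
      _ = _ := by
          rw [hB, D.h2, Matrix.mul_smul, Matrix.smul_mul, S.up_congr e _ a _ ha, Matrix.mul_one, D.h2,
            smul_smul, smul_smul, mul_assoc ((μ : F) * K.bar μ), mul_comm (D.θ : F), ← mul_assoc, hμ,
            one_mul]
  exact (isUnit_bT D).mul_left_cancel ((isUnit_bb D).mul_right_cancel key)

omit [Finite F] in
theorem lift_comm (μ : Fˣ) (a : GL ι F₀) :
    (lift D μ a : Matrix (Fin n) (Fin n) F) * (g : GL (Fin n) F) = ((μ : F) / K.bar μ) •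
      (((g : GL (Fin n) F) : Matrix (Fin n) (Fin n) F) *
        (lift D μ a : Matrix (Fin n) (Fin n) F).map K.bar) := by
  refine (isUnit_bb D).mul_right_cancel ?_
  rw [Matrix.mul_assoc, D.h1, Matrix.mul_smul, lift_b, Matrix.smul_mul, Matrix.mul_assoc, lift_b_bar,
    Matrix.mul_smul, ← Matrix.mul_assoc, D.h1, Matrix.smul_mul, smul_smul, smul_smul, smul_smul]
  congr 1
  field_simp [(_root_.map_ne_zero K.bar).2 μ.ne_zero]

theorem exists_norm_emb (c : F₀ˣ) : ∃ μ : Fˣ, (μ : F) * K.bar μ * S.emb c = 1 := by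
  have h0 : S.emb c ≠ 0 := (_root_.map_ne_zero S.emb).2 c.ne_zero
  obtain ⟨d, hd⟩ := K.exists_norm (S.emb c)⁻¹ (by rw [map_inv₀, S.bar_emb])
  refine ⟨Units.mk0 d ?_, by rw [Units.val_mk0, hd, inv_mul_cancel₀ h0]⟩
  rintro rfl
  rw [zero_mul] at hd
  exact inv_ne_zero h0 hd.symm

theorem exists_of_commute [Nonempty (Fin n)] (u : GU n F q) {c : F}
    (hc : ((u : GL (Fin n) F) : Matrix (Fin n) (Fin n) F) * (g : GL (Fin n) F) =
      c • (((g : GL (Fin n) F) : Matrix (Fin n) (Fin n) F) *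
        ((u : GL (Fin n) F) : Matrix (Fin n) (Fin n) F).map K.bar)) :
    ∃ (μ : Fˣ) (a : GL ι F₀) (k : F₀ˣ), (u : GL (Fin n) F) = lift D μ a ∧
      (a : Matrix ι ι F₀)ᵀ * M * a = (k : F₀) • (M : Matrix ι ι F₀) ∧
      (μ : F) * K.bar μ * S.emb k = 1 := by
  set B : Matrix (Fin n) (Fin n) F := ↑D.b with hB
  set U : Matrix (Fin n) (Fin n) F := ↑(u : GL (Fin n) F) with hU
  set G : Matrix (Fin n) (Fin n) F := ↑(g : GL (Fin n) F) with hG
  let agl : GL (Fin n) F := D.b⁻¹ * (u : GL (Fin n) F) * D.b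
  set A : Matrix (Fin n) (Fin n) F := ↑agl with hA
  have hBA : B * A = U * B := by
    rw [hA, hB, ← Units.val_mul]
    simp [agl, mul_assoc]
    rfl
  have hBAb : B.map K.bar * A.map K.bar = U.map K.bar * B.map K.bar := by
    rw [← Matrix.map_mul, hBA, Matrix.map_mul]
  have hbb : ∀ X : Matrix (Fin n) (Fin n) F, (X.map K.bar).map K.bar = X := fun X =>
    Matrix.ext fun i j => K.bar_bar _
  have hA1 : A = c • A.map K.bar := by
    refine (D.b.isUnit).mul_left_cancel ?_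
    show B * A = B * _
    have e1 : (D.lam : F) • (B * A) = (D.lam : F) • (B * (c • A.map K.bar)) := by
      rw [hBA, ← Matrix.mul_smul, ← D.h1, ← Matrix.mul_assoc, hc, Matrix.smul_mul, Matrix.mul_assoc,
        ← hBAb, ← Matrix.mul_assoc, D.h1, Matrix.smul_mul, Matrix.mul_smul, smul_smul, smul_smul,
        mul_comm]
    have := congrArg (fun X => ((D.lam⁻¹ : Fˣ) : F) • X) e1
    simpa only [smul_smul, Units.inv_mul, one_smul] using this
  have hA0 : A ≠ 0 := fun h0 => by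
    have := agl.isUnit
    rw [← hA, h0] at this
    exact not_isUnit_zero this
  have hcn : c * K.bar c = 1 := by
    have e2 : A.map K.bar = K.bar c • A := by
      conv_lhs => rw [hA1, Matrix.map_smul' _ _ _ (map_mul K.bar), hbb]
    have e3 : (c * K.bar c - 1) • A = 0 := by
      rw [sub_smul, one_smul, mul_smul, ← e2, ← hA1, sub_self]
    exact sub_eq_zero.1 ((smul_eq_zero.1 e3).resolve_right hA0)
  obtain ⟨μ, hμ⟩ := exists_div_bar (K := K) hcn
  obtain ⟨a₁, ha₁⟩ := S.exists_map (A := ((μ⁻¹ : Fˣ) : F) • A) (by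
    rw [Matrix.map_smul' _ _ _ (map_mul K.bar)]
    conv_rhs => rw [hA1, smul_smul]
    congr 1
    have h0 : K.bar (μ : F) ≠ 0 := (_root_.map_ne_zero K.bar).2 μ.ne_zero
    rw [Units.val_inv_eq_inv_val, map_inv₀]
    field_simp
    linear_combination -hμ)
  have hd : a₁.det ≠ 0 := fun h0 => by
    have := congrArg Matrix.det ha₁
    rw [S.det_map, h0, map_zero, det_smul] at this
    exact mul_ne_zero (pow_ne_zero _ (Units.ne_zero _))
      ((isUnit_iff_isUnit_det _).1 agl.isUnit).ne_zero this.symm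
  obtain ⟨a, ha⟩ := (reGL e).surjective (GeneralLinearGroup.mkOfDetNeZero a₁ hd)
  have hup : (S.up e a : Matrix (Fin n) (Fin n) F) = ((μ⁻¹ : Fˣ) : F) • A := by
    rw [← ha₁]
    show ((reGL e a : GL (Fin n) F₀) : Matrix (Fin n) (Fin n) F₀).map S.emb = _
    rw [ha]
    rfl
  have hlift : (u : GL (Fin n) F) = lift D μ a := by
    apply Units.ext
    refine D.b.isUnit.mul_right_cancel ?_
    show U * B = _
    rw [lift_b, hup, Matrix.mul_smul, smul_smul, Units.mul_inv, one_smul, hBA]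
  obtain ⟨k, hk⟩ := (S.fixed (((μ : F) * K.bar μ)⁻¹)).1 (by
    rw [map_inv₀, map_mul, K.bar_bar, mul_comm])
  have hμ0 : (μ : F) * K.bar μ ≠ 0 := mul_ne_zero μ.ne_zero ((_root_.map_ne_zero K.bar).2 μ.ne_zero)
  have hk0 : k ≠ 0 := fun h0 => inv_ne_zero hμ0 (by rw [← hk, h0, map_zero])
  refine ⟨μ, a, Units.mk0 k hk0, hlift, ?_, by rw [Units.val_mk0, hk, mul_inv_cancel₀ hμ0]⟩
  set P : Matrix (Fin n) (Fin n) F := ((M : Matrix ι ι F₀).submatrix e.symm e.symm).map S.emb with hP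
  set E : Matrix (Fin n) (Fin n) F := ↑(S.up e a) with hE
  have hu : Uᵀ * U.map K.bar = 1 := (mem_GU_iff K).1 u.2
  have key : (D.θ : F) • P = ((μ : F) * K.bar μ * D.θ) • (Eᵀ * P * E) := by
    calc (D.θ : F) • P = Bᵀ * B.map K.bar := D.h2.symm
      _ = (U * B)ᵀ * (U.map K.bar * B.map K.bar) := by
          rw [transpose_mul, Matrix.mul_assoc, ← Matrix.mul_assoc Uᵀ, hu, Matrix.one_mul]
      _ = _ := by
          rw [hU, hB, hlift, lift_b, lift_b_bar, transpose_smul, transpose_mul, ← hE]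
          simp only [Matrix.smul_mul, Matrix.mul_smul, smul_smul]
          rw [Matrix.mul_assoc Eᵀ, ← Matrix.mul_assoc _ _ E, D.h2, Matrix.smul_mul, Matrix.mul_smul,
            smul_smul, ← hP, ← Matrix.mul_assoc]
          congr 1
          ring
  have key2 : Eᵀ * P * E = S.emb k • P := by
    have h := congrArg (fun X => (((μ : F) * K.bar μ)⁻¹ * ((D.θ⁻¹ : Fˣ) : F)) • X) key
    simp only [smul_smul] at h
    have e0 : ((μ : F) * K.bar μ)⁻¹ * ((D.θ⁻¹ : Fˣ) : F) * ((μ : F) * K.bar μ * D.θ) = 1 := by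
      rw [Units.val_inv_eq_inv_val]
      field_simp [D.θ.ne_zero, hμ0]
    have e1 : ((μ : F) * K.bar μ)⁻¹ * ((D.θ⁻¹ : Fˣ) : F) * D.θ = S.emb k := by
      rw [mul_assoc, Units.inv_mul, mul_one, hk]
    rw [e0, e1, one_smul] at h
    exact h.symm
  rw [hE, S.up_coe, hP, ← transpose_map, ← Matrix.map_mul, ← Matrix.map_mul, transpose_submatrix,
    submatrix_mul_equiv, submatrix_mul_equiv, ← Matrix.map_smul' _ _ _ (map_mul S.emb)] at key2
  have h := S.map_inj key2
  ext i j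
  simpa using congrFun (congrFun h (e i)) (e j)

variable (p : ℕ) [Fact p.Prime] [CharP F p] (hn : 3 ≤ n)

include D in
theorem centralizer_equiv (H : Subgroup (GL ι F₀))
    (hH : ∀ h : GL ι F₀, h ∈ H ↔ ∃ c : F₀ˣ,
      (h : Matrix ι ι F₀)ᵀ * M * h = (c : F₀) • (M : Matrix ι ι F₀)) :
    Nonempty (↥(inndiagPSU n F q ⊓ Subgroup.centralizer {gu K p hn g}) ≃* Cfsg.projQuot H) := by
  haveI : Nonempty (Fin n) := ⟨⟨0, by omega⟩⟩
  rw [inndiag_eq K p hn]
  have hex : ∀ a : H, ∃ w : GU n F q, Commute ((twist K p hn).δ w) (gu K p hn g) ∧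
      ∃ μ : Fˣ, (w : GL (Fin n) F) = lift D μ a := fun a => by
    obtain ⟨c, hc⟩ := (hH a).1 a.2
    obtain ⟨μ, hμ⟩ := exists_norm_emb (S := S) c
    refine ⟨⟨_, lift_mem D μ a c hc hμ⟩, (commute_gu_iff p hn _ g).2 ⟨_, lift_comm D μ a⟩, μ, rfl⟩
  choose w hwc μ hw using hex
  have prop : ∀ (x : GU n F q) (ν : Fˣ) (a : H), (x : GL (Fin n) F) = lift D ν a →
      (twist K p hn).δ x = (twist K p hn).δ (w a) := fun x ν a hx => by
    refine (delta_eq_iff p hn).2 ⟨(ν : F) / μ a, ?_⟩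
    rw [hx, hw, lift, lift, scal_mul_coe, scal_mul_coe, smul_smul, div_mul_cancel₀ _ (μ a).ne_zero]
  let ψ : H →* ↥((twist K p hn).δ.range ⊓ Subgroup.centralizer {gu K p hn g}) :=
    MonoidHom.mk' (fun a => ⟨(twist K p hn).δ (w a), ⟨w a, rfl⟩,
      Subgroup.mem_centralizer_singleton_iff.2 (hwc a).eq⟩) fun a a' => Subtype.ext (by
      show (twist K p hn).δ (w (a * a')) = (twist K p hn).δ (w a) * (twist K p hn).δ (w a')
      rw [← map_mul]
      refine (prop _ (μ a * μ a') (a * a') ?_).symm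
      rw [Subgroup.coe_mul, hw, hw]
      apply Units.ext
      simp only [lift, Units.val_mul, Subgroup.coe_mul, map_mul, scal_coe, Matrix.smul_mul,
        Matrix.one_mul, Matrix.mul_smul, smul_smul, Matrix.mul_assoc]
      rw [← Matrix.mul_assoc (((D.b⁻¹ : GL (Fin n) F)) : Matrix (Fin n) (Fin n) F), Units.inv_mul,
        Matrix.one_mul, mul_comm (μ a' : F)])
  have hsurj : Function.Surjective ψ := by
    rintro ⟨y, ⟨x, rfl⟩, hy⟩
    obtain ⟨c, hc⟩ := (commute_gu_iff p hn x g).1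
      (commute_iff_eq _ _ |>.2 (Subgroup.mem_centralizer_singleton_iff.1 hy))
    obtain ⟨ν, a, k, hx, ha, -⟩ := exists_of_commute D x hc
    exact ⟨⟨a, (hH a).2 ⟨k, ha⟩⟩, Subtype.ext (prop x ν ⟨a, (hH a).2 ⟨k, ha⟩⟩ hx).symm⟩
  have hker : ψ.ker = (Cfsg.Geo.scalars ι F₀).subgroupOf H := by
    ext a
    rw [MonoidHom.mem_ker, Subgroup.mem_subgroupOf, ← OneMemClass.coe_eq_one]
    show (twist K p hn).δ (w a) = 1 ↔ _
    rw [← map_one (twist K p hn).δ, delta_eq_iff p hn, Cfsg.Geo.mem_scalars_iff, hw, lift, scal_mul_coe]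
    have hB : IsUnit (D.b : Matrix (Fin n) (Fin n) F) := D.b.isUnit
    constructor
    · rintro ⟨c, hc⟩
      have h1 : (S.up e a : Matrix (Fin n) (Fin n) F) = ((((μ a)⁻¹ : Fˣ) : F) * c) • 1 := by
        have h2 := congrArg (fun X => (((μ a)⁻¹ : Fˣ) : F) • X) hc
        simp only [smul_smul, Units.inv_mul, one_smul, OneMemClass.coe_one, Units.val_one,
          Units.val_mul] at h2
        refine hB.mul_left_cancel ?_
        have h3 := congrArg (fun X => X * (D.b : Matrix (Fin n) (Fin n) F)) h2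
        simp only [Matrix.mul_assoc, Units.inv_mul, Matrix.mul_one, Matrix.smul_mul, Matrix.one_mul] at h3
        rw [h3, Matrix.mul_smul, Matrix.mul_one]
      have hfix : ∀ i j, (a : GL ι F₀) i j = if i = j then (a : GL ι F₀) (e.symm ⟨0, by omega⟩) (e.symm ⟨0, by omega⟩) else 0 := by
        intro i j
        have hij := congrFun (congrFun h1 (e i)) (e j)
        have h00 := congrFun (congrFun h1 ⟨0, by omega⟩) ⟨0, by omega⟩
        simp only [up_coe, Matrix.map_apply, submatrix_apply, Equiv.symm_apply_apply, Matrix.smul_apply,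
          Matrix.one_apply, e.injective.eq_iff] at hij h00
        apply S.emb.injective
        by_cases h : i = j
        · rw [if_pos h, hij, h00, if_pos h]; simp
        · rw [if_neg h, hij, if_neg h, smul_zero, map_zero]
      set s := (a : GL ι F₀) (e.symm ⟨0, by omega⟩) (e.symm ⟨0, by omega⟩)
      have hs : s ≠ 0 := fun h0 => by
        haveI : Nonempty ι := ⟨e.symm ⟨0, by omega⟩⟩
        have hz : ((a : GL ι F₀) : Matrix ι ι F₀) = 0 := Matrix.ext fun i j => by
          rw [hfix, h0]; simp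
        have := (a : GL ι F₀).isUnit
        rw [hz] at this
        exact not_isUnit_zero this
      exact ⟨Units.mk0 s hs, Matrix.ext fun i j => by rw [hfix]; simp [Matrix.one_apply]⟩
    · rintro ⟨c, hc⟩
      refine ⟨(μ a : F) * S.emb c, ?_⟩
      have h1 : (S.up e a : Matrix (Fin n) (Fin n) F) = S.emb c • 1 := by
        rw [up_coe, hc, submatrix_smul, Pi.smul_apply, Pi.smul_apply, submatrix_one_equiv,
          Matrix.map_smul' _ _ _ (map_mul S.emb), Matrix.map_one _ (map_zero _) (map_one _)]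
      rw [Units.val_mul, Units.val_mul, h1, Matrix.mul_smul, Matrix.mul_one, Matrix.smul_mul,
        Units.mul_inv, smul_smul, OneMemClass.coe_one, Units.val_one]
  exact ⟨(QuotientGroup.quotientKerEquivOfSurjective ψ hsurj).symm.trans
    (QuotientGroup.quotientMulEquivOfEq hker)⟩

include D in
/-- The splitting number. -/
theorem split (P₀ : Subgroup (normOne K)) (hle : (powMonoidHom n : normOne K →* normOne K).range ≤ P₀)
    (hP1 : ∀ (a : GL ι F₀) (c : F₀ˣ) (μ : Fˣ) (d : normOne K),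
      (a : Matrix ι ι F₀)ᵀ * M * a = (c : F₀) • (M : Matrix ι ι F₀) →
      (μ : F) * K.bar μ * S.emb c = 1 →
      ((d : Fˣ) : F) = (μ : F) ^ n * S.emb (a : Matrix ι ι F₀).det → d ∈ P₀)
    (hP2 : ∀ d ∈ P₀, ∃ (a : GL ι F₀) (c : F₀ˣ) (μ : Fˣ),
      (a : Matrix ι ι F₀)ᵀ * M * a = (c : F₀) • (M : Matrix ι ι F₀) ∧
      (μ : F) * K.bar μ * S.emb c = 1 ∧
      ((d : Fˣ) : F) = (μ : F) ^ n * S.emb (a : Matrix ι ι F₀).det) :
    Cfsg.splitClassCount (inndiagPSU n F q) (Cfsg.Inn (PSU n F q)) (gu K p hn g) = P₀.index := by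
  haveI : Nonempty (Fin n) := ⟨⟨0, by omega⟩⟩
  have hdet : ∀ (μ : Fˣ) (a : GL ι F₀),
      (lift D μ a : Matrix (Fin n) (Fin n) F).det = (μ : F) ^ n * S.emb (a : Matrix ι ι F₀).det := by
    intro μ a
    rw [lift, scal_mul_coe, det_smul, Fintype.card_fin, Units.val_mul, Units.val_mul, det_units_conj,
      up_coe, S.det_map, det_submatrix_equiv_self]
  have hn0 : 0 < n := Nat.lt_of_lt_of_le (by norm_num) hn
  rw [inndiag_eq K p hn, split_general (A := normOne K ⧸ (powMonoidHom n : normOne K →* normOne K).range) (twist K p hn).δ (nu n K) (nu_surjective K hn0)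
    (fun h => nu_eq_one_iff K p hn h) (twist K p hn).inn_le (gu K p hn g)
    (show Subgroup (normOne K ⧸ (powMonoidHom n : normOne K →* normOne K).range) from
      P₀.map (QuotientGroup.mk' _)) (fun h hh => ?_)
    (fun c hc => ?_),
    Subgroup.index_map_eq _ (QuotientGroup.mk'_surjective _) (by rw [QuotientGroup.ker_mk']; exact hle)]
  · obtain ⟨c, hc⟩ := (commute_gu_iff p hn h g).1 hh
    obtain ⟨μ, a, k, hl, ha, hμ⟩ := exists_of_commute D h hc
    refine ⟨det1 n K h, hP1 a k μ _ ha hμ ?_, rfl⟩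
    show ((h : GL (Fin n) F) : Matrix (Fin n) (Fin n) F).det = _
    rw [hl, hdet]
  · obtain ⟨d, hd, rfl⟩ := hc
    obtain ⟨a, c, μ, ha, hμ, hdd⟩ := hP2 d hd
    refine ⟨⟨_, lift_mem D μ a c ha hμ⟩, ?_, (commute_gu_iff p hn _ g).2 ⟨_, lift_comm D μ a⟩⟩
    show QuotientGroup.mk' _ (det1 n K _) = _
    congr 1
    apply Subtype.ext
    apply Units.ext
    show (lift D μ a : Matrix (Fin n) (Fin n) F).det = _
    rw [hdet, hdd]

end Sub

end CfsgLib.ClassicalAut.Unitary
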